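import Cfsg.Agent.Lib.TwistAut.OutCount
import Cfsg.Agent.Lib.TwistedStr.TorusD4
import Cfsg.Agent.Lib.AutPSL.FieldGalois

/-! The outer automorphism group of ³D₄. -/

set_option autoImplicit false

namespace CfsgLib.TwistAut

open Cfsg.Lie CfsgLib.ChevStr CfsgLib.Twisted
open scoped MatrixGroups

/-- The first node of each orbit. -/
def d4Lead : Fin 2 → Fin chevD4.rank
  | 0 => nodeD4 0
  | 1 => nodeD4 1

/-- The other nodes of each orbit. -/
def d4Rest : Fin 2 → List (Fin chevD4.rank)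
  | 0 => [nodeD4 2, nodeD4 3]
  | 1 => []

/-- The orbit of a node. -/
def d4Orb (j : Fin chevD4.rank) : Fin 2 := [0, 1, 0, 0].getD j.val 0

/-- A word for the longest element. -/
def d4Long : List (Fin chevD4.rank) :=
  (List.replicate 3 [nodeD4 0, nodeD4 2, nodeD4 3, nodeD4 1]).flatten

theorem d4_orbit_tables : (∀ i, ∀ j ∈ d4Lead i :: d4Rest i, j ∈ nodesD4 i ∧ d4Orb j = i) ∧
    (∀ i, ∀ j ∈ d4Rest i, chevD4.cartan j.val (chevD4.simple (d4Lead i).val) = 0) ∧
    (∀ i, ∀ j ∈ nodesD4 i, chevD4.IsNegRoot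
      (reflDataD4.wordPerm (d4Lead i :: d4Rest i) ⟨chevD4.simple j.val, rootDataD4.simple_lt j⟩)) := by
  decide +kernel

theorem d4_long_neg : ∀ j : Fin chevD4.rank, chevD4.IsNegRoot
    (reflDataD4.wordPerm d4Long ⟨chevD4.simple j.val, rootDataD4.simple_lt j⟩) := by decide +kernel

theorem d4_long_opp : ∀ i, ∀ r : Fin chevD4.nroots, chevD4.IsNegRoot r →
    SuppIn rootDataD4 (nodesD4 i) r → chevD4.IsPosRoot (reflDataD4.wordPerm d4Long r) ∧
      SuppIn rootDataD4 (nodesD4 i) (reflDataD4.wordPerm d4Long r) := by decide +kernel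

theorem d4_pairs : ∀ i, (d4Lead i :: d4Rest i).Pairwise
    fun a b => CommPair chevD4 (chevD4.simple a.val) (chevD4.simple b.val) := by
  obtain ⟨h0, h1, h2⟩ := d4_commPairs
  intro i
  fin_cases i <;> simp [d4Lead, d4Rest, nodeD4, h0, h1, h2]

theorem d4_link : chevD4.cartan 1 (chevD4.simple 0) = -1 := by decide +kernel

variable (K : Type*) [Field K] [Fintype K] {p n : ℕ} [Fact p.Prime] [CharP K p]
  (hn : Fintype.card K = (p ^ n) * (p ^ n) * (p ^ n)) (hq : 2 ≤ p ^ n)

include hn in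
theorem pow_cardD4 (t : K) : t ^ p ^ (3 * n) = t := by
  rw [show 3 * n = n + n + n by ring, pow_add, pow_add, ← hn, FiniteField.pow_card]

include hn hq

theorem card_fixD4 : Nat.card {t : K // t ^ p ^ n = t} = p ^ n := by
  refine card_pow_eq_self (F := K) hq ?_
  rw [hn, show p ^ n * p ^ n * p ^ n = (p ^ n) ^ 3 by ring]
  simpa using Nat.sub_dvd_pow_sub_pow (p ^ n) 1 3

/-- The orbit data of ³D₄. -/
def setupD4Aut : Setup (gensD4 K hn hq) p where
  lead := d4Lead
  rest := d4Rest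
  e j := if j.val = 2 then n else if j.val = 3 then n * 2 else 0
  m i := if i.val = 0 then 3 * n else n
  orb := d4Orb
  e_lead i := by fin_cases i <;> rfl
  mem_J i j hj := (d4_orbit_tables.1 i j hj).1
  orb_eq i j hj := (d4_orbit_tables.1 i j hj).2
  comm := d4_pairs
  orth := d4_orbit_tables.2.1
  wneg := d4_orbit_tables.2.2
  mem i t ht := by
    obtain ⟨s0, s1, s2, s3, m0, m1, m2, m3⟩ := d4_simples
    fin_cases i <;> simp [X, Xc, Xn, oprod, d4Lead, d4Rest, nodeD4, s0, s1, s2, s3, m0, m1, m2,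
      m3, pow_mul] at ht ⊢
    · constructor
      · have h := (coreD4 K).wordGL_mem_gen (W := d4Words K (p ^ n))
          (Or.inr ⟨t, (d4p1, d4p3, d4p4), by simp, rfl⟩)
        simp only [ChevCore.wordGL_cons, ChevCore.wordGL_nil, mul_one] at h
        exact h
      · have h := (coreD4 K).wordGL_mem_gen (W := d4Words K (p ^ n))
          (Or.inr ⟨t, (d4m1, d4m3, d4m4), by simp, rfl⟩)
        simp only [ChevCore.wordGL_cons, ChevCore.wordGL_nil, mul_one] at h
        exact h
    · constructor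
      · have h := (coreD4 K).wordGL_mem_gen (W := d4Words K (p ^ n))
          (Or.inl ⟨t, ht, d4p2, by simp, rfl⟩)
        simp only [ChevCore.wordGL_cons, ChevCore.wordGL_nil, mul_one] at h
        exact h
      · have h := (coreD4 K).wordGL_mem_gen (W := d4Words K (p ^ n))
          (Or.inl ⟨t, ht, d4m2, by simp, rfl⟩)
        simp only [ChevCore.wordGL_cons, ChevCore.wordGL_nil, mul_one] at h
        exact h
  gen_le K' hK' := by
    obtain ⟨s0, s1, s2, s3, m0, m1, m2, m3⟩ := d4_simples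
    refine (Subgroup.closure_le _).2 ?_
    rintro x ⟨w, hw, hx⟩
    obtain rfl : x = (coreD4 K).wordGL w := Units.ext (hx.trans ((coreD4 K).coe_wordGL w).symm)
    rcases hw with ⟨t, ht, r, hr, rfl⟩ | ⟨t, rs, hrs, rfl⟩
    · simp only [List.mem_cons, List.not_mem_nil, or_false] at hr
      have h1 := hK' 1 t (by simpa using ht)
      simp [X, Xc, Xn, oprod, d4Lead, d4Rest, nodeD4, s1, m1] at h1
      rcases hr with rfl | rfl <;>
        simp only [ChevCore.wordGL_cons, ChevCore.wordGL_nil, mul_one, SetLike.mem_coe]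
      exacts [h1.1, h1.2]
    · simp only [List.mem_cons, List.not_mem_nil, or_false] at hrs
      have h0 := hK' 0 t (by simpa using pow_cardD4 K hn t)
      simp [X, Xc, Xn, oprod, d4Lead, d4Rest, nodeD4, s0, s2, s3, m0, m2, m3, pow_mul] at h0
      rcases hrs with rfl | rfl <;>
        simp only [ChevCore.wordGL_cons, ChevCore.wordGL_nil, mul_one, SetLike.mem_coe]
      exacts [h0.1, h0.2]
  card_in i := by
    show Nat.card ↥((frobD4 K p n).fixU (inRoots (coreD4 K).R (nodesD4 i))) = _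
    rw [inD4]
    fin_cases i
    · refine (tripleD4 K hn).2.trans ?_
      rw [← Nat.card_eq_fintype_card (α := K)]
      exact (Nat.card_congr (Equiv.subtypeUnivEquiv (pow_cardD4 K hn))).symm
    · exact (singleD4 K hn hq).2.trans (card_fixD4 K hn hq).symm
  opp := opp_of_word d4Long d4_long_neg d4_long_opp

theorem perm_fixD4 (ψ : ↥(twistedD4 K (p ^ n)) ≃* ↥(twistedD4 K (p ^ n))) (_hψ : Normal ψ)
    (P : Perm (gensD4 K hn hq) ψ) : ∀ i, P.π i = i := by
  have h0 := (setupD4Aut K hn hq).card_in (0 : Fin 2)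
  have h1 := (setupD4Aut K hn hq).card_in (1 : Fin 2)
  change _ = Nat.card {t : K // t ^ p ^ (3 * n) = t} at h0
  change _ = Nat.card {t : K // t ^ p ^ n = t} at h1
  rw [Nat.card_congr (Equiv.subtypeUnivEquiv (pow_cardD4 K hn)), Nat.card_eq_fintype_card (α := K), hn] at h0
  rw [card_fixD4 K hn hq] at h1
  have hlt : p ^ n < p ^ n * p ^ n * p ^ n :=
    lt_mul_of_one_lt_left (by omega) (Nat.one_lt_mul_iff.2 ⟨by omega, by omega, Or.inl (by omega)⟩)
  intro i
  have h := Perm.card_eq _ P i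
  rcases Fin.exists_fin_two.1 ⟨P.π i, rfl⟩ with e | e <;>
    rcases Fin.exists_fin_two.1 ⟨i, rfl⟩ with e' | e' <;>
    rw [e, e'] <;> rw [e, e', h0, h1] at h <;> omega

theorem linkD4 (ψ : ↥(twistedD4 K (p ^ n)) ≃* ↥(twistedD4 K (p ^ n)))
    (A : Std (setupD4Aut K hn hq) ψ) :
    ∀ i, ∀ t ∈ (setupD4Aut K hn hq).Fld i, A.σfun i t = A.σfun (0 : Fin 2) t := by
  have k0 : chevD4.simple 0 < chevD4.nroots := rootDataD4.simple_lt (nodeD4 0)
  have hchi : ∀ c : Kˣ, (setupD4Aut K hn hq).chi 1 0 c = c⁻¹ := fun c => by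
    simp [setupD4Aut, Setup.chi, Setup.L, Setup.E, par, d4Lead, d4Rest, nodeD4,
      RootData.torusChar_single, k0, d4_link]
  intro i t ht
  fin_cases i
  · rfl
  · exact (A.link (k := (0 : Fin 2)) (fun c _ => hchi c) ht).symm

theorem card_out_twistedD4 : Nat.card (Cfsg.Out ↥(twistedD4 K (p ^ n))) = 3 * n := by
  set S := setupD4Aut K hn hq
  have h := S.card_out (n := n) KnownSimple.chainTableOK_chevD4 (perm_fixD4 K hn hq)
    (by rw [Nat.card_eq_fintype_card, hn]; ring) (0 : Fin 2)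
    (fun t => show t ^ p ^ (3 * n) = t from pow_cardD4 K hn t) (linkD4 K hn hq)
  have hK : Fintype.card K = p ^ (3 * n) := by rw [hn, ← pow_add, ← pow_add]; congr 1; ring
  rw [FieldGalois.card_ringAut hK, S.card_coeffs, Fin.prod_univ_two] at h
  change Nat.card (Cfsg.Out ↥(twistedD4 K (p ^ n))) * _ =
    (Nat.card {t : K // t ^ p ^ (3 * n) = t} - 1) * (Nat.card {t : K // t ^ p ^ n = t} - 1) *
      (3 * n) at h
  rw [Nat.card_congr (Equiv.subtypeUnivEquiv (pow_cardD4 K hn)), Nat.card_eq_fintype_card (α := K), hn,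
    card_fixD4 K hn hq] at h
  refine Nat.eq_of_mul_eq_mul_right (Nat.card_pos (α := ↥(tor (twistedD4 K (p ^ n))))) ?_
  rw [h, show Nat.card ↥(tor (twistedD4 K (p ^ n))) = _ from card_H1D4 K hn hq,
    show (p ^ n) ^ 3 = p ^ n * p ^ n * p ^ n by ring]
  ring

end CfsgLib.TwistAut
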