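import Cfsg.Agent.Lib.TwistedStr.Card
import Cfsg.Agent.Lib.KnownSimple.ChevPSylow

/-!
Facts about `B1`, the minimal parabolic subgroups and the orbit subgroups of a twisted group, used
to put an automorphism in standard form.
-/

set_option autoImplicit false

namespace CfsgLib.TwistAut

open Cfsg.Lie CfsgLib.ChevStr CfsgLib.Twisted
open scoped MatrixGroups

variable {D : ChevalleyDatum} {F : Type*} [Field F] {C : ChevCore D F}

/-- The positive unipotent part of a subgroup. -/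
abbrev pU (G1 : Subgroup (GL D.Idx F)) : Subgroup (GL D.Idx F) := D.posUnipotent F ⊓ G1

/-- The negative unipotent part of a subgroup. -/
abbrev nU (G1 : Subgroup (GL D.Idx F)) : Subgroup (GL D.Idx F) := D.negUnipotent F ⊓ G1

/-- The Borel part of a subgroup. -/
abbrev bor (G1 : Subgroup (GL D.Idx F)) : Subgroup (GL D.Idx F) := D.borelSubgroup F ⊓ G1

/-- The diagonal part of a subgroup. -/
abbrev tor (G1 : Subgroup (GL D.Idx F)) : Subgroup (GL D.Idx F) := D.diagonalSubgroup F ⊓ G1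

theorem pU_le_bor (G1 : Subgroup (GL D.Idx F)) : pU G1 ≤ bor G1 :=
  inf_le_inf_right _ le_sup_left

theorem tor_le_bor (G1 : Subgroup (GL D.Idx F)) : tor G1 ≤ bor G1 :=
  inf_le_inf_right _ le_sup_right

/-- The double coset of `n` for the Borel part. -/
def Cell (G1 : Subgroup (GL D.Idx F)) (n x : GL D.Idx F) : Prop :=
  ∃ a ∈ bor G1, ∃ b ∈ bor G1, x = a * n * b

section cell

variable {G1 : Subgroup (GL D.Idx F)} {n m x y : GL D.Idx F}

theorem cell_self : Cell G1 n n := ⟨1, one_mem _, 1, one_mem _, by simp⟩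

theorem Cell.mul {a b : GL D.Idx F} (h : Cell G1 n x) (ha : a ∈ bor G1) (hb : b ∈ bor G1) :
    Cell G1 n (a * x * b) := by
  obtain ⟨c, hc, e, he, rfl⟩ := h
  exact ⟨a * c, mul_mem ha hc, e * b, mul_mem he hb, by group⟩

theorem Cell.symm (h : Cell G1 n x) : Cell G1 x n := by
  obtain ⟨a, ha, b, hb, rfl⟩ := h
  exact ⟨a⁻¹, inv_mem ha, b⁻¹, inv_mem hb, by group⟩

theorem Cell.trans (h : Cell G1 n x) (h' : Cell G1 x y) : Cell G1 n y := by
  obtain ⟨a, ha, b, hb, rfl⟩ := h'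
  exact h.mul ha hb

theorem Cell.mem (hn : n ∈ G1) (h : Cell G1 n x) : x ∈ G1 := by
  obtain ⟨a, ha, b, hb, rfl⟩ := h
  exact mul_mem (mul_mem ha.2 hn) hb.2

theorem Cell.not_bor (hn : n ∉ bor G1) (h : Cell G1 n x) : x ∉ bor G1 := fun hx => by
  obtain ⟨a, ha, b, hb, rfl⟩ := h
  exact hn (by simpa [mul_assoc] using mul_mem (mul_mem (inv_mem ha) hx) (inv_mem hb))

theorem Cell.bigCell (C : ChevCore D F) (h : Cell G1 n x) : x ∈ C.bigCell n := by
  obtain ⟨a, ha, b, hb, rfl⟩ := h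
  exact C.mem_bigCell.2 ⟨a, ha.1, b, hb.1, rfl⟩

end cell

variable {φ : Frob C} {I : Type} {O : OrbitData C.R φ.ρ I} {G1 : Subgroup (GL D.Idx F)} {d : ℕ}

/-- Roots of an orbit turned negative make their opposites positive. -/
theorem pos_of_negIn {J : Finset (Fin D.rank)} {w : Equiv.Perm (Fin D.nroots)} (hw : w ∈ C.hR.weyl)
    (hneg : ∀ j ∈ J, D.IsNegRoot (w ⟨D.simple j.val, C.R.simple_lt j⟩)) {r : Fin D.nroots}
    (hr : (r : ℕ) ∈ negRootsIn C.R J) : D.IsPosRoot (w r) := by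
  have h2 := neg_of_supp C.hR hw hneg (s := ⟨D.neg r, C.R.neg_lt r r.isLt⟩)
    ⟨(C.R.isPos_neg_iff r.isLt).2 hr.1, fun m hm => by
      rw [C.R.α_neg _ r.isLt, Pi.neg_apply, hr.2 m hm, neg_zero]⟩
  rw [C.hR.apply_neg hw r, C.R.isNeg_neg_iff (w r).isLt] at h2
  exact h2

variable [Fintype F] (g : Gens φ O G1 d)

include g

theorem fixU_in_le (i : I) : φ.fixU (inRoots C.R (O.J i)) ≤ pU G1 := fun u hu =>
  ⟨Ucl_in_le C _ (Subgroup.mem_inf.1 hu).1, g.pos_le i hu⟩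

theorem conj_negIn_mem (i : I) {x : GL D.Idx F} (hx : x ∈ φ.fixU (negRootsIn C.R (O.J i))) :
    g.s i * x * (g.s i)⁻¹ ∈ φ.fixU (inRoots C.R (O.J i)) := by
  obtain ⟨hx1, hx2⟩ := Subgroup.mem_inf.1 hx
  have hs := g.le_fixed (g.s_mem i)
  refine Subgroup.mem_inf.2 ⟨?_, mul_mem (mul_mem hs hx2) (inv_mem hs)⟩
  refine C.conj_Ucl_le (g.s_moves i) (fun r hr t => C.xGL_mem_Ucl
    (show _ ∈ inRoots C.R (O.J i) from ⟨?_, (suppIn_weyl C.hR (g.wJ_mem i) r).2 hr.2⟩) t) x hx1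
  exact pos_of_negIn (C.hR.weylSub_le _ (g.wJ_mem i)) (g.wJ_neg i) hr

theorem conj_in_mem (i : I) {x : GL D.Idx F} (hx : x ∈ φ.fixU (inRoots C.R (O.J i))) :
    g.s i * x * (g.s i)⁻¹ ∈ φ.fixU (negRootsIn C.R (O.J i)) := by
  obtain ⟨hx1, hx2⟩ := Subgroup.mem_inf.1 hx
  have hs := g.le_fixed (g.s_mem i)
  exact Subgroup.mem_inf.2 ⟨conj_in (g.s_moves i) (g.wJ_mem i) (g.wJ_neg i) x hx1,
    mul_mem (mul_mem hs hx2) (inv_mem hs)⟩

theorem negIn_le (i : I) : φ.fixU (negRootsIn C.R (O.J i)) ≤ nU G1 := fun x hx => by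
  refine ⟨Ucl_negIn_le_V (Subgroup.mem_inf.1 hx).1, ?_⟩
  have h := mul_mem (mul_mem (inv_mem (g.s_mem i)) (g.pos_le i (conj_negIn_mem g i hx))) (g.s_mem i)
  simpa [mul_assoc] using h

theorem card_negIn (i : I) : Nat.card ↥(φ.fixU (negRootsIn C.R (O.J i))) =
    Nat.card ↥(φ.fixU (inRoots C.R (O.J i))) :=
  le_antisymm
    (Nat.card_le_card_of_injective (fun x => ⟨_, conj_negIn_mem g i x.2⟩)
      fun _ _ e => Subtype.ext (mul_left_cancel (mul_right_cancel (congrArg Subtype.val e))))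
    (Nat.card_le_card_of_injective (fun x => ⟨_, conj_in_mem g i x.2⟩)
      fun _ _ e => Subtype.ext (mul_left_cancel (mul_right_cancel (congrArg Subtype.val e))))

theorem exists_in_ne_one (i : I) : ∃ a ∈ φ.fixU (inRoots C.R (O.J i)), a ≠ 1 := by
  obtain ⟨a, ha, hne, hV⟩ := g.reflections.root_nontrivial i
  exact ⟨a, Subgroup.mem_inf.2 ⟨mem_in_of_conj (g.s_moves i) (g.wJ_mem i) (g.wJ_neg i) ha.1 hV,
    g.le_fixed ha.2⟩, hne⟩

theorem s_not_bor (i : I) : g.s i ∉ bor G1 := fun h => by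
  obtain ⟨a, ha, hne⟩ := exists_in_ne_one g i
  obtain ⟨hn1, hn2⟩ := Subgroup.mem_inf.1 (conj_in_mem g i ha)
  have h1 : g.s i * a * (g.s i)⁻¹ ∈ D.borelSubgroup F :=
    mul_mem (mul_mem h.1 (le_sup_left (b := D.diagonalSubgroup F) (fixU_in_le g i ha).1))
      (inv_mem h.1)
  exact hne (conj_eq_one_iff.1 ((Subgroup.eq_bot_iff_forall _).1 C.borel_inf_negUnipotent _
    (Subgroup.mem_inf.2 ⟨h1, Ucl_negIn_le_V hn1⟩)))

theorem cell_eq {i j : I} (h : Cell G1 (g.s j) (g.s i)) : i = j := by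
  have hw := C.moves_eq_of_mem (g.s_mem_N i) (g.s_mem_N j) (g.s_moves i) (g.s_moves j) (h.bigCell C)
  refine g.reflections.s_inj i j ?_
  refine C.mem_diagonal_of_moves_one (mul_mem (inv_mem (g.s_mem_N i)) (g.s_mem_N j)) ?_
  have := ChevCore.Moves.mul C (ChevCore.Moves.inv C (g.s_mem_N i) (g.s_moves i)) (g.s_moves j)
  rwa [hw, inv_mul_cancel] at this

/-- An element of `G1` normalising `U1` lies in `B1`. -/
theorem mem_bor_of_normalizes {x : GL D.Idx F} (hx : x ∈ G1)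
    (h : ∀ u ∈ pU G1, x * u * x⁻¹ ∈ pU G1) : x ∈ bor G1 := by
  obtain ⟨u, hu, n, hn, v, hv, -, rfl⟩ := g.twist.nf hx
  obtain ⟨w, hw, -⟩ := C.exists_moves hn.1
  change u ∈ pU G1 at hu
  change v ∈ pU G1 at hv
  have hn1 : ∀ a ∈ pU G1, n * a * n⁻¹ ∈ pU G1 := fun a ha => by
    have h1 := h _ (mul_mem (mul_mem (inv_mem hv) ha) hv)
    have h2 := mul_mem (mul_mem (inv_mem hu) h1) hu
    simpa [mul_assoc] using h2
  by_cases h0 : C.hR.invSet w = ∅
  · obtain rfl := C.hR.eq_one_of_invSet_eq_empty hw.1 h0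
    exact mul_mem (mul_mem (pU_le_bor G1 hu)
      (tor_le_bor G1 ⟨C.mem_diagonal_of_moves_one hn.1 hw, hn.2⟩)) (pU_le_bor G1 hv)
  exfalso
  obtain ⟨i, hneg⟩ := Gens.exists_orbit_neg (O := O) hw.1
    (φ.commute_of_fixed hn.1 hw (g.le_fixed hn.2).2) h0
  obtain ⟨a, ha, hne⟩ := exists_in_ne_one g i
  have hV : n * a * n⁻¹ ∈ D.negUnipotent F := C.conj_Ucl_le hw (T := D.negUnipotent F)
    (fun r hr t => C.xGL_mem_negUnipotent (neg_of_supp C.hR hw.1 hneg hr) t) a (Subgroup.mem_inf.1 ha).1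
  exact hne (conj_eq_one_iff.1 ((Subgroup.eq_bot_iff_forall _).1 C.borel_inf_negUnipotent _
    (Subgroup.mem_inf.2 ⟨le_sup_left (b := D.diagonalSubgroup F) (hn1 a (fixU_in_le g i ha)).1, hV⟩)))

omit g in
/-- A representative of the longest element inside the group. -/
structure Longest (C : ChevCore D F) (G1 : Subgroup (GL D.Idx F)) where
  n : GL D.Idx F
  w : Equiv.Perm (Fin D.nroots)
  mono : n ∈ D.monomialSubgroup F
  mem : n ∈ G1
  moves : C.Moves n w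
  pos : ∀ s : Fin D.nroots, D.IsPosRoot s → D.IsNegRoot (w s)
  neg : ∀ s : Fin D.nroots, D.IsNegRoot s → D.IsPosRoot (w s)

theorem nonempty_longest : Nonempty (Longest C G1) := by
  obtain ⟨w, hw, hc, hneg⟩ := Gens.exists_longest_commute (φ := φ)
  obtain ⟨n, hn, hn1, hmv⟩ := g.exists_rep_twist hw hc
  refine ⟨⟨n, w, hn, hn1, hmv, hneg, fun s hs => ?_⟩⟩
  have h1 := hneg ⟨D.neg s, C.R.neg_lt s s.isLt⟩ ((C.R.isPos_neg_iff s.isLt).2 hs)
  rwa [C.hR.apply_neg hw s, C.R.isNeg_neg_iff (w s).isLt] at h1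

omit g

namespace Longest

omit [Fintype F]

variable (L : Longest C G1)

theorem conj_pos {x : GL D.Idx F} (hx : x ∈ pU G1) : L.n * x * L.n⁻¹ ∈ nU G1 := by
  refine ⟨C.conj_Ucl_le L.moves (S := {r | D.IsPosRoot r}) (T := D.negUnipotent F)
    (fun s hs t => C.xGL_mem_negUnipotent (L.pos s hs) t) x (C.posUnipotent_eq ▸ hx.1),
    mul_mem (mul_mem L.mem hx.2) (G1.inv_mem L.mem)⟩

theorem conj_neg {x : GL D.Idx F} (hx : x ∈ nU G1) : L.n * x * L.n⁻¹ ∈ pU G1 := by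
  refine ⟨C.conj_Ucl_le L.moves (S := {r | D.IsNegRoot r}) (T := D.posUnipotent F)
    (fun s hs t => C.xGL_mem_posUnipotent (L.neg s hs) t) x (C.negUnipotent_eq ▸ hx.1),
    mul_mem (mul_mem L.mem hx.2) (G1.inv_mem L.mem)⟩

/-- The inverse representative. -/
def symm : Longest C G1 where
  n := L.n⁻¹
  w := L.w⁻¹
  mono := inv_mem L.mono
  mem := inv_mem L.mem
  moves := ChevCore.Moves.inv C L.mono L.moves
  pos s hs := by
    refine (C.R.pos_or_neg (L.w⁻¹ s).isLt).resolve_left fun hn => ?_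
    have h := L.pos _ hn
    rw [Equiv.Perm.inv_def, Equiv.apply_symm_apply] at h
    exact C.R.not_pos_and_neg hs h
  neg s hs := by
    refine (C.R.pos_or_neg (L.w⁻¹ s).isLt).resolve_right fun hn => ?_
    have h := L.neg _ hn
    rw [Equiv.Perm.inv_def, Equiv.apply_symm_apply] at h
    exact C.R.not_pos_and_neg h hs

theorem conj_inv_pos {x : GL D.Idx F} (hx : x ∈ pU G1) : L.n⁻¹ * x * L.n ∈ nU G1 := by
  have := L.symm.conj_pos hx
  simpa [symm] using this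

theorem conj_inv_neg {x : GL D.Idx F} (hx : x ∈ nU G1) : L.n⁻¹ * x * L.n ∈ pU G1 := by
  have := L.symm.conj_neg hx
  simpa [symm] using this

end Longest

include g

/-- An element of `B1` normalising `V1` lies in `H1`. -/
theorem mem_tor_of_normalizes {x : GL D.Idx F} (hx : x ∈ bor G1)
    (h : ∀ v ∈ nU G1, x * v * x⁻¹ ∈ nU G1) : x ∈ tor G1 := by
  obtain ⟨L⟩ := nonempty_longest g
  obtain ⟨u, hu, t, ht, rfl⟩ := g.twist.mem_B_inf.1 hx
  have hconj : ∀ k ∈ tor G1, ∀ v ∈ nU G1, k * v * k⁻¹ ∈ nU G1 := fun k hk v hv =>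
    ⟨(Subgroup.mem_normalizer_iff.1 (C.diagonal_normalizes_neg hk.1) v).1 hv.1,
      mul_mem (mul_mem hk.2 hv.2) (G1.inv_mem hk.2)⟩
  have h1 : ∀ v ∈ nU G1, u * v * u⁻¹ ∈ nU G1 := fun v hv => by
    have h2 := h _ (hconj _ (inv_mem (show t ∈ tor G1 from ht)) v hv)
    simpa [mul_assoc] using h2
  have h3 : L.n * u * L.n⁻¹ ∈ bor G1 := by
    refine mem_bor_of_normalizes g (mul_mem (mul_mem L.mem hu.2) (inv_mem L.mem)) fun y hy => ?_
    have h4 := L.conj_neg (h1 _ (L.conj_inv_pos hy))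
    simpa [mul_assoc] using h4
  have h5 : u = 1 := conj_eq_one_iff.1 ((Subgroup.eq_bot_iff_forall _).1 C.borel_inf_negUnipotent _
    (Subgroup.mem_inf.2 ⟨h3.1, (L.conj_pos hu).1⟩))
  rw [h5, one_mul]
  exact ht

theorem card_bor : Nat.card ↥(bor G1) = Nat.card ↥(pU G1) * Nat.card ↥(tor G1) := by
  rw [← Nat.card_prod]
  refine (Nat.card_eq_of_bijective (fun x : ↥(pU G1) × ↥(tor G1) =>
    (⟨(x.1 : GL D.Idx F) * x.2, mul_mem (pU_le_bor G1 x.1.2) (tor_le_bor G1 x.2.2)⟩ : ↥(bor G1)))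
    ⟨fun a b e => ?_, fun x => ?_⟩).symm
  · have e' : (a.1 : GL D.Idx F) * a.2 = b.1 * b.2 := congrArg Subtype.val e
    have h1 : (b.1 : GL D.Idx F)⁻¹ * a.1 = b.2 * (a.2 : GL D.Idx F)⁻¹ := by
      rw [eq_mul_inv_iff_mul_eq, mul_assoc, e', inv_mul_cancel_left]
    have h2 := (Subgroup.eq_bot_iff_forall _).1 C.posUnipotent_inf_diagonal _ (Subgroup.mem_inf.2
      ⟨mul_mem (inv_mem b.1.2.1) a.1.2.1, h1 ▸ mul_mem b.2.2.1 (inv_mem a.2.2.1)⟩)
    have h3 : (a.1 : GL D.Idx F) = b.1 := (inv_mul_eq_one.1 h2).symm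
    rw [h3] at e'
    exact Prod.ext (Subtype.ext h3) (Subtype.ext (mul_left_cancel e'))
  · obtain ⟨u, hu, t, ht, e⟩ := g.twist.mem_B_inf.1 x.2
    exact ⟨(⟨u, hu⟩, ⟨t, ht⟩), Subtype.ext e⟩

section sylow

variable (p : ℕ) [Fact p.Prime] [CharP F p] {n : ℕ} (hF : Nat.card F = (p ^ n) ^ d)

omit g in
include C in
theorem isPGroup_pU : IsPGroup p ↥(pU G1) := by
  obtain ⟨k, -, hk⟩ := FiniteField.card F p
  have hU : IsPGroup p (D.posUnipotent F) := by
    rw [C.posUnipotent_eq]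
    refine IsPGroup.of_card (n := (k : ℕ) * Set.ncard {r | D.IsPosRoot r}) ?_
    rw [C.card_Ucl C.R.isClosed_pos, hk, pow_mul]
  exact hU.to_le inf_le_left

theorem isPGroup_nU : IsPGroup p ↥(nU G1) := by
  obtain ⟨L⟩ := nonempty_longest g
  have hle : nU G1 ≤ (pU G1).map (MulAut.conj L.n).toMonoidHom := fun x hx =>
    ⟨L.n⁻¹ * x * L.n, L.conj_inv_neg hx, by
      show L.n * (L.n⁻¹ * x * L.n) * L.n⁻¹ = x
      group⟩
  exact ((isPGroup_pU (C := C) p).map _).to_le hle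

include hF

theorem not_dvd_index : ¬ p ∣ ((bor G1).subgroupOf G1).index := by
  classical
  have hd : n ≠ 0 ∧ d ≠ 0 := by
    have h1 : 1 < Nat.card F := Finite.one_lt_card
    rw [hF] at h1
    constructor <;> rintro rfl <;> simp at h1
  have h1 := Subgroup.card_mul_index ((bor G1).subgroupOf G1)
  rw [Nat.card_congr (Subgroup.subgroupOfEquivOfLe (inf_le_right : bor G1 ≤ G1)).toEquiv,
    g.card_G1 hF hd.2, card_bor g] at h1
  rw [Nat.eq_of_mul_eq_mul_left (Nat.mul_pos Nat.card_pos Nat.card_pos) h1]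
  intro hdvd
  have hone : (1 : Equiv.Perm (Fin D.nroots)) ∈ twistSet C.hR φ.ρ :=
    mem_twistSet.2 ⟨one_mem _, Commute.one_right _⟩
  rw [← Finset.add_sum_erase _ _ hone] at hdvd
  have hinv : C.hR.invSet (1 : Equiv.Perm (Fin D.nroots)) = ∅ :=
    Finset.eq_empty_iff_forall_notMem.2 fun s hs => by
      rw [C.hR.mem_invSet, Equiv.Perm.one_apply] at hs
      exact C.R.not_pos_and_neg hs.1 hs.2
  rw [hinv, Finset.card_empty, pow_zero] at hdvd
  have hrest : p ∣ ∑ w ∈ (twistSet C.hR φ.ρ).erase 1, (p ^ n) ^ (C.hR.invSet w).card := by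
    refine Finset.dvd_sum fun w hw => dvd_pow (dvd_pow_self p hd.1) ?_
    rw [Finset.mem_erase] at hw
    rw [Ne, Finset.card_eq_zero]
    exact fun h => hw.1 (C.hR.eq_one_of_invSet_eq_empty (mem_twistSet.1 hw.2).1 h)
  exact (Fact.out : p.Prime).one_lt.ne' (Nat.dvd_one.1 ((Nat.dvd_add_left hrest).1 hdvd))

/-- A `p`-subgroup of `G1` is conjugate into `U1`. -/
theorem exists_conj_le {U : Subgroup (GL D.Idx F)} (hUG : U ≤ G1) (hU : IsPGroup p U) :
    ∃ x ∈ G1, ∀ u ∈ U, x⁻¹ * u * x ∈ pU G1 := by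
  set B := (bor G1).subgroupOf G1 with hB
  have hU' : IsPGroup p (U.subgroupOf G1) := hU.comap_of_injective G1.subtype G1.subtype_injective
  obtain ⟨x, hx⟩ := hU'.nonempty_fixed_point_of_prime_not_dvd_card (↥G1 ⧸ B) (not_dvd_index g p hF)
  induction x using QuotientGroup.induction_on with | _ k => ?_
  refine ⟨k, k.2, fun u hu => ?_⟩
  obtain ⟨m, hm⟩ := hU ⟨u, hu⟩
  have hm' : u ^ p ^ m = 1 := congrArg Subtype.val hm
  have h1 := hx ⟨⟨u, hUG hu⟩, hu⟩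
  change ((⟨u, hUG hu⟩ * k : ↥G1) : ↥G1 ⧸ B) = _ at h1
  have h2 := QuotientGroup.eq.1 h1.symm
  rw [hB, Subgroup.mem_subgroupOf] at h2
  simp only [Subgroup.coe_mul, InvMemClass.coe_inv, ← mul_assoc] at h2
  refine ⟨KnownSimple.ChevPSylow.mem_posUnipotent_of_pow C p (n := m) h2.1 ?_, h2.2⟩
  have h5 := conj_pow (i := p ^ m) (a := (k : GL D.Idx F)⁻¹) (b := u)
  rw [inv_inv] at h5
  rw [h5, hm']
  group

end sylow

/-- A subgroup made of `B1` and one further cell contains a representative of an orbit. -/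
theorem exists_simple_of_two_cells {K : Subgroup (GL D.Idx F)} (hBK : bor G1 ≤ K) {x : GL D.Idx F}
    (hx1 : x ∈ G1) (hxK : x ∈ K) (hxB : x ∉ bor G1) (hK : ∀ y ∈ K, y ∈ bor G1 ∨ Cell G1 x y) :
    ∃ j, Cell G1 (g.s j) x := by
  obtain ⟨u, hu, n, hn, v, hv, -, rfl⟩ := g.twist.nf hx1
  obtain ⟨w, hw, -⟩ := C.exists_moves hn.1
  have hnK : n ∈ K := by
    have := mul_mem (mul_mem (inv_mem (hBK (pU_le_bor G1 hu))) hxK) (inv_mem (hBK (pU_le_bor G1 hv)))
    simpa [mul_assoc] using this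
  have hne : C.hR.invSet w ≠ ∅ := fun h0 => hxB (by
    obtain rfl := C.hR.eq_one_of_invSet_eq_empty hw.1 h0
    exact mul_mem (mul_mem (pU_le_bor G1 hu)
      (tor_le_bor G1 ⟨C.mem_diagonal_of_moves_one hn.1 hw, hn.2⟩)) (pU_le_bor G1 hv))
  obtain ⟨i, hneg⟩ := Gens.exists_orbit_neg (O := O) hw.1
    (φ.commute_of_fixed hn.1 hw (g.le_fixed hn.2).2) hne
  have hnegK : φ.fixU (negRootsIn C.R (O.J i)) ≤ K := fun y hy => by
    have h1 : n * y * n⁻¹ ∈ pU G1 := ⟨C.conj_Ucl_le hw (T := D.posUnipotent F)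
      (fun r hr t => C.xGL_mem_posUnipotent (pos_of_negIn hw.1 hneg hr) t) y (Subgroup.mem_inf.1 hy).1,
      mul_mem (mul_mem hn.2 (negIn_le g i hy).2) (G1.inv_mem hn.2)⟩
    have h2 := mul_mem (mul_mem (inv_mem hnK) (hBK (pU_le_bor G1 h1))) hnK
    simpa [mul_assoc] using h2
  obtain ⟨a, ha, hne'⟩ := exists_in_ne_one g i
  have hy := conj_in_mem g i ha
  obtain ⟨r, hr, t, ht, z, hz, -, he⟩ := g.reflections.rank_one i a (fixU_in_le g i ha) hne'
    (Ucl_negIn_le_V (Subgroup.mem_inf.1 hy).1)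
  change g.s i * a * (g.s i)⁻¹ = r * (g.s i * t) * z at he
  have hsK : g.s i ∈ K := by
    have h1 := mul_mem (mul_mem (mul_mem (inv_mem (hBK (pU_le_bor G1 hr))) (hnegK hy))
      (inv_mem (hBK (pU_le_bor G1 hz)))) (inv_mem (hBK (tor_le_bor G1 ht)))
    rw [he] at h1
    simpa [mul_assoc] using h1
  rcases hK _ hsK with h | h
  · exact absurd h (s_not_bor g i)
  · exact ⟨i, h.symm⟩

theorem sq_bor (i : I) : g.s i * g.s i ∈ bor G1 :=
  tor_le_bor G1 ⟨g.sq_mem i, mul_mem (g.s_mem i) (g.s_mem i)⟩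

/-- The minimal parabolic subgroup of an orbit. -/
def para (i : I) : Subgroup (GL D.Idx F) where
  carrier := {x | x ∈ bor G1 ∨ Cell G1 (g.s i) x}
  one_mem' := Or.inl (one_mem _)
  mul_mem' := by
    rintro x y (hx | ⟨a, ha, b, hb, rfl⟩) (hy | ⟨c, hc, e, he, rfl⟩)
    · exact Or.inl (mul_mem hx hy)
    · exact Or.inr ⟨x * c, mul_mem hx hc, e, he, by group⟩
    · exact Or.inr ⟨a, ha, b * y, mul_mem hb hy, by group⟩
    · rcases g.reflections.mul_mem_union i (n := g.s i) (b := b * c)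
          (g.reflections.s_mem i) (mul_mem hb hc) with ⟨b₁, h₁, b₂, h₂, h⟩ | ⟨b₁, h₁, b₂, h₂, h⟩
      · change g.s i * (b * c) * g.s i = b₁ * (g.s i * g.s i) * b₂ at h
        refine Or.inl ?_
        rw [show a * g.s i * b * (c * g.s i * e) = a * (g.s i * (b * c) * g.s i) * e by group, h]
        exact mul_mem (mul_mem ha (mul_mem (mul_mem h₁ (sq_bor g i)) h₂)) he
      · change g.s i * (b * c) * g.s i = b₁ * g.s i * b₂ at h
        refine Or.inr ?_
        rw [show a * g.s i * b * (c * g.s i * e) = a * (g.s i * (b * c) * g.s i) * e by group, h]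
        exact Cell.mul ⟨b₁, h₁, b₂, h₂, rfl⟩ ha he
  inv_mem' := by
    rintro x (hx | ⟨a, ha, b, hb, rfl⟩)
    · exact Or.inl (inv_mem hx)
    · exact Or.inr ⟨b⁻¹ * (g.s i * g.s i)⁻¹, mul_mem (inv_mem hb) (inv_mem (sq_bor g i)), a⁻¹,
        inv_mem ha, by group⟩

theorem mem_para {i : I} {x : GL D.Idx F} : x ∈ para g i ↔ x ∈ bor G1 ∨ Cell G1 (g.s i) x := Iff.rfl

theorem s_mem_para (i : I) : g.s i ∈ para g i := Or.inr cell_self

theorem negIn_le_para (i : I) : φ.fixU (negRootsIn C.R (O.J i)) ≤ para g i := fun x hx => by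
  have h1 := mul_mem (mul_mem (inv_mem (s_mem_para g i))
    (show g.s i * x * (g.s i)⁻¹ ∈ para g i from
      Or.inl (pU_le_bor G1 (fixU_in_le g i (conj_negIn_mem g i hx))))) (s_mem_para g i)
  simpa [mul_assoc] using h1

/-- The elements of the cell of an orbit end in an element of the orbit group. -/
theorem exists_param {i : I} {x : GL D.Idx F} (h : Cell G1 (g.s i) x) :
    ∃ t ∈ φ.fixU (inRoots C.R (O.J i)), x * (g.s i * t)⁻¹ ∈ bor G1 := by
  obtain ⟨a, ha, b, hb, rfl⟩ := h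
  obtain ⟨u, hu, k, hk, rfl⟩ := g.twist.mem_B_inf.1 hb
  obtain ⟨y, hy, c, hc, he, hyV, hcU⟩ := g.reflections.split i u⁻¹ (inv_mem hu)
  have hyI : y ∈ φ.fixU (inRoots C.R (O.J i)) := Subgroup.mem_inf.2
    ⟨mem_in_of_conj (g.s_moves i) (g.wJ_mem i) (g.wJ_neg i) hy.1 hyV, g.le_fixed hy.2⟩
  obtain ⟨z, hz⟩ : k ∈ C.R.torus.range := by rw [← C.diagonalSubgroup_eq]; exact hk.1
  have ht : k⁻¹ * y⁻¹ * k ∈ φ.fixU (inRoots C.R (O.J i)) := by
    obtain ⟨h1, h2⟩ := Subgroup.mem_inf.1 (inv_mem hyI)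
    refine Subgroup.mem_inf.2 ⟨?_, mul_mem (mul_mem (inv_mem (g.le_fixed hk.2)) h2) (g.le_fixed hk.2)⟩
    have := (Subgroup.mem_normalizer_iff.1 (C.torus_normalizes (inRoots C.R (O.J i))
      (inv_mem ⟨z, hz⟩ : k⁻¹ ∈ C.R.torus.range)) y⁻¹).1 h1
    simpa using this
  refine ⟨_, ht, ?_⟩
  have hu' : u = c⁻¹ * y⁻¹ := by rw [← mul_inv_rev, ← he, inv_inv]
  rw [hu', show a * g.s i * (c⁻¹ * y⁻¹ * k) * (g.s i * (k⁻¹ * y⁻¹ * k))⁻¹ =
    a * (g.s i * c * (g.s i)⁻¹)⁻¹ * (g.s i * k * (g.s i)⁻¹) by group]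
  refine mul_mem (mul_mem ha (inv_mem (pU_le_bor G1
    ⟨hcU, mul_mem (mul_mem (g.s_mem i) hc.2) (G1.inv_mem (g.s_mem i))⟩))) (tor_le_bor G1 ?_)
  exact ⟨C.conj_diagonal_mem (g.s_mem_N i) hk.1,
    mul_mem (mul_mem (g.s_mem i) hk.2) (G1.inv_mem (g.s_mem i))⟩

/-- `V1` meets a minimal parabolic subgroup in the opposite orbit group. -/
theorem nU_inter_para (p : ℕ) [Fact p.Prime] [CharP F p] (i : I) :
    nU G1 ⊓ para g i = φ.fixU (negRootsIn C.R (O.J i)) := by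
  classical
  set S := nU G1 ⊓ para g i
  set R := φ.fixU (negRootsIn C.R (O.J i))
  set T := φ.fixU (inRoots C.R (O.J i))
  have hRS : R ≤ S := le_inf (negIn_le g i) (negIn_le_para g i)
  have hparam : ∀ x : S, ∃ o : Option T, (x : GL D.Idx F) *
      (match o with
        | none => 1
        | some t => g.s i * t : GL D.Idx F)⁻¹ ∈ bor G1 := by
    intro x
    rcases (mem_para g).1 (Subgroup.mem_inf.1 x.2).2 with h | h
    · exact ⟨none, by simpa using h⟩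
    · obtain ⟨t, ht, he⟩ := exists_param g h
      exact ⟨some ⟨t, ht⟩, he⟩
  choose o ho using hparam
  have hinj : Function.Injective o := by
    intro x y hxy
    have h1 := ho x
    rw [hxy] at h1
    have h3 := mul_mem h1 (inv_mem (ho y))
    simp only [mul_inv_rev, inv_inv, mul_assoc, inv_mul_cancel_left] at h3
    have h4 := (Subgroup.eq_bot_iff_forall _).1 C.borel_inf_negUnipotent _
      (Subgroup.mem_inf.2 ⟨h3.1, mul_mem (Subgroup.mem_inf.1 x.2).1.1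
        (inv_mem (Subgroup.mem_inf.1 y.2).1.1)⟩)
    exact Subtype.ext (mul_inv_eq_one.1 h4)
  have hcardS : Nat.card S ≤ Nat.card T + 1 := by
    rw [← Finite.card_option]
    exact Nat.card_le_card_of_injective o hinj
  obtain ⟨a, ha⟩ := IsPGroup.iff_card.1 ((isPGroup_nU g p).to_le (inf_le_left : S ≤ nU G1))
  obtain ⟨b, hb⟩ := IsPGroup.iff_card.1 ((isPGroup_nU g p).to_le (negIn_le g i))
  have hp : 2 ≤ p := (Fact.out : p.Prime).two_le
  have hT : Nat.card T = p ^ b := by rw [← card_negIn g i, hb]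
  have h2 : 1 < p ^ b := by
    rw [← hT, Finite.one_lt_card_iff_nontrivial]
    obtain ⟨t, ht, hne⟩ := exists_in_ne_one g i
    exact ⟨⟨⟨t, ht⟩, 1, fun e => hne (congrArg Subtype.val e)⟩⟩
  have hab : a ≤ b := by
    by_contra hcon
    have h1 : p ^ (b + 1) ≤ Nat.card S := ha ▸ Nat.pow_le_pow_right (by omega) (by omega)
    rw [pow_succ] at h1
    have h3 : 2 * p ^ b ≤ p ^ b * p := by rw [mul_comm 2]; exact Nat.mul_le_mul_left _ hp
    omega
  refine (Subgroup.eq_of_le_of_card_ge hRS ?_).symm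
  rw [ha, hb]
  exact Nat.pow_le_pow_right (by omega) hab

end CfsgLib.TwistAut
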