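import Cfsg.Agent.Lib.TwistAut.Fix
import Cfsg.Agent.Lib.TwistedStr.TorusF4

/-! Coordinates on the two orbit groups of ²F₄ and their behaviour under automorphisms. -/

set_option autoImplicit false
set_option linter.unusedSectionVars false
set_option linter.unusedSimpArgs false

namespace CfsgLib.TwistAut

open Cfsg.Lie CfsgLib.ChevStr CfsgLib.Twisted
open scoped MatrixGroups

theorem f4_root_tables :
    chevF4.simple 3 = f4p4 ∧ chevF4.simple 2 = f4b ∧
    (∃ h : f4b < chevF4.nroots, (rhoF4 ⟨f4b, h⟩ : ℕ) = f4a) ∧ subF4.ex f4b = 1 ∧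
    (∀ k : Fin chevF4.rank, rootDataF4.α f4ab k = rootDataF4.α f4a k + rootDataF4.α f4b k) ∧
    chevF4.cartan 3 f4b = -1 ∧ chevF4.cartan 0 f4b = 0 := by decide +kernel

theorem f4_central : ∀ rs ∈ [(f4a, f4ab), (f4a, f4aab), (f4b, f4ab), (f4b, f4aab), (f4ab, f4aab)],
    rs.1 < chevF4.nroots ∧ rs.2 < chevF4.nroots ∧ rs.2 ≠ rs.1 ∧ rs.2 ≠ chevF4.neg rs.1 ∧
      ∀ c ∈ chevF4.commTerms rs.1 rs.2, Even c.2.1 := by decide +kernel

/-- A word for the longest element. -/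
def f4Long : List (Fin chevF4.rank) :=
  (List.replicate 4 [nodeF4 0, nodeF4 3, nodeF4 1, nodeF4 2, nodeF4 1, nodeF4 2]).flatten

theorem f4_long_neg : ∀ j : Fin chevF4.rank, chevF4.IsNegRoot
    (reflDataF4.wordPerm f4Long ⟨chevF4.simple j.val, rootDataF4.simple_lt j⟩) := by decide +kernel

theorem f4_long_opp : ∀ i, ∀ r : Fin chevF4.nroots, chevF4.IsNegRoot r →
    SuppIn rootDataF4 (nodesF4 i) r → chevF4.IsPosRoot (reflDataF4.wordPerm f4Long r) ∧
      SuppIn rootDataF4 (nodesF4 i) (reflDataF4.wordPerm f4Long r) := by decide +kernel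

/-- The first node of each orbit. -/
def f4Lead : Fin 2 → Fin chevF4.rank
  | 0 => nodeF4 3
  | 1 => nodeF4 2

theorem f4Lead_mem : ∀ i, f4Lead i ∈ nodesF4 i := by decide +kernel

variable (K : Type*) [Field K] [Fintype K] [CharP K 2] (m : ℕ)

/-- The group. -/
noncomputable abbrev G2F4 : Subgroup (GL chevF4.Idx K) := twistedF4 K (2 ^ m)

/-- The orbit groups. -/
noncomputable abbrev orbGrp (i : Fin 2) : Subgroup (GL chevF4.Idx K) :=
  (frobF4 K m).fixU (inRoots (coreF4 K).R (nodesF4 i))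

/-- The opposite orbit groups. -/
noncomputable abbrev orbGrpNeg (i : Fin 2) : Subgroup (GL chevF4.Idx K) :=
  (frobF4 K m).fixU (negRootsIn (coreF4 K).R (nodesF4 i))

variable {K}

/-- The character at a root. -/
noncomputable abbrev chi (r : ℕ) (c : Fin chevF4.rank → Kˣ) : Kˣ :=
  (coreF4 K).R.torusChar c ((coreF4 K).R.α r)

/-- The coordinate on the orbit group of the pair. -/
noncomputable def cd0 (u : GL chevF4.Idx K) : K := (coreF4 K).coord (listSet [f4p1, f4p4]) f4p4 u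

/-- The coordinate on the orbit group of type B₂. -/
noncomputable def cd1 (u : GL chevF4.Idx K) : K :=
  (coreF4 K).coord (listSet [f4a, f4b, f4ab, f4aab]) f4b u

/-- The coordinate on the centre of the orbit group of type B₂. -/
noncomputable def cd2 (u : GL chevF4.Idx K) : K := (coreF4 K).coord (listSet [f4ab, f4aab]) f4ab u

/-- The elements of the pair orbit group. -/
noncomputable def X0 (t : K) : GL chevF4.Idx K := (coreF4 K).wordGL (f4PairWord (2 ^ m) f4p1 f4p4 t)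

/-- The elements of the orbit group of type B₂. -/
noncomputable def Y (t w : K) : GL chevF4.Idx K :=
  (coreF4 K).wordGL (b2ClassWord (2 ^ m) f4a f4b f4ab f4aab t w)

/-- The central elements of the orbit group of type B₂. -/
noncomputable def Z (w : K) : GL chevF4.Idx K := Y m 0 w

theorem level0 : ∃ S', (coreF4 K).Level (listSet [f4p1, f4p4]) S' ∧ f4p4 ∈ listSet [f4p1, f4p4] ∧
    f4p4 ∉ S' :=
  ⟨_, (Frob.level_of_check (C := coreF4 K) levelF4.1
    (inF4 K 0 ▸ inRoots_closed (coreF4 K) (nodesF4 0))).1, by simp [listSet], by simp [listSet]⟩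

theorem level1 : (coreF4 K).Level (listSet [f4a, f4b, f4ab, f4aab]) (listSet [f4ab, f4aab]) ∧
    f4b ∈ listSet [f4a, f4b, f4ab, f4aab] ∧ f4b ∉ listSet [f4ab, f4aab] :=
  ⟨(Frob.level_of_check (C := coreF4 K) levelF4.2.1
    (inF4 K 1 ▸ inRoots_closed (coreF4 K) (nodesF4 1))).1, by simp [listSet],
    by simp [listSet, f4b, f4ab, f4aab]⟩

theorem level2 : ∃ S', (coreF4 K).Level (listSet [f4ab, f4aab]) S' ∧ f4ab ∈ listSet [f4ab, f4aab] ∧
    f4ab ∉ S' :=
  ⟨_, (Frob.level_of_check (C := coreF4 K) levelF4.2.2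
    (Frob.level_of_check (C := coreF4 K) levelF4.2.1
      (inF4 K 1 ▸ inRoots_closed (coreF4 K) (nodesF4 1))).2).1, by simp [listSet], by simp [listSet]⟩

theorem cd0_X0 (t : K) : cd0 (X0 m t) = t := by
  obtain ⟨S', h, hr, hr'⟩ := level0 (K := K)
  rw [cd0, X0, (coreF4 K).coord_wordGL h hr hr' _ (by simp [listSet, f4PairWord])]
  simp [f4PairWord, f4p1, f4p4]

theorem cd1_Y (t w : K) : cd1 (Y m t w) = t := by
  obtain ⟨h, hr, hr'⟩ := level1 (K := K)
  rw [cd1, Y, (coreF4 K).coord_wordGL h hr hr' _ (by simp [listSet, b2ClassWord])]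
  simp [b2ClassWord, f4a, f4b, f4ab, f4aab]

theorem Z_eq (w : K) : Z m w = (coreF4 K).wordGL [(f4ab, w), (f4aab, w ^ (2 * 2 ^ m))] := by
  simp [Z, Y, b2ClassWord, ChevCore.wordGL_cons, ChevCore.wordGL_nil, (coreF4 K).xGL_zero]

theorem Z_mem_level (w : K) : Z m w ∈ (coreF4 K).Ucl (listSet [f4ab, f4aab]) := by
  rw [Z_eq]; exact (coreF4 K).wordGL_mem_Ucl (by simp [listSet])

theorem cd2_Z (w : K) : cd2 (Z m w) = w := by
  obtain ⟨S', h, hr, hr'⟩ := level2 (K := K)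
  rw [cd2, Z_eq, (coreF4 K).coord_wordGL h hr hr' _ (by simp [listSet])]
  simp [f4ab, f4aab]

omit [Fintype K] in
theorem central_commute {r s : ℕ}
    (h : (r, s) ∈ [(f4a, f4ab), (f4a, f4aab), (f4b, f4ab), (f4b, f4aab), (f4ab, f4aab)]) (t u : K) :
    Commute ((coreF4 K).xGL s u) ((coreF4 K).xGL r t) := by
  obtain ⟨a, b, c, d, e⟩ := f4_central _ h
  refine (coreF4 K).xGL_commute a b c d (fun x hx => ?_) t u
  obtain ⟨k, hk⟩ := e x hx
  rw [hk, Int.cast_add, CharTwo.add_self_eq_zero]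

theorem Y_split (t w : K) : Y m t w = Y m t 0 * Z m w := by
  have h : (coreF4 K).xGL f4aab (0 ^ (2 * 2 ^ m)) = 1 := by simp [(coreF4 K).xGL_zero]
  simp only [Z_eq, Y, b2ClassWord, ChevCore.wordGL_cons, ChevCore.wordGL_nil, mul_one, add_zero, h,
    (coreF4 K).xGL_add]
  group

theorem Z_add (w w' : K) : Z m (w + w') = Z m w * Z m w' := by
  simp only [Z_eq, ChevCore.wordGL_cons, ChevCore.wordGL_nil, mul_one]
  rw [show (2 : ℕ) * 2 ^ m = 2 ^ (m + 1) by rw [pow_succ'], add_pow_char_pow, (coreF4 K).xGL_add,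
    (coreF4 K).xGL_add, mul_assoc, mul_assoc ((coreF4 K).xGL f4ab w),
    ← mul_assoc ((coreF4 K).xGL f4ab w'),
    ((central_commute (r := f4ab) (s := f4aab) (by simp) w' (w ^ 2 ^ (m + 1))).symm).eq]
  group

theorem Z_commute (t t' w : K) : Commute (Z m w) (Y m t t') := by
  rw [Z_eq, Y]
  refine Commute.list_prod_right _ _ fun x hx => Commute.list_prod_left _ _ fun y hy => ?_
  obtain ⟨p, hp, rfl⟩ := List.mem_map.1 hx
  obtain ⟨q, hq, rfl⟩ := List.mem_map.1 hy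
  simp only [b2ClassWord, List.mem_cons, List.not_mem_nil, or_false] at hp hq
  have hsame : ∀ r (a b : K), Commute ((coreF4 K).xGL r a) ((coreF4 K).xGL r b) := fun r a b => by
    rw [Commute, SemiconjBy, ← (coreF4 K).xGL_add, ← (coreF4 K).xGL_add, add_comm]
  rcases hq with rfl | rfl <;> rcases hp with rfl | rfl | rfl | rfl
  · exact central_commute (by simp) _ _
  · exact central_commute (by simp) _ _
  · exact hsame _ _ _
  · exact (central_commute (r := f4ab) (s := f4aab) (by simp) _ _).symm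
  · exact central_commute (by simp) _ _
  · exact central_commute (by simp) _ _
  · exact central_commute (by simp) _ _
  · exact hsame _ _ _

variable {m} (hn : Fintype.card K = 2 * (2 ^ m * 2 ^ m))

include hn

theorem pow_cardF4 (t : K) : t ^ (2 * (2 ^ m * 2 ^ m)) = t := by rw [← hn, FiniteField.pow_card]

theorem Y_sq (t : K) : Y m t 0 * Y m t 0 = Z m (t ^ (2 ^ m + 1)) := by
  obtain ⟨⟨la, lb, -, -⟩, -, -, ⟨n1, n2, hT⟩, -⟩ :=
    f4_quad ((f4a, f4b), (f4ab, f4aab)) (by simp)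
  set T := t ^ 2 ^ m with hTd
  have hc : (coreF4 K).wordGL (chevF4.commWord K f4a f4b T t) =
      (coreF4 K).xGL f4ab (T * t) * (coreF4 K).xGL f4aab (T ^ 2 * t) := by
    rcases hT with e | e <;>
      simp [ChevalleyDatum.commWord, e, ChevCore.wordGL_cons, ChevCore.wordGL_nil, CharTwo.neg_eq]
  have hw : (t ^ (2 ^ m + 1)) ^ (2 * 2 ^ m) = T ^ 2 * t := by
    rw [← pow_mul, show (2 ^ m + 1) * (2 * 2 ^ m) = 2 * (2 ^ m * 2 ^ m) + 2 ^ m * 2 by ring, pow_add,
      pow_cardF4 hn, pow_mul, mul_comm]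
  have hsq : ∀ r (a : K), (coreF4 K).xGL r a * (coreF4 K).xGL r a = 1 := fun r a => by
    rw [← (coreF4 K).xGL_add, CharTwo.add_self_eq_zero, (coreF4 K).xGL_zero]
  have hk : T * t = t ^ (2 ^ m + 1) := by rw [hTd, ← pow_succ]
  set W := (coreF4 K).xGL f4ab (t ^ (2 ^ m + 1))
  have hWa : Commute W ((coreF4 K).xGL f4a T) := central_commute (by simp) _ _
  have hWb : Commute W ((coreF4 K).xGL f4b t) := central_commute (by simp) _ _
  have hY : Y m t 0 = (coreF4 K).xGL f4a T * (coreF4 K).xGL f4b t * W := by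
    simp [Y, b2ClassWord, ChevCore.wordGL_cons, ChevCore.wordGL_nil, (coreF4 K).xGL_zero, W, hTd, mul_assoc]
  rw [hY, Z_eq, ChevCore.wordGL_cons, ChevCore.wordGL_cons, ChevCore.wordGL_nil, mul_one, hw]
  show _ = W * _
  set A := (coreF4 K).xGL f4a T with hA
  set B := (coreF4 K).xGL f4b t with hB
  set U := (coreF4 K).xGL f4aab (T ^ 2 * t) with hU
  have hBA : B * A = A * B * (W * U) := by
    rw [hB, hA, (coreF4 K).xGL_comm la lb n1 n2, hc, hk]
  have hUb : Commute U B := central_commute (by simp) _ _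
  have hWU : Commute W U := (central_commute (r := f4ab) (s := f4aab) (by simp) _ _).symm
  have hAB : Commute W (A * B) := hWa.mul_right hWb
  calc A * B * W * (A * B * W) = A * B * (A * B) * (W * W) := by
        rw [mul_assoc (A * B) W, ← mul_assoc W, hAB.eq]
        group
    _ = A * (B * A) * B := by rw [hsq, mul_one]; group
    _ = A * A * (B * (W * U) * B) := by rw [hBA]; group
    _ = W * U * (B * B) := by
        rw [hsq, one_mul, ← ((hWb.mul_left hUb)).eq]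
        group
    _ = W * U := by rw [hsq, mul_one]

theorem X0_mem (t : K) : X0 m t ∈ orbGrp K m 0 := by
  refine Subgroup.mem_inf.2 ⟨?_, le_fixedF4 K hn ((coreF4 K).wordGL_mem_gen (Or.inl ⟨t, Or.inl rfl⟩))⟩
  rw [inF4]
  exact (coreF4 K).wordGL_mem_Ucl (by simp [listSet, f4PairWord, rootsF4])

theorem Y_mem (t w : K) : Y m t w ∈ orbGrp K m 1 := by
  refine Subgroup.mem_inf.2
    ⟨?_, le_fixedF4 K hn ((coreF4 K).wordGL_mem_gen (Or.inr ⟨t, w, Or.inl rfl⟩))⟩
  rw [inF4]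
  exact (coreF4 K).wordGL_mem_Ucl (by simp [listSet, b2ClassWord, rootsF4])

theorem exists_X0 {u : GL chevF4.Idx K} (hu : u ∈ orbGrp K m 0) : X0 m (cd0 u) = u := by
  have h2 : Nat.card ↥(orbGrp K m 0) = Nat.card K := by
    rw [Nat.card_eq_fintype_card (α := K)]
    show Nat.card ↥((frobF4 K m).fixU (inRoots (coreF4 K).R (nodesF4 0))) = _
    rw [inF4]
    exact (pairF4 K hn).2
  obtain ⟨t, ht⟩ := ((Nat.bijective_iff_injective_and_card
    (fun t : K => (⟨_, X0_mem hn t⟩ : ↥(orbGrp K m 0)))).2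
    ⟨fun a b e => by
      have h := congrArg cd0 (congrArg Subtype.val e)
      simpa only [cd0_X0] using h, h2.symm⟩).2 ⟨u, hu⟩
  have ht' : X0 m t = u := congrArg Subtype.val ht
  rw [← ht', cd0_X0]

theorem exists_Y {u : GL chevF4.Idx K} (hu : u ∈ orbGrp K m 1) :
    ∃ w, u = Y m (cd1 u) 0 * Z m w := by
  have h2 : Nat.card ↥(orbGrp K m 1) = Nat.card (K × K) := by
    rw [Nat.card_prod, Nat.card_eq_fintype_card (α := K)]
    show Nat.card ↥((frobF4 K m).fixU (inRoots (coreF4 K).R (nodesF4 1))) = _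
    rw [inF4]
    exact (classF4 K hn).2
  obtain ⟨⟨t, w⟩, ht⟩ := ((Nat.bijective_iff_injective_and_card
    (fun t : K × K => (⟨_, Y_mem hn t.1 t.2⟩ : ↥(orbGrp K m 1)))).2
    ⟨fun a b e => by
      have e' : Y m a.1 a.2 = Y m b.1 b.2 := congrArg Subtype.val e
      have h1 := congrArg cd1 e'
      rw [cd1_Y, cd1_Y] at h1
      rw [Y_split, Y_split m b.1, h1] at e'
      have h2 := congrArg cd2 (mul_left_cancel e')
      rw [cd2_Z, cd2_Z] at h2
      exact Prod.ext h1 h2, h2.symm⟩).2 ⟨u, hu⟩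
  have ht' : Y m t w = u := congrArg Subtype.val ht
  exact ⟨w, by rw [← ht', cd1_Y, ← Y_split]⟩

theorem cd0_eq_zero {u : GL chevF4.Idx K} (hu : u ∈ orbGrp K m 0) : cd0 u = 0 ↔ u = 1 := by
  have h1 : cd0 (X0 m (0 : K)) = 0 := cd0_X0 m 0
  have e : X0 m (0 : K) = 1 := by
    simp [X0, f4PairWord, ChevCore.wordGL_cons, ChevCore.wordGL_nil, (coreF4 K).xGL_zero]
  refine ⟨fun h => ?_, fun h => ?_⟩
  · rw [← exists_X0 hn hu, h, e]
  · rw [h, ← e, h1]

theorem cd1_eq_zero {u : GL chevF4.Idx K} (hu : u ∈ orbGrp K m 1) : cd1 u = 0 ↔ u * u = 1 := by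
  obtain ⟨w, hw⟩ := exists_Y hn hu
  have hz : Z m (0 : K) = 1 := by simp [Z_eq, ChevCore.wordGL_cons, ChevCore.wordGL_nil, (coreF4 K).xGL_zero]
  have hZZ : Z m w * Z m w = 1 := by rw [← Z_add, CharTwo.add_self_eq_zero, hz]
  have hsq : u * u = Z m (cd1 u ^ (2 ^ m + 1)) := by
    have hc := Z_commute m (cd1 u) 0 w
    conv_lhs => rw [hw]
    rw [mul_assoc, ← mul_assoc (Z m w), hc.eq, mul_assoc, hZZ, mul_one, Y_sq hn]
  rw [hsq]
  refine ⟨fun h => by rw [h, zero_pow (Nat.succ_ne_zero _), hz], fun h => ?_⟩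
  have h2 := congrArg cd2 h
  rw [cd2_Z, ← hz, cd2_Z] at h2
  exact eq_zero_of_pow_eq_zero h2

theorem mem_Ucl0 {u : GL chevF4.Idx K} (hu : u ∈ orbGrp K m 0) :
    u ∈ (coreF4 K).Ucl (listSet [f4p1, f4p4]) := by
  have h := (Subgroup.mem_inf.1 hu).1
  rwa [inF4] at h

theorem mem_Ucl1 {u : GL chevF4.Idx K} (hu : u ∈ orbGrp K m 1) :
    u ∈ (coreF4 K).Ucl (listSet [f4a, f4b, f4ab, f4aab]) := by
  have h := (Subgroup.mem_inf.1 hu).1
  rwa [inF4] at h

theorem cd0_mul {u v : GL chevF4.Idx K} (hu : u ∈ orbGrp K m 0) (hv : v ∈ orbGrp K m 0) :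
    cd0 (u * v) = cd0 u + cd0 v := by
  obtain ⟨S', h, hr, hr'⟩ := level0 (K := K)
  exact (coreF4 K).coord_mul h hr hr' (mem_Ucl0 hn hu) (mem_Ucl0 hn hv)

theorem cd1_mul {u v : GL chevF4.Idx K} (hu : u ∈ orbGrp K m 1) (hv : v ∈ orbGrp K m 1) :
    cd1 (u * v) = cd1 u + cd1 v := by
  obtain ⟨h, hr, hr'⟩ := level1 (K := K)
  exact (coreF4 K).coord_mul h hr hr' (mem_Ucl1 hn hu) (mem_Ucl1 hn hv)

theorem torus_conj_mem (i : Fin 2) {c : Fin chevF4.rank → Kˣ}
    (hc : (coreF4 K).R.torus c ∈ G2F4 K m) {u : GL chevF4.Idx K} (hu : u ∈ orbGrp K m i) :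
    (coreF4 K).R.torus c * u * ((coreF4 K).R.torus c)⁻¹ ∈ orbGrp K m i := by
  obtain ⟨h1, h2⟩ := Subgroup.mem_inf.1 hu
  have hT := le_fixedF4 K hn hc
  exact Subgroup.mem_inf.2 ⟨(Subgroup.mem_normalizer_iff.1 ((coreF4 K).torus_normalizes _
    (⟨c, rfl⟩ : (coreF4 K).R.torus c ∈ (coreF4 K).R.torus.range)) _).1 h1,
    mul_mem (mul_mem hT h2) (inv_mem hT)⟩

theorem cd0_torus (c : Fin chevF4.rank → Kˣ) {u : GL chevF4.Idx K} (hu : u ∈ orbGrp K m 0) :
    cd0 ((coreF4 K).R.torus c * u * ((coreF4 K).R.torus c)⁻¹) = (chi f4p4 c : K) * cd0 u := by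
  obtain ⟨S', h, hr, hr'⟩ := level0 (K := K)
  exact coord_torus h hr hr' c (mem_Ucl0 hn hu)

theorem cd1_torus (c : Fin chevF4.rank → Kˣ) {u : GL chevF4.Idx K} (hu : u ∈ orbGrp K m 1) :
    cd1 ((coreF4 K).R.torus c * u * ((coreF4 K).R.torus c)⁻¹) = (chi f4b c : K) * cd1 u := by
  obtain ⟨h, hr, hr'⟩ := level1 (K := K)
  exact coord_torus h hr hr' c (mem_Ucl1 hn hu)

omit hn in
theorem cd2_torus (c : Fin chevF4.rank → Kˣ) (w : K) :
    cd2 ((coreF4 K).R.torus c * Z m w * ((coreF4 K).R.torus c)⁻¹) = (chi f4ab c : K) * w := by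
  obtain ⟨S', h, hr, hr'⟩ := level2 (K := K)
  conv_rhs => rw [← cd2_Z m w]
  exact coord_torus h hr hr' c (Z_mem_level m w)

theorem chi_ab {c : Fin chevF4.rank → Kˣ} (hc : (coreF4 K).R.torus c ∈ G2F4 K m) :
    chi f4ab c = chi f4b c ^ (2 ^ m + 1) := by
  obtain ⟨-, -, ⟨hb, hρ⟩, hex, hα, -⟩ := f4_root_tables
  have h1 := (gensF4 K hn).char_fixed hc ⟨f4b, hb⟩
  have he : (frobF4 K m).e ⟨f4b, hb⟩ = 2 ^ m := by
    show 2 ^ m * subF4.ex f4b = _
    rw [hex, mul_one]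
  change (coreF4 K).R.torusChar c ((coreF4 K).R.α (rhoF4 ⟨f4b, hb⟩ : ℕ)) =
    (coreF4 K).R.torusChar c ((coreF4 K).R.α f4b) ^ (frobF4 K m).e ⟨f4b, hb⟩ at h1
  rw [hρ, he] at h1
  rw [pow_succ]
  show _ = chi f4b c ^ 2 ^ m * chi f4b c
  rw [← show chi f4a c = _ from h1]
  have hsum : (coreF4 K).R.α f4ab = (coreF4 K).R.α f4a + (coreF4 K).R.α f4b := funext hα
  rw [chi, hsum]
  simp [RootData.torusChar, Finset.prod_mul_distrib, zpow_add, mul_add, Finset.sum_add_distrib]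

end CfsgLib.TwistAut
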