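import Cfsg.Agent.Lib.TwistAut.SubBasicE6
import Cfsg.Agent.Lib.KnownSimple51.E6Fold.Iso

/-! Three classes of copies of F₄(2) in ²E₆(2), carried into each other by diagonal automorphisms. -/

set_option autoImplicit false
set_option linter.unusedSectionVars false

namespace CfsgLib.TwistAut.F4InE6

open Cfsg.Lie CfsgLib.ChevStr CfsgLib.Twisted CfsgLib.KnownSimple51
open scoped MatrixGroups

theorem two_le : 2 ≤ 2 ^ 1 := by norm_num

theorem orbR_flip : ∀ s : Fin chevF4.nroots, (∀ r ∈ E6Fold.orbR s.val, r < chevE6.nroots) ∧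
    ((E6Fold.orbR s.val).map e6Sym.root).Perm (E6Fold.orbR s.val) := by decide +kernel

theorem node_tab : ∀ j : Fin chevE6.rank, ∃ h : chevF4.simple (E6Fold.foldN j.val) < chevF4.nroots,
    chevF4.IsPosRoot (chevF4.simple (E6Fold.foldN j.val)) ∧
    ((E6Fold.orbR (⟨_, h⟩ : Fin chevF4.nroots).val).filter
      fun r => decide (r = chevE6.simple j.val)).length = 1 := by decide +kernel

theorem orbit_tab : ∀ i : Fin 4, (∃ _ : chevF4.simple i.val < chevF4.nroots,
    E6Fold.orbR (chevF4.simple i.val) = (e6Lead i :: e6Rest i).map fun j => chevE6.simple j.val) ∧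
    ∃ _ : chevF4.neg (chevF4.simple i.val) < chevF4.nroots,
      E6Fold.orbR (chevF4.neg (chevF4.simple i.val)) =
        (e6Lead i :: e6Rest i).map fun j => chevE6.neg (chevE6.simple j.val) := by decide +kernel

theorem cartan_class : ∀ i : Fin chevE6.rank, (3 : ℤ) ∣ chevE6.cartan i.val (chevE6.simple 0) +
    2 * chevE6.cartan i.val (chevE6.simple 2) + chevE6.cartan i.val (chevE6.simple 4) +
    2 * chevE6.cartan i.val (chevE6.simple 5) := by decide +kernel

variable {K : Type*} [Field K] [Fintype K] [CharP K 2]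

/-- The embedding of the prime field. -/
def iota : ZMod 2 →+* K := ZMod.castHom dvd_rfl K

theorem mapGL_word' {F : Type*} [Field F] (f : F →+* K) (w : List (ℕ × F)) :
    ChevField.mapGL f ((coreE6 F).wordGL w) = (coreE6 K).wordGL (w.map fun e => (e.1, f e.2)) := by
  simp only [ChevCore.wordGL, map_list_prod, List.map_map]
  refine congrArg List.prod (List.map_congr_left fun e _ => Units.ext ?_)
  simp only [Function.comp_apply]
  rw [ChevField.coe_mapGL, (coreE6 F).coe_xGL, (coreE6 K).coe_xGL, ChevField.x_map]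

variable (K) in
/-- The folded root element over the prime field, in the larger group. -/
noncomputable def yel (s : ℕ) : GL chevE6.Idx K :=
  (coreE6 K).wordGL ((E6Fold.orbR s).map fun r => (r, (1 : K)))

variable (K) in
/-- The copy of F₄(2). -/
noncomputable def H0 : Subgroup (GL chevE6.Idx K) :=
  (E6Fold.fixed (ZMod 2)).map (ChevField.mapGL (D := chevE6) (iota (K := K)))

theorem mapGL_foldX (s : ℕ) :
    ChevField.mapGL (D := chevE6) (iota (K := K)) (E6Fold.foldX s (1 : ZMod 2)) = yel K s := by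
  rw [E6Fold.foldX, E6Fold.listX, mapGL_word', yel, List.map_map]
  simp [Function.comp_def]

theorem yel_H0 (s : Fin chevF4.nroots) : yel K s.val ∈ H0 K :=
  ⟨_, E6Fold.foldX_mem s (1 : ZMod 2), mapGL_foldX s.val⟩

theorem eps_one (r : Fin chevE6.nroots) : (e6Sym.sign r.val : K) = 1 := E6Fold.sign_cast K r

theorem yel_fixed (s : Fin chevF4.nroots) : yel K s.val ∈ (frobE6 K 2 1).fixedSub := by
  obtain ⟨hlt, hperm⟩ := orbR_flip s
  refine (frobE6 K 2 1).mem_fixedSub.2 ⟨(coreE6 K).wordGL_mem_group _, ?_⟩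
  have key : ∀ L : List ℕ, (∀ r ∈ L, r < chevE6.nroots) →
      (frobE6 K 2 1).act ((coreE6 K).wordGL (L.map fun r => (r, (1 : K)))) =
        (coreE6 K).wordGL ((L.map e6Sym.root).map fun r => (r, (1 : K))) := by
    intro L hL
    induction L with
    | nil => simp [ChevCore.wordGL_nil, (frobE6 K 2 1).act_one]
    | cons a L ih =>
      have ha := hL a List.mem_cons_self
      simp only [List.map_cons, ChevCore.wordGL_cons]
      rw [(frobE6 K 2 1).act_mul ((coreE6 K).xGL_mem_group _ _) ((coreE6 K).wordGL_mem_group _),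
        ih fun r hr => hL r (List.mem_cons_of_mem _ hr),
        (frobE6 K 2 1).act_word (root := e6Sym.root) (fun _ => rfl) ha]
      show (coreE6 K).xGL (e6Sym.root a) ((e6Sym.sign a : K) * 1 ^ 2 ^ 1) * _ = _
      rw [eps_one ⟨a, ha⟩, one_pow, mul_one]
  rw [yel, key _ hlt]
  have h1 := List.Perm.prod_eq' (hperm.map fun r => (coreE6 K).xGL r (1 : K)) <| by
    rw [List.pairwise_map]
    refine List.pairwise_of_forall_mem_list fun a ha b hb => ?_
    exact E6Fold.commute_of_commPair (F := K)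
      (E6Fold.orbit_commute s a (hperm.mem_iff.1 ha) b (hperm.mem_iff.1 hb)) 1 1
  simpa [ChevCore.wordGL, Function.comp_def] using h1

section
variable (hn : Fintype.card K = (2 ^ 1) * (2 ^ 1))
include hn

theorem yel_mem (s : Fin chevF4.nroots) : yel K s.val ∈ twistedE6 K (2 ^ 1) := by
  obtain ⟨-, -, hr, hpos, -⟩ := E6Fold.repR_facts s
  have hfix := (frobE6 K 2 1).mem_fixedSub.1 (yel_fixed (K := K) s)
  by_cases h : chevF4.IsPosRoot s.val
  · refine SubE6.pos_mem hn two_le ?_ hfix.2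
    rw [(coreE6 K).posUnipotent_eq]
    refine (coreE6 K).wordGL_mem_Ucl fun e he => ?_
    obtain ⟨r, hrr, rfl⟩ := List.mem_map.1 he
    obtain ⟨hrn, hfold⟩ := hr r hrr
    exact (E6Fold.fold_pos ⟨r, hrn⟩).2 (by rw [hfold]; exact h)
  · obtain ⟨L⟩ := nonempty_longest (gensE6 K hn two_le)
    have hneg : yel K s.val ∈ (coreE6 K).Ucl {r | chevE6.IsNegRoot r} := by
      refine (coreE6 K).wordGL_mem_Ucl fun e he => ?_
      obtain ⟨r, hrr, rfl⟩ := List.mem_map.1 he
      obtain ⟨hrn, hfold⟩ := hr r hrr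
      exact ((coreE6 K).R.pos_or_neg hrn).resolve_left fun hp =>
        h (hfold ▸ (E6Fold.fold_pos ⟨r, hrn⟩).1 hp)
    have hU : L.n * yel K s.val * L.n⁻¹ ∈ chevE6.posUnipotent K :=
      (coreE6 K).conj_Ucl_le L.moves
        (fun r hr t => (coreE6 K).xGL_mem_posUnipotent (L.neg r hr) t) _ hneg
    have hLf := le_fixedE6 K hn L.mem
    have hG := SubE6.pos_mem hn two_le hU
      ((frobE6 K 2 1).mem_fixedSub.1 (mul_mem (mul_mem hLf (yel_fixed s)) (inv_mem hLf))).2
    have h2 := mul_mem (mul_mem (inv_mem L.mem) hG) L.mem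
    simpa [mul_assoc] using h2

theorem H0_le : H0 K ≤ twistedE6 K (2 ^ 1) := by
  rintro _ ⟨g, hg, rfl⟩
  set Cl : Subgroup ↥(E6Fold.fixed (ZMod 2)) :=
    Subgroup.closure (Set.range fun e : Fin chevF4.nroots × ZMod 2 => E6Fold.foldXF e.1 e.2)
  have hgen : chevF4.group (ZMod 2) ≤ Cl.map E6Fold.foldHom :=
    (coreF4 (ZMod 2)).group_le fun r t hr =>
      ⟨E6Fold.foldXF ⟨r, hr⟩ t, Subgroup.subset_closure ⟨(⟨r, hr⟩, t), rfl⟩,
        E6Fold.foldHom_foldXF _ _⟩
  obtain ⟨x, hx, hxe⟩ := hgen (E6Fold.foldHom_mem ⟨g, hg⟩)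
  have hx' : x = ⟨g, hg⟩ := E6Fold.foldHom_injective hxe
  have hle : Cl ≤ ((twistedE6 K (2 ^ 1)).comap (ChevField.mapGL (D := chevE6) (iota (K := K)))).comap
      (E6Fold.fixed (ZMod 2)).subtype := by
    refine (Subgroup.closure_le _).2 ?_
    rintro _ ⟨⟨s, t⟩, rfl⟩
    show ChevField.mapGL (D := chevE6) (iota (K := K)) (E6Fold.foldX s.val t) ∈ twistedE6 K (2 ^ 1)
    have ht : t = 0 ∨ t = 1 := by revert t; decide
    rcases ht with rfl | rfl
    · have h0 : E6Fold.foldX (F := ZMod 2) s.val 0 = 1 := by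
        rw [E6Fold.foldX, E6Fold.listX]
        generalize E6Fold.orbR s.val = L
        induction L with
        | nil => exact (coreE6 (ZMod 2)).wordGL_nil
        | cons a L ih =>
          rw [List.map_cons, ChevCore.wordGL_cons, ih, ChevCore.xGL_zero, mul_one]
      rw [h0, map_one]
      exact one_mem _
    · rw [mapGL_foldX]
      exact yel_mem hn s
  have := hle hx
  rw [hx'] at this
  exact this

theorem nO_H0 (i : Fin 4) : SubE6.nO K i ∈ H0 K := by
  set S := setupE6Aut K hn two_le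
  obtain ⟨⟨h1, e1⟩, ⟨h2, e2⟩⟩ := orbit_tab i
  have hx : S.x i 1 = yel K (chevF4.simple i.val) := by
    rw [yel, e1, ChevCore.wordGL, List.map_map, List.map_map]
    show X (coreE6 K) S.E (e6Lead i :: e6Rest i) 1 = _
    simp only [X, Xc, oprod, one_pow, Function.comp_def]
  have hxn : S.xn i 1 = yel K (chevF4.neg (chevF4.simple i.val)) := by
    rw [yel, e2, ChevCore.wordGL, List.map_map, List.map_map]
    show Xn (coreE6 K) S.E (e6Lead i :: e6Rest i) 1 = _
    simp only [Xn, oprod, one_pow, Function.comp_def]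
  have hN : SubE6.nO K i = S.x i 1 * S.xn i (-1⁻¹) * S.x i 1 := by
    show SS (coreE6 K) (S.L i) = _
    rw [← N_one (coreE6 K) (S.ok i), show N (coreE6 K) S.E (S.L i) 1 = _ from N_eq (coreE6 K) (S.ok i) 1]
  rw [hN, inv_one, CharTwo.neg_eq, hx, hxn]
  exact mul_mem (mul_mem (yel_H0 ⟨_, h1⟩) (yel_H0 ⟨_, h2⟩)) (yel_H0 ⟨_, h1⟩)

theorem exists_n0 : ∃ n0 ∈ H0 K, n0 ∈ chevE6.monomialSubgroup K ∧
    ∃ w, (coreE6 K).Moves n0 w ∧
      ∀ r : Fin chevE6.nroots, chevE6.IsPosRoot r.val → chevE6.IsNegRoot (w r).val := by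
  refine ⟨(SubE6.nO K 0 * SubE6.nO K 1 * SubE6.nO K 2 * SubE6.nO K 3) ^ 6,
    pow_mem (mul_mem (mul_mem (mul_mem (nO_H0 hn 0) (nO_H0 hn 1)) (nO_H0 hn 2)) (nO_H0 hn 3)) 6,
    pow_mem (mul_mem (mul_mem (mul_mem (SS_mono _ _) (SS_mono _ _)) (SS_mono _ _)) (SS_mono _ _)) 6,
    (SubE6.wE 0 * SubE6.wE 1 * SubE6.wE 2 * SubE6.wE 3) ^ 6, ?_, SubE6.long_tab⟩
  have h1 := ChevCore.Moves.mul (coreE6 K) (ChevCore.Moves.mul (coreE6 K) (ChevCore.Moves.mul (coreE6 K)
    (SubE6.nO_moves (K := K) 0) (SubE6.nO_moves 1)) (SubE6.nO_moves 2)) (SubE6.nO_moves 3)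
  have key : ∀ m : ℕ, (coreE6 K).Moves ((SubE6.nO K 0 * SubE6.nO K 1 * SubE6.nO K 2 * SubE6.nO K 3) ^ m)
      ((SubE6.wE 0 * SubE6.wE 1 * SubE6.wE 2 * SubE6.wE 3) ^ m) := by
    intro m
    induction m with
    | zero => simpa using ChevCore.Acts.moves _ (ChevCore.acts_one (coreE6 K))
    | succ m ih => rw [pow_succ, pow_succ]; exact ChevCore.Moves.mul _ ih h1
  exact key 6

end

/-! ### The diagonal element -/

/-- The parameters on the orbits. -/
def coef (om : Kˣ) : Fin 4 → Kˣ := fun i => if i = 0 then om else 1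

section
variable (hn : Fintype.card K = (2 ^ 1) * (2 ^ 1)) (om : Kˣ)
include hn

/-- The character of the diagonal element. -/
noncomputable def chr : ℕ → Kˣ :=
  ChevAut.leadChar (coreE6 K) fun j =>
    coef om ((setupE6Aut K hn two_le).orb j) ^ (setupE6Aut K hn two_le).E j

/-- The diagonal element. -/
noncomputable def dd : GL chevE6.Idx K := ChevAut.charGL (chr hn om)

theorem dd_conj (r : ℕ) (hr : r < chevE6.nroots) (t : K) :
    dd hn om * (coreE6 K).xGL r t * (dd hn om)⁻¹ = (coreE6 K).xGL r ((chr hn om r : K) * t) :=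
  ChevAut.charGL_conj _ KnownSimple.chainTableOK_chevE6 (ChevAut.isRootCharacter_leadChar _ _) r hr t

theorem units_cube (u : Kˣ) : u ^ 3 = 1 := by
  refine Units.ext ?_
  have h := FiniteField.pow_card_sub_one_eq_one (u : K) u.ne_zero
  rw [hn] at h
  simpa using h

theorem dd_cube : dd hn om ^ 3 = 1 := by
  refine Units.ext ?_
  rw [Units.val_pow_eq_pow_val, dd, ChevAut.charGL]
  simp only [ChevalleyDatum.charDiag, Matrix.diagonal_pow, Units.val_one, ← Matrix.diagonal_one]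
  congr 1
  funext x
  rcases x with j | s
  · simp
  · simpa using congrArg Units.val (units_cube hn (chr hn om s.val))

theorem tau_dd : SubE6.tau K 2 1 (dd hn om) = dd hn om * dd hn om := by
  refine Units.ext ?_
  rw [SubE6.tau, ChevField.coe_mapGL, dd, ChevAut.charGL, Units.val_mul]
  simp only [ChevalleyDatum.charDiag, Matrix.diagonal_mul_diagonal, Matrix.diagonal_map (map_zero _)]
  congr 1
  funext x
  rcases x with j | s
  · simp
  · show SubE6.sig K 2 1 _ = _
    rw [SubE6.sig_apply, pow_one, sq]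

theorem dd_conj_mem {y : GL chevE6.Idx K} (hy : y ∈ twistedE6 K (2 ^ 1)) :
    dd hn om * y * (dd hn om)⁻¹ ∈ twistedE6 K (2 ^ 1) := by
  set S := setupE6Aut K hn two_le
  have ha : coef om ∈ S.coeffs := fun i => by
    show coef om i ^ 2 ^ (if i.val ≤ 1 then 2 * 1 else 1) = coef om i
    unfold coef
    split_ifs with h1 h2
    · norm_num
      rw [show (4 : ℕ) = 3 + 1 from rfl, pow_succ, units_cube hn, one_mul]
    · subst h1; simp at h2
    · exact one_pow _
    · exact one_pow _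
  have h := S.stdHom_mem KnownSimple.chainTableOK_chevE6 ⟨_, ha⟩ (RingEquiv.refl K) y hy
  have e : ChevField.mapGL (RingEquiv.refl K).toRingHom y = y :=
    Units.ext (by ext a b; rfl)
  change ChevAut.charGL (chr hn om) * ChevField.mapGL (RingEquiv.refl K).toRingHom y *
    (ChevAut.charGL (chr hn om))⁻¹ ∈ _ at h
  rw [e] at h
  exact h

theorem pow_conj_mem (k : ℕ) {y : GL chevE6.Idx K} (hy : y ∈ twistedE6 K (2 ^ 1)) :
    dd hn om ^ k * y * (dd hn om ^ k)⁻¹ ∈ twistedE6 K (2 ^ 1) := by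
  induction k with
  | zero => simpa using hy
  | succ k ih =>
    rw [pow_succ' (dd hn om) k, show dd hn om * dd hn om ^ k * y * (dd hn om * dd hn om ^ k)⁻¹ =
      dd hn om * (dd hn om ^ k * y * (dd hn om ^ k)⁻¹) * (dd hn om)⁻¹ by group]
    exact dd_conj_mem hn om ih

theorem dd_pow_conj (k : ℕ) (r : ℕ) (hr : r < chevE6.nroots) (t : K) :
    dd hn om ^ k * (coreE6 K).xGL r t * (dd hn om ^ k)⁻¹ =
      (coreE6 K).xGL r ((chr hn om r : K) ^ k * t) := by
  induction k with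
  | zero => simp
  | succ k ih =>
    rw [pow_succ' (dd hn om) k, show dd hn om * dd hn om ^ k * (coreE6 K).xGL r t * (dd hn om * dd hn om ^ k)⁻¹ =
      dd hn om * (dd hn om ^ k * (coreE6 K).xGL r t * (dd hn om ^ k)⁻¹) * (dd hn om)⁻¹ by group,
      ih, dd_conj hn om r hr, pow_succ', mul_assoc]

theorem dd_pow_moves (k : ℕ) : (coreE6 K).Moves (dd hn om ^ k) 1 :=
  ⟨one_mem _, fun s t => ⟨_, dd_pow_conj hn om k s s.isLt t⟩⟩

omit hn in
/-- An element scaling every root element scales the coordinates of a product of them. -/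
theorem word_scale {z : GL chevE6.Idx K} {lam : ℕ → K}
    (hz : ∀ r, r < chevE6.nroots → ∀ t, z * (coreE6 K).xGL r t * z⁻¹ = (coreE6 K).xGL r (lam r * t))
    (L : List ℕ) (hL : ∀ r ∈ L, r < chevE6.nroots) :
    z * (coreE6 K).wordGL (L.map fun r => (r, (1 : K))) * z⁻¹ =
      (coreE6 K).wordGL (L.map fun r => (r, lam r)) := by
  induction L with
  | nil => simp [ChevCore.wordGL_nil]
  | cons a L ih =>
    simp only [List.map_cons, ChevCore.wordGL_cons]
    rw [← ih fun r hr => hL r (List.mem_cons_of_mem _ hr)]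
    conv_rhs => rw [← mul_one (lam a), ← hz a (hL a List.mem_cons_self)]
    group

omit hn in
theorem node_elem (j : Fin chevE6.rank) : ∃ L : List ℕ,
    (coreE6 K).wordGL (L.map fun r => (r, (1 : K))) ∈ H0 K ∧
    (∀ r ∈ L, r ∈ htSet (coreE6 K) 1) ∧
    ∀ v : ℕ → K, (coreE6 K).coord (htSet (coreE6 K) 1) (chevE6.simple j.val)
      ((coreE6 K).wordGL (L.map fun r => (r, v r))) = v (chevE6.simple j.val) := by
  obtain ⟨h, hpos, hcnt⟩ := node_tab j
  set s : Fin chevF4.nroots := ⟨_, h⟩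
  have hL : ∀ r ∈ E6Fold.orbR s.val, r ∈ htSet (coreE6 K) 1 := fun r hr => by
    obtain ⟨hrn, hfold⟩ := (E6Fold.repR_facts s).2.2.1 r hr
    have hp := (E6Fold.fold_pos ⟨r, hrn⟩).2 (by rw [hfold]; exact hpos)
    exact ⟨hp, (coreE6 K).R.one_le_height_of_pos hp⟩
  refine ⟨_, yel_H0 s, hL, fun v => ?_⟩
  have hs : chevE6.simple j.val ∈ htSet (coreE6 K) 1 :=
    ⟨(coreE6 K).R.simple_pos j, (coreE6 K).R.one_le_height_of_pos ((coreE6 K).R.simple_pos j)⟩
  have hs' : chevE6.simple j.val ∉ htSet (coreE6 K) (1 + 1) := fun h => by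
    have := h.2
    rw [(coreE6 K).R.α_simple] at this
    simp [heightHom_apply] at this
  rw [(coreE6 K).coord_wordGL (levelHt (coreE6 K) le_rfl) hs hs' _ (fun e he => by
      obtain ⟨r, hr, rfl⟩ := List.mem_map.1 he
      exact hL r hr), List.filter_map, List.map_map]
  obtain ⟨a, ha⟩ := List.length_eq_one_iff.1 hcnt
  have haj : a = chevE6.simple j.val := by
    have : a ∈ (E6Fold.orbR s.val).filter fun r => decide (r = chevE6.simple j.val) := by rw [ha]; simp
    exact of_decide_eq_true (List.mem_filter.1 this).2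
  simp only [Function.comp_def]
  rw [ha, haj]
  simp

theorem not_commutes {k : ℕ} (hk : k % 3 ≠ 0) (hom : om ≠ 1) {g : GL chevE6.Idx K}
    (hg : g ∈ twistedE6 K (2 ^ 1)) :
    ¬ ∀ f ∈ H0 K, g * dd hn om ^ k * f = f * (g * dd hn om ^ k) := by
  intro hcomm
  set C := coreE6 K
  set e := dd hn om ^ k with hedef
  have hgG : g ∈ chevE6.group K := (le_fixedE6 K hn hg).1
  choose L hLH hLht hLc using fun j => node_elem (K := K) j
  set f := fun j => C.wordGL ((L j).map fun r => (r, (1 : K))) with hfdef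
  have hfU : ∀ j, f j ∈ C.Ucl (htSet C 1) := fun j => C.wordGL_mem_Ucl fun q hq => by
    obtain ⟨r, hr, rfl⟩ := List.mem_map.1 hq
    exact hLht j r hr
  have hfpos : ∀ j, f j ∈ chevE6.posUnipotent K := fun j => by
    rw [posUnipotent_eq_htSet C]; exact hfU j
  have hfne : ∀ j : Fin chevE6.rank, C.coord (htSet C 1) (chevE6.simple j.val) (f j) ≠ 0 := fun j => by
    show C.coord (htSet C 1) _ (C.wordGL ((L j).map fun r => (r, (1 : K)))) ≠ 0
    rw [hLc j fun _ => (1 : K)]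
    exact one_ne_zero
  have hs : ∀ j : Fin chevE6.rank, chevE6.simple j.val ∈ htSet C 1 ∧
      chevE6.simple j.val ∉ htSet C (1 + 1) := fun j => by
    refine ⟨⟨C.R.simple_pos j, C.R.one_le_height_of_pos (C.R.simple_pos j)⟩, fun h => ?_⟩
    have := h.2
    rw [C.R.α_simple] at this
    simp [heightHom_apply] at this
  have hlev := levelHt C (k := 1) le_rfl
  have moved : ∀ X : GL chevE6.Idx K, C.Moves X 1 → ∀ j : Fin chevE6.rank,
      X * f j * X⁻¹ ∈ chevE6.posUnipotent K ∧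
      C.coord (htSet C 1) (chevE6.simple j.val) (X * f j * X⁻¹) ≠ 0 := fun X hX j => by
    obtain ⟨h1, h2⟩ := coord_conj_ne C hX hlev hlev (a := ⟨_, C.R.simple_lt j⟩)
      (b := ⟨_, C.R.simple_lt j⟩) (hs j).1 (hs j).2 (hs j).1 (hs j).2 rfl (fun s h => h) (hfU j) (hfne j)
    exact ⟨by rw [posUnipotent_eq_htSet C]; exact h1, h2⟩
  obtain ⟨n0, hn0H, hn0N, w0, hw0, hw0neg⟩ := exists_n0 hn
  have hgB : g ∈ chevE6.borelSubgroup K := by
    refine mem_borel_of_intertwine C hgG fun j =>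
      ⟨e * f j * e⁻¹, (moved e (dd_pow_moves hn om k) j).1, f j, hfpos j,
        (moved e (dd_pow_moves hn om k) j).2, ?_⟩
    calc g * (e * f j * e⁻¹) = g * e * f j * e⁻¹ := by group
      _ = f j * (g * e) * e⁻¹ := by rw [hcomm _ (hLH j)]
      _ = f j * g := by group
  have hX : C.Moves (n0 * e * n0⁻¹) 1 := by
    have := ChevCore.Moves.mul C (ChevCore.Moves.mul C hw0 (dd_pow_moves hn om k))
      (ChevCore.Moves.inv C hn0N hw0)
    rwa [mul_one, mul_inv_cancel] at this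
  have hn0G := C.monomial_le_group hn0N
  have hg'B : n0 * g * n0⁻¹ ∈ chevE6.borelSubgroup K := by
    refine mem_borel_of_intertwine C (mul_mem (mul_mem hn0G hgG) (inv_mem hn0G)) fun j =>
      ⟨n0 * e * n0⁻¹ * f j * (n0 * e * n0⁻¹)⁻¹, (moved _ hX j).1, f j, hfpos j, (moved _ hX j).2, ?_⟩
    have h := hcomm _ (mul_mem (mul_mem (inv_mem hn0H) (hLH j)) hn0H)
    calc n0 * g * n0⁻¹ * (n0 * e * n0⁻¹ * f j * (n0 * e * n0⁻¹)⁻¹) =
          n0 * (g * e * (n0⁻¹ * f j * n0)) * e⁻¹ * n0⁻¹ := by group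
      _ = n0 * (n0⁻¹ * f j * n0 * (g * e)) * e⁻¹ * n0⁻¹ := by rw [h]
      _ = f j * (n0 * g * n0⁻¹) := by group
  obtain ⟨u, hu, c, rfl⟩ := C.mem_borel.1 hgB
  have hd : n0 * C.R.torus c * n0⁻¹ ∈ chevE6.borelSubgroup K :=
    le_sup_right (a := chevE6.posUnipotent K)
      (C.conj_diagonal_mem hn0N (by rw [C.diagonalSubgroup_eq]; exact ⟨c, rfl⟩))
  have huV : n0 * u * n0⁻¹ ∈ chevE6.negUnipotent K :=
    C.conj_Ucl_le hw0 (S := {r | chevE6.IsPosRoot r}) (T := chevE6.negUnipotent K)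
      (fun s hs t => C.xGL_mem_negUnipotent (hw0neg s hs) t) u (C.posUnipotent_eq ▸ hu)
  have huB : n0 * u * n0⁻¹ ∈ chevE6.borelSubgroup K := by
    rw [show n0 * u * n0⁻¹ = n0 * (u * C.R.torus c) * n0⁻¹ * (n0 * C.R.torus c * n0⁻¹)⁻¹ by group]
    exact mul_mem hg'B (inv_mem hd)
  have hu1 : u = 1 := conj_eq_one_iff.1 ((Subgroup.eq_bot_iff_forall _).1 C.borel_inf_negUnipotent _
    (Subgroup.mem_inf.2 ⟨huB, huV⟩))
  subst hu1
  rw [one_mul] at hcomm
  set lam : ℕ → K := fun r =>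
    (C.R.torusChar c (C.R.α r) : K) * (chr hn om r : K) ^ k with hlam
  have hz : ∀ r, r < chevE6.nroots → ∀ t,
      C.R.torus c * e * C.xGL r t * (C.R.torus c * e)⁻¹ = C.xGL r (lam r * t) := by
    intro r hr t
    rw [show C.R.torus c * e * C.xGL r t * (C.R.torus c * e)⁻¹ =
      C.R.torus c * (e * C.xGL r t * e⁻¹) * (C.R.torus c)⁻¹ by group, hedef, dd_pow_conj hn om k r hr,
      show C.R.torus c * C.xGL r ((chr hn om r : K) ^ k * t) * (C.R.torus c)⁻¹ =
        C.xGL r ((C.R.torusChar c (C.R.α r) : K) * ((chr hn om r : K) ^ k * t)) from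
          C.acts_torus c ⟨r, hr⟩ _, ← mul_assoc]
  have hone : ∀ j : Fin chevE6.rank,
      C.R.torusChar c (C.R.α (chevE6.simple j.val)) * chr hn om (chevE6.simple j.val) ^ k = 1 := by
    intro j
    have h := hcomm _ (hLH j)
    rw [← mul_inv_eq_iff_eq_mul, word_scale hz (L j) (fun r hr => (hLht j r hr).1.1)] at h
    have h1 := congrArg (C.coord (htSet C 1) (chevE6.simple j.val)) h
    rw [hLc j, hLc j] at h1
    exact Units.ext (by rw [Units.val_mul, Units.val_pow_eq_pow_val]; exact h1)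
  have hchi : ∀ j : Fin chevE6.rank, chr hn om (chevE6.simple j.val) =
      coef om (e6Orb j) ^ 2 ^ (if j.val = 4 ∨ j.val = 5 then 1 else 0) := fun j =>
    ChevAut.leadChar_simple (coreE6 K) _ j
  have h0 := hone (nodeE6 0)
  have h2 := hone (nodeE6 2)
  have h4 := hone (nodeE6 4)
  have h5 := hone (nodeE6 5)
  rw [hchi] at h0 h2 h4 h5
  simp only [nodeE6, e6Orb, coef] at h0 h2 h4 h5
  norm_num at h0 h2 h4 h5
  have hz3 : ∀ (u : Kˣ) (m : ℤ), (3 : ℤ) ∣ m → u ^ m = 1 := fun u m ⟨l, hl⟩ => by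
    rw [hl, zpow_mul, show u ^ (3 : ℤ) = u ^ 3 from zpow_natCast u 3, units_cube hn, one_zpow]
  have hclass : C.R.torusChar c (C.R.α (chevE6.simple 0)) *
      C.R.torusChar c (C.R.α (chevE6.simple 2)) ^ 2 * C.R.torusChar c (C.R.α (chevE6.simple 4)) *
      C.R.torusChar c (C.R.α (chevE6.simple 5)) ^ 2 = 1 := by
    rw [C.R.torusChar_root c (C.R.simple_lt (⟨0, by decide⟩ : Fin chevE6.rank)),
      C.R.torusChar_root c (C.R.simple_lt (⟨2, by decide⟩ : Fin chevE6.rank)),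
      C.R.torusChar_root c (C.R.simple_lt (⟨4, by decide⟩ : Fin chevE6.rank)),
      C.R.torusChar_root c (C.R.simple_lt (⟨5, by decide⟩ : Fin chevE6.rank)),
      ← Finset.prod_pow, ← Finset.prod_pow, ← Finset.prod_mul_distrib, ← Finset.prod_mul_distrib,
      ← Finset.prod_mul_distrib]
    refine Finset.prod_eq_one fun i _ => ?_
    rw [← zpow_natCast, ← zpow_natCast, ← zpow_mul, ← zpow_mul, ← zpow_add, ← zpow_add, ← zpow_add]
    refine hz3 _ _ ?_
    have := cartan_class i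
    convert this using 1
    push_cast
    ring
  have hom2 : om ^ k = 1 := by
    have e0 := eq_inv_of_mul_eq_one_left h0
    have e5 := eq_inv_of_mul_eq_one_left h5
    rw [e0, h2, h4, e5] at hclass
    simp only [one_pow, mul_one, ← pow_mul, inv_pow, ← mul_inv, inv_eq_one, ← pow_add] at hclass
    have h35 : om ^ (k + 2 * k * 2) = (om ^ k) ^ 2 := by
      rw [show k + 2 * k * 2 = 3 * k + k * 2 by ring, pow_add, pow_mul, units_cube hn, one_pow, one_mul,
        pow_mul]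
    rw [h35] at hclass
    have h3 := units_cube hn (om ^ k)
    rw [pow_succ, hclass, one_mul] at h3
    exact h3
  refine hom ?_
  obtain ⟨q, r, hr, rfl⟩ : ∃ q r, (r = 1 ∨ r = 2) ∧ k = 3 * q + r :=
    ⟨k / 3, k % 3, by omega, by omega⟩
  rw [pow_add, pow_mul, units_cube hn, one_pow, one_mul] at hom2
  rcases hr with rfl | rfl
  · simpa using hom2
  · have h3 := units_cube hn om
    rw [pow_succ, hom2, one_mul] at h3
    exact h3

end

theorem tau_H0 {f : GL chevE6.Idx K} (hf : f ∈ H0 K) : SubE6.tau K 2 1 f = f := by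
  obtain ⟨g, -, rfl⟩ := hf
  refine Units.ext (Matrix.ext fun a b => ?_)
  show SubE6.sig K 2 1 (iota ((g : Matrix _ _ (ZMod 2)) a b)) = iota ((g : Matrix _ _ (ZMod 2)) a b)
  rw [SubE6.sig_apply, ← map_pow]
  exact congrArg _ (by generalize (g : Matrix _ _ (ZMod 2)) a b = x; revert x; decide)

/-- Three pairwise non-conjugate copies of F₄(2). -/
theorem exists_three (hn : Fintype.card K = (2 ^ 1) * (2 ^ 1)) :
    ∃ H : Fin 3 → Subgroup ↥(twistedE6 K (2 ^ 1)),
      (∀ i, Nonempty ((H i) ≃* chevF4.group (ZMod 2))) ∧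
      (∀ i j, i ≠ j → ∀ g : ↥(twistedE6 K (2 ^ 1)), (H i).map (MulAut.conj g).toMonoidHom ≠ H j) := by
  classical
  obtain ⟨om, hom⟩ : ∃ om : Kˣ, om ≠ 1 := by
    have h : Fintype.card Kˣ = 3 := by rw [Fintype.card_units, hn]; norm_num
    exact Fintype.exists_ne_of_one_lt_card (by omega) 1
  set d := dd hn om
  let P : Fin 3 → Subgroup (GL chevE6.Idx K) := fun i => (H0 K).map (MulAut.conj (d ^ i.val)).toMonoidHom
  have hP : ∀ i, P i ≤ twistedE6 K (2 ^ 1) := by
    rintro i _ ⟨f, hf, rfl⟩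
    exact pow_conj_mem hn om i.val (H0_le hn hf)
  refine ⟨fun i => (P i).subgroupOf _, fun i => ⟨((Subgroup.subgroupOfEquivOfLe (hP i)).trans
    (Subgroup.equivMapOfInjective _ _ (MulEquiv.injective _)).symm).trans
    ((Subgroup.equivMapOfInjective _ _ (ChevField.mapGL_injective _)).symm.trans
      E6Fold.fixedEquiv)⟩, fun i j hij g he => ?_⟩
  have hconj : ∀ f ∈ H0 K,
      (d ^ j.val)⁻¹ * (g : GL chevE6.Idx K) * d ^ i.val * f *
        ((d ^ j.val)⁻¹ * (g : GL chevE6.Idx K) * d ^ i.val)⁻¹ ∈ H0 K := by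
    intro f hf
    have hfP : d ^ i.val * f * (d ^ i.val)⁻¹ ∈ P i := ⟨f, hf, rfl⟩
    have h1 : MulAut.conj g ⟨_, hP i hfP⟩ ∈ (P j).subgroupOf (twistedE6 K (2 ^ 1)) := by
      have h0 := Subgroup.mem_map_of_mem (MulAut.conj g).toMonoidHom
        (show (⟨_, hP i hfP⟩ : ↥(twistedE6 K (2 ^ 1))) ∈ (P i).subgroupOf _ from hfP)
      exact (SetLike.ext_iff.1 he _).1 h0
    obtain ⟨f', hf', hfe⟩ := h1
    change d ^ j.val * f' * (d ^ j.val)⁻¹ =
      (g : GL chevE6.Idx K) * (d ^ i.val * f * (d ^ i.val)⁻¹) * (g : GL chevE6.Idx K)⁻¹ at hfe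
    rw [show (d ^ j.val)⁻¹ * (g : GL chevE6.Idx K) * d ^ i.val * f *
        ((d ^ j.val)⁻¹ * (g : GL chevE6.Idx K) * d ^ i.val)⁻¹ =
      (d ^ j.val)⁻¹ * ((g : GL chevE6.Idx K) * (d ^ i.val * f * (d ^ i.val)⁻¹) *
        (g : GL chevE6.Idx K)⁻¹) * d ^ j.val by group, ← hfe]
    simpa [mul_assoc] using hf'
  set h := (d ^ j.val)⁻¹ * (g : GL chevE6.Idx K) * d ^ i.val with hhdef
  have hz : ∀ f ∈ H0 K, h⁻¹ * SubE6.tau K 2 1 h * f = f * (h⁻¹ * SubE6.tau K 2 1 h) := by
    intro f hf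
    have h1 := tau_H0 (hconj f hf)
    rw [map_mul, map_mul, map_inv, tau_H0 hf, mul_inv_eq_iff_eq_mul] at h1
    calc h⁻¹ * SubE6.tau K 2 1 h * f = h⁻¹ * (SubE6.tau K 2 1 h * f) := by group
      _ = h⁻¹ * (h * f * h⁻¹ * SubE6.tau K 2 1 h) := by rw [h1]
      _ = f * (h⁻¹ * SubE6.tau K 2 1 h) := by group
  set T := SubE6.tau K 2 1 (g : GL chevE6.Idx K)
  have hT : T ∈ twistedE6 K (2 ^ 1) := SubE6.tau_mem hn two_le g.2
  have htd : ∀ m : ℕ, SubE6.tau K 2 1 (d ^ m) = d ^ m * d ^ m := fun m => by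
    rw [map_pow, tau_dd, ← sq, ← pow_mul, ← pow_add]
    congr 1
    ring
  have hinner : (g : GL chevE6.Idx K)⁻¹ * (d ^ (2 * j.val) * T * (d ^ (2 * j.val))⁻¹) ∈
      twistedE6 K (2 ^ 1) := mul_mem (inv_mem g.2) (pow_conj_mem hn om _ hT)
  have houter := pow_conj_mem hn om (2 * i.val) hinner
  refine not_commutes hn om (k := i.val + 2 * j.val) (by omega) hom houter fun f hf => ?_
  have e : h⁻¹ * SubE6.tau K 2 1 h =
      d ^ (2 * i.val) * ((g : GL chevE6.Idx K)⁻¹ * (d ^ (2 * j.val) * T * (d ^ (2 * j.val))⁻¹)) *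
        (d ^ (2 * i.val))⁻¹ * d ^ (i.val + 2 * j.val) := by
    have h3 : ∀ m : ℕ, d ^ (3 * m) = 1 := fun m => by rw [pow_mul, dd_cube, one_pow]
    have hinv : ∀ m : ℕ, (d ^ m)⁻¹ = d ^ (2 * m) := fun m =>
      inv_eq_of_mul_eq_one_right (by rw [← pow_add, show m + 2 * m = 3 * m by ring, h3])
    rw [hhdef, map_mul, map_mul, map_inv, htd, htd, mul_inv_rev, mul_inv_rev, mul_inv_rev, inv_inv]
    simp only [hinv, ← pow_add, mul_assoc]
    have hm : ∀ a b : ℕ, a % 3 = b % 3 → d ^ a = d ^ b := fun a b hab => by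
      rw [← Nat.div_add_mod a 3, ← Nat.div_add_mod b 3, pow_add, pow_add, h3, h3, hab]
    rw [← mul_assoc (d ^ j.val) (d ^ (2 * j.val + 2 * j.val)), ← pow_add,
      hm (j.val + (2 * j.val + 2 * j.val)) (2 * j.val) (by omega),
      hm (2 * (2 * j.val) + 2 * (2 * i.val) + (i.val + 2 * j.val)) (i.val + i.val) (by omega)]
  rw [← e]
  exact hz f hf

end CfsgLib.TwistAut.F4InE6
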