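import Cfsg.Agent.Lib.TwistAut.Normalize
import Cfsg.Agent.Lib.TwistedStr.Structure

/-!
An automorphism fixing an orbit group pointwise fixes the opposite orbit group pointwise, and the
parameter maps of orbit groups are semilinear as soon as the torus acts on them by every scalar.
-/

set_option autoImplicit false

namespace CfsgLib.TwistAut

open Cfsg.Lie CfsgLib.ChevStr CfsgLib.Twisted
open scoped MatrixGroups

variable {D : ChevalleyDatum} {F : Type*} [Field F] {C : ChevCore D F}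

/-- The coordinate of a torus conjugate. -/
theorem coord_torus {S S' : Set ℕ} (h : C.Level S S') {r : ℕ} (hr : r ∈ S) (hr' : r ∉ S')
    (c : Fin D.rank → Fˣ) {u : GL D.Idx F} (hu : u ∈ C.Ucl S) :
    C.coord S r (C.R.torus c * u * (C.R.torus c)⁻¹) =
      (C.R.torusChar c (C.R.α r) : F) * C.coord S r u := by
  have hnorm : ∀ T : Set ℕ, ∀ y ∈ C.Ucl T, C.R.torus c * y * (C.R.torus c)⁻¹ ∈ C.Ucl T :=
    fun T y hy => (Subgroup.mem_normalizer_iff.1 (C.torus_normalizes T ⟨c, rfl⟩) y).1 hy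
  refine C.coord_eq h hr hr' (hnorm S u hu) ?_
  rw [show C.xGL r ((C.R.torusChar c (C.R.α r) : F) * C.coord S r u) =
    C.R.torus c * C.xGL r (C.coord S r u) * (C.R.torus c)⁻¹ from
      (C.acts_torus c ⟨r, (h.pos r hr).1⟩ _).symm]
  have := hnorm _ _ (C.coord_spec h hr hr' hu)
  simpa [mul_assoc] using this

/-- An additive map commuting with scalars up to a map of the scalars is semilinear. -/
theorem semilinear [Finite F] {f : F → F} (hadd : ∀ t u, f (t + u) = f t + f u)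
    (hinj : Function.Injective f) (hmul : ∀ c : Fˣ, ∃ k : F, ∀ t, f ((c : F) * t) = k * f t) :
    ∃ (σ : F ≃+* F) (a : Fˣ), ∀ t, f t = (a : F) * σ t := by
  have h0 : f 0 = 0 := add_eq_left.1 ((hadd 0 0).symm.trans (by rw [add_zero]))
  have h1 : f 1 ≠ 0 := fun e => one_ne_zero (hinj (e.trans h0.symm))
  have hm : ∀ c t, f (c * t) / f 1 = f c / f 1 * (f t / f 1) := fun c t => by
    by_cases hc : c = 0
    · simp [hc, h0]
    · obtain ⟨k, hk⟩ := hmul (Units.mk0 c hc)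
      simp only [Units.val_mk0] at hk
      have e := hk 1
      rw [mul_one] at e
      rw [hk t, e, mul_div_cancel_right₀ _ h1, mul_div_assoc]
  refine ⟨RingEquiv.ofBijective
    ({ toFun := fun t => f t / f 1
       map_one' := div_self h1
       map_mul' := hm
       map_zero' := by rw [h0, zero_div]
       map_add' := fun t u => by rw [hadd, add_div] } : F →+* F)
    (Finite.injective_iff_bijective.1 fun a b e => hinj ((div_left_inj' h1).1 e)),
    Units.mk0 _ h1, fun t => ?_⟩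
  show f t = f 1 * (f t / f 1)
  rw [mul_div_cancel₀ _ h1]

variable {φ : Frob C} {I : Type} {O : OrbitData C.R φ.ρ I} {G1 : Subgroup (GL D.Idx F)} {d : ℕ}
  [Fintype F] (g : Gens φ O G1 d)

include g

/-- A torus element whose characters at one root of each orbit are trivial is trivial. -/
theorem torus_eq_one_of_leads (lead : I → Fin D.rank) (hlead : ∀ i, lead i ∈ O.J i)
    {c : Fin D.rank → Fˣ} (hc : C.R.torus c ∈ G1)
    (h : ∀ i, C.R.torusChar c (C.R.α (D.simple (lead i).val)) = 1) : C.R.torus c = 1 := by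
  refine (C.torus_eq_one_iff c).2 (funext fun k => ?_)
  obtain ⟨i, hi⟩ := O.cover k
  obtain ⟨m, hm⟩ := O.trans i _ (hlead i) k hi
  have key : ∀ m : ℕ, C.R.torusChar c
      (C.R.α ((φ.ρ ^ m) ⟨D.simple (lead i).val, C.R.simple_lt _⟩ : Fin D.nroots)) = 1 := by
    intro m
    induction m with
    | zero => exact h i
    | succ m ih => rw [pow_succ', Equiv.Perm.mul_apply, g.char_fixed hc, ih, one_pow]
  have e := key m.val
  rw [hm, C.R.torusChar_root c (C.R.simple_lt k)] at e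
  exact e

/-- The rank one decomposition inside an orbit. -/
theorem exists_rank_one (i : I) {v : GL D.Idx F} (hv : v ∈ φ.fixU (negRootsIn C.R (O.J i)))
    (hne : v ≠ 1) :
    ∃ x ∈ φ.fixU (inRoots C.R (O.J i)), ∃ n, n ∈ D.monomialSubgroup F ∧ n ∈ G1 ∧
      C.Moves n (g.wJ i) ∧ ∃ y ∈ φ.fixU (inRoots C.R (O.J i)), v = x * n * y := by
  set a := (g.s i)⁻¹ * v * g.s i with ha
  have hd : g.s i * g.s i ∈ D.diagonalSubgroup F := g.sq_mem i
  obtain ⟨z, hz⟩ : g.s i * g.s i ∈ C.R.torus.range := by rw [← C.diagonalSubgroup_eq]; exact hd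
  have haI : a ∈ φ.fixU (inRoots C.R (O.J i)) := by
    obtain ⟨h1, h2⟩ := Subgroup.mem_inf.1 (conj_negIn_mem g i hv)
    have hs2 := g.le_fixed (mul_mem (g.s_mem i) (g.s_mem i))
    have h3 := (Subgroup.mem_normalizer_iff.1 (inv_mem (C.torus_normalizes (inRoots C.R (O.J i))
      ⟨z, hz⟩)) _).1 h1
    have h4 := mul_mem (mul_mem (inv_mem hs2) h2) hs2
    have e : a = (g.s i * g.s i)⁻¹ * (g.s i * v * (g.s i)⁻¹) * (g.s i * g.s i) := by rw [ha]; group
    refine Subgroup.mem_inf.2 ⟨?_, e ▸ h4⟩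
    rw [e]
    simpa [mul_assoc] using h3
  have hva : g.s i * a * (g.s i)⁻¹ = v := by rw [ha]; group
  have hane : a ≠ 1 := fun e => hne (by rw [← hva, e, mul_one, mul_inv_cancel])
  obtain ⟨x, hx, t, ht, y, hy, hyV, he⟩ := g.reflections.rank_one i a (fixU_in_le g i haI) hane
    (by rw [show g.reflections.s i = g.s i from rfl, hva]; exact Ucl_negIn_le_V (Subgroup.mem_inf.1 hv).1)
  change g.s i * a * (g.s i)⁻¹ = x * (g.s i * t) * y at he
  rw [hva] at he
  have hyI : y ∈ φ.fixU (inRoots C.R (O.J i)) := Subgroup.mem_inf.2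
    ⟨mem_in_of_conj (g.s_moves i) (g.wJ_mem i) (g.wJ_neg i) hy.1 hyV, g.le_fixed hy.2⟩
  have hnN : g.s i * t ∈ D.monomialSubgroup F :=
    mul_mem (g.s_mem_N i) (le_sup_left (b := Subgroup.closure _) ht.1)
  have hnM : C.Moves (g.s i * t) (g.wJ i) := by
    obtain ⟨c, hc⟩ : t ∈ C.R.torus.range := by rw [← C.diagonalSubgroup_eq]; exact ht.1
    have := ChevCore.Moves.mul C (g.s_moves i) (C.moves_torus c)
    rwa [mul_one, hc] at this
  obtain ⟨a', ha', c', hc', hxe⟩ := exists_split C (O.J i) hx.1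
  have hc0 : c' ∈ deg0Sub C (O.J i) := by
    have hpos : C.Ucl (inRoots C.R (O.J i)) ≤ deg0Sub C (O.J i) :=
      C.Ucl_le fun r hr t => xGL_deg0 C _ hr.2 t
    have hvd : v ∈ deg0Sub C (O.J i) :=
      C.Ucl_le (fun r hr t => xGL_deg0 C _ hr.2 t) (Subgroup.mem_inf.1 hv).1
    rw [show c' = a'⁻¹ * v * y⁻¹ * (g.s i * t)⁻¹ by rw [he, hxe]; group]
    exact mul_mem (mul_mem (mul_mem (inv_mem (hpos ha')) hvd)
      (inv_mem (hpos (Subgroup.mem_inf.1 hyI).1))) (inv_mem (monomial_deg0 C _ hnN hnM (g.wJ_mem i)))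
  rw [out_deg0_eq_one C _ hc' hc0, mul_one] at hxe
  exact ⟨x, Subgroup.mem_inf.2 ⟨hxe ▸ ha', g.le_fixed hx.2⟩, g.s i * t, hnN,
    mul_mem (g.s_mem i) ht.2, hnM, y, hyI, he⟩

theorem conj_cell_mem (i : I) {n : GL D.Idx F} (hnG : n ∈ G1) (hn : C.Moves n (g.wJ i))
    {u : GL D.Idx F} (hu : u ∈ φ.fixU (inRoots C.R (O.J i))) :
    n * u * n⁻¹ ∈ φ.fixU (negRootsIn C.R (O.J i)) :=
  Subgroup.mem_inf.2 ⟨conj_in hn (g.wJ_mem i) (g.wJ_neg i) u (Subgroup.mem_inf.1 hu).1,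
    mul_mem (mul_mem (g.le_fixed hnG) (Subgroup.mem_inf.1 hu).2) (inv_mem (g.le_fixed hnG))⟩

theorem conj_cell_surj (i : I) {n : GL D.Idx F} (hnG : n ∈ G1) (hn : C.Moves n (g.wJ i))
    {w : GL D.Idx F} (hw : w ∈ φ.fixU (negRootsIn C.R (O.J i))) :
    ∃ u ∈ φ.fixU (inRoots C.R (O.J i)), n * u * n⁻¹ = w := by
  obtain ⟨u, hu⟩ := ((Nat.bijective_iff_injective_and_card
    (fun u : ↥(φ.fixU (inRoots C.R (O.J i))) =>
      (⟨_, conj_cell_mem g i hnG hn u.2⟩ : ↥(φ.fixU (negRootsIn C.R (O.J i)))))).2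
    ⟨fun a c e => Subtype.ext (mul_left_cancel (mul_right_cancel (congrArg Subtype.val e))),
      (card_negIn g i).symm⟩).2 ⟨w, hw⟩
  exact ⟨u, u.2, congrArg Subtype.val hu⟩

/-- Only the identity of an orbit group normalises the opposite one. -/
theorem eq_one_of_normalizes_negIn (i : I) {a : GL D.Idx F}
    (ha : a ∈ φ.fixU (inRoots C.R (O.J i)))
    (h : ∀ w ∈ φ.fixU (negRootsIn C.R (O.J i)), a * w * a⁻¹ ∈ φ.fixU (negRootsIn C.R (O.J i))) :
    a = 1 := by
  set v := g.s i * a * (g.s i)⁻¹ with hv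
  have hvI : v ∈ φ.fixU (negRootsIn C.R (O.J i)) := conj_in_mem g i ha
  by_contra hne
  have hvne : v ≠ 1 := fun e => hne (conj_eq_one_iff.1 e)
  obtain ⟨x, hx, n, hnN, hnG, hn, y, hy, he⟩ := exists_rank_one g i hvI hvne
  have hnorm : ∀ u ∈ φ.fixU (inRoots C.R (O.J i)), v * u * v⁻¹ ∈ φ.fixU (inRoots C.R (O.J i)) := by
    intro u hu
    obtain ⟨w, hw, hwu⟩ : ∃ w ∈ φ.fixU (negRootsIn C.R (O.J i)), g.s i * w * (g.s i)⁻¹ = u := by
      obtain ⟨w, hw⟩ := ((Nat.bijective_iff_injective_and_card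
        (fun w : ↥(φ.fixU (negRootsIn C.R (O.J i))) =>
          (⟨_, conj_negIn_mem g i w.2⟩ : ↥(φ.fixU (inRoots C.R (O.J i)))))).2
        ⟨fun a c e => Subtype.ext (mul_left_cancel (mul_right_cancel (congrArg Subtype.val e))),
          card_negIn g i⟩).2 ⟨u, hu⟩
      exact ⟨w, w.2, congrArg Subtype.val hw⟩
    have := conj_negIn_mem g i (h w hw)
    rw [← hwu, hv]
    simpa [mul_assoc] using this
  obtain ⟨u₀, hu₀, hu₀ne⟩ := exists_in_ne_one g i
  have hw₀ := conj_in_mem g i hu₀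
  obtain ⟨u, hu, hue⟩ := conj_cell_surj g i hnG hn hw₀
  have h1 := hnorm (y⁻¹ * u * y) (mul_mem (mul_mem (inv_mem hy) hu) hy)
  have h2 := mul_mem (mul_mem (inv_mem hx) h1) hx
  rw [show x⁻¹ * (v * (y⁻¹ * u * y) * v⁻¹) * x = n * u * n⁻¹ by clear_value v; rw [he]; group, hue] at h2
  exact hu₀ne (conj_eq_one_iff.1 ((Subgroup.eq_bot_iff_forall _).1 C.borel_inf_negUnipotent _
    (Subgroup.mem_inf.2 ⟨(pU_le_bor G1 (fixU_in_le g i h2)).1,
      Ucl_negIn_le_V (Subgroup.mem_inf.1 hw₀).1⟩)))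

/-- An automorphism fixing an orbit group pointwise fixes the opposite one pointwise. -/
theorem fix_negIn (i : I) {ψ : ↥G1 ≃* ↥G1}
    (hneg : ∀ v ∈ φ.fixU (negRootsIn C.R (O.J i)), app ψ v ∈ φ.fixU (negRootsIn C.R (O.J i)))
    (hfix : ∀ u ∈ φ.fixU (inRoots C.R (O.J i)), app ψ u = u) :
    ∀ v ∈ φ.fixU (negRootsIn C.R (O.J i)), app ψ v = v := by
  intro v hv
  by_cases hne : v = 1
  · rw [hne, app_one]
  have hvG := (negIn_le g i hv).2
  have hv' := hneg v hv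
  have hne' : app ψ v ≠ 1 := fun e => hne (app_inj ψ hvG (one_mem _) (e.trans (app_one ψ).symm))
  obtain ⟨x, hx, n, hnN, hnG, hn, y, hy, he⟩ := exists_rank_one g i hv hne
  obtain ⟨x', hx', n', hn'N, hn'G, hn', y', hy', he'⟩ := exists_rank_one g i hv' hne'
  have hG : ∀ {u}, u ∈ φ.fixU (inRoots C.R (O.J i)) → u ∈ G1 := fun hu => (fixU_in_le g i hu).2
  set a := x⁻¹ * x' with ha
  set b := y' * y⁻¹ with hb
  have hψn : app ψ n = a * n' * b := by
    rw [show n = x⁻¹ * v * y⁻¹ by rw [he]; group,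
      app_mul ψ (mul_mem (inv_mem (hG hx)) hvG) (inv_mem (hG hy)),
      app_mul ψ (inv_mem (hG hx)) hvG, hfix _ (inv_mem hx), hfix _ (inv_mem hy), he', ha, hb]
    group
  have h1 : a = 1 := by
    refine eq_one_of_normalizes_negIn g i (mul_mem (inv_mem hx) hx') fun w hw => ?_
    obtain ⟨u, hu, rfl⟩ := conj_cell_surj g i hn'G hn' hw
    have hu' : b⁻¹ * u * b ∈ φ.fixU (inRoots C.R (O.J i)) :=
      mul_mem (mul_mem (inv_mem (mul_mem hy' (inv_mem hy))) hu) (mul_mem hy' (inv_mem hy))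
    have h2 := hneg _ (conj_cell_mem g i hnG hn hu')
    rw [app_conj ψ hnG (hG hu'), hfix _ hu', hψn] at h2
    simpa [mul_assoc] using h2
  have hxx : x' = x := (inv_mul_eq_one.1 h1).symm
  have hd : n⁻¹ * n' ∈ D.diagonalSubgroup F := by
    refine C.mem_diagonal_of_moves_one (mul_mem (inv_mem hnN) hn'N) ?_
    have := ChevCore.Moves.mul C (ChevCore.Moves.inv C hnN hn) hn'
    rwa [inv_mul_cancel] at this
  have hB : v⁻¹ * app ψ v ∈ D.borelSubgroup F := by
    rw [he', hxx, he, show (x * n * y)⁻¹ * (x * n' * y') = y⁻¹ * (n⁻¹ * n') * y' by group]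
    exact mul_mem (mul_mem (inv_mem (pU_le_bor G1 (fixU_in_le g i hy)).1)
      (le_sup_right (a := D.posUnipotent F) hd)) (pU_le_bor G1 (fixU_in_le g i hy')).1
  exact (inv_mul_eq_one.1 ((Subgroup.eq_bot_iff_forall _).1 C.borel_inf_negUnipotent _
    (Subgroup.mem_inf.2 ⟨hB, mul_mem (inv_mem (Ucl_negIn_le_V (Subgroup.mem_inf.1 hv).1))
      (Ucl_negIn_le_V (Subgroup.mem_inf.1 hv').1)⟩))).symm

end CfsgLib.TwistAut
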