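import Cfsg.Agent.Lib.TwistedStr.Structure

/-!
Coordinates on levels of unipotent groups under field maps, monomial elements and commutators with
root elements, and a criterion for an element to lie in the Borel subgroup.
-/

set_option autoImplicit false

namespace CfsgLib.TwistAut

open Cfsg.Lie CfsgLib.ChevStr CfsgLib.Twisted
open scoped MatrixGroups

variable {D : ChevalleyDatum} {F : Type*} [Field F] (C : ChevCore D F)

/-- The positive roots of height at least `k`. -/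
def htSet (k : ℤ) : Set ℕ := {r | D.IsPosRoot r ∧ k ≤ heightHom _ (C.R.α r)}

theorem combo_height {r s j : ℕ} (hr : D.IsPosRoot r) (hs : D.IsPosRoot s) (h : C.R.IsCombo r s j) :
    D.IsPosRoot j ∧
      heightHom _ (C.R.α r) + heightHom _ (C.R.α s) ≤ heightHom _ (C.R.α j) := by
  refine ⟨C.R.combo_pos hr hs h, ?_⟩
  obtain ⟨-, a, b, ha, hb, hab⟩ := h
  have h1 := C.R.one_le_height_of_pos hr
  have h2 := C.R.one_le_height_of_pos hs
  rw [hab, map_add, map_zsmul, map_zsmul, smul_eq_mul, smul_eq_mul]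
  have ha' : (1 : ℤ) ≤ a := by omega
  have hb' : (1 : ℤ) ≤ b := by omega
  nlinarith

theorem levelHt {k : ℤ} (hk : 1 ≤ k) : C.Level (htSet C k) (htSet C (k + 1)) := by
  refine ⟨fun r hr => hr.1, fun r hr => ⟨hr.1, by have := hr.2; omega⟩, fun r hr s hs j hj => ?_⟩
  obtain ⟨h1, h2⟩ := combo_height C hr.1 hs.1 hj
  exact ⟨h1, by have := hr.2; have := hs.2; omega⟩

theorem posUnipotent_eq_htSet : D.posUnipotent F = C.Ucl (htSet C 1) := by
  rw [C.posUnipotent_eq]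
  congr 1
  ext r
  exact ⟨fun h => ⟨h, C.R.one_le_height_of_pos h⟩, fun h => h.1⟩

theorem coord_map (σ : F ≃+* F) {S S' : Set ℕ} (h : C.Level S S') {r : ℕ} (hr : r ∈ S)
    (hr' : r ∉ S') {g : GL D.Idx F} (hg : g ∈ C.Ucl S) :
    C.coord S r (ChevField.mapGL σ.toRingHom g) = σ (C.coord S r g) := by
  refine C.coord_eq h hr hr' (ChevField.mapGL_Ucl C σ hg) ?_
  rw [← ChevField.mapGL_xGL C σ, ← map_inv, ← map_mul]
  exact ChevField.mapGL_Ucl C σ (C.coord_spec h hr hr' hg)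

/-- A monomial element carries a nonzero coordinate to a nonzero coordinate. -/
theorem coord_conj_ne {n : GL D.Idx F} {w : Equiv.Perm (Fin D.nroots)} (hn : C.Moves n w)
    {S S' T T' : Set ℕ} (hS : C.Level S S') (hT : C.Level T T') {a b : Fin D.nroots}
    (ha : (a : ℕ) ∈ S) (ha' : (a : ℕ) ∉ S') (hb : (b : ℕ) ∈ T) (hb' : (b : ℕ) ∉ T')
    (hab : w a = b) (hw : ∀ s : Fin D.nroots, (s : ℕ) ∈ S → (w s : ℕ) ∈ T)
    {g : GL D.Idx F} (hg : g ∈ C.Ucl S) (hne : C.coord S a g ≠ 0) :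
    n * g * n⁻¹ ∈ C.Ucl T ∧ C.coord T b (n * g * n⁻¹) ≠ 0 := by
  have hmem := C.conj_Ucl_le hn (fun s hs t => C.xGL_mem_Ucl (hw s hs) t) g hg
  refine ⟨hmem, ?_⟩
  obtain ⟨u, hu⟩ := hn.2 a (C.coord S a g)
  rw [hab] at hu
  have hrest := C.conj_Ucl_le hn (S := S \ {(a : ℕ)}) (T := C.Ucl (T \ {(b : ℕ)}))
    (fun s hs t => C.xGL_mem_Ucl (S := T \ {(b : ℕ)}) ⟨hw s hs.1, fun e => hs.2 (by
      have : w s = w a := hab ▸ Fin.ext e
      exact congrArg Fin.val (w.injective this))⟩ t) _ (C.coord_spec hS ha ha' hg)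
  have hc : C.coord T b (n * g * n⁻¹) = u := by
    refine C.coord_eq hT hb hb' hmem ?_
    rw [← hu]
    simpa [mul_assoc] using hrest
  rw [hc]
  intro h0
  rw [h0, C.xGL_zero, conj_eq_one_iff, C.xGL_eq_one_iff a.isLt] at hu
  exact hne hu

variable {T T' : Set ℕ}

/-- Conjugation by a positive root element does not change the coordinates. -/
theorem coord_conj_pos (hT : C.Level T T') {k : ℕ} (hk : k ∈ T) (hk' : k ∉ T') {s : ℕ}
    (hs : D.IsPosRoot s) (hc : ∀ t ∈ T, ∀ j, C.R.IsCombo s t j → j ∈ T') (u : F)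
    {g : GL D.Idx F} (hg : g ∈ C.Ucl T) :
    (C.xGL s u)⁻¹ * g * C.xGL s u ∈ C.Ucl T ∧
      C.coord T k ((C.xGL s u)⁻¹ * g * C.xGL s u) = C.coord T k g := by
  have h0 : T' ⊆ T \ {k} := fun j hj => ⟨hT.sub hj, fun e => hk' (e ▸ hj)⟩
  refine Subgroup.closure_induction
    (p := fun g _ => (C.xGL s u)⁻¹ * g * C.xGL s u ∈ C.Ucl T ∧
      C.coord T k ((C.xGL s u)⁻¹ * g * C.xGL s u) = C.coord T k g) ?_ ?_ ?_ ?_ hg
  · rintro _ ⟨t, ht, v, rfl⟩
    by_cases hts : t = s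
    · subst hts
      rw [mul_assoc, ← C.xGL_add, add_comm v u, C.xGL_add, inv_mul_cancel_left]
      exact ⟨C.xGL_mem_Ucl ht v, rfl⟩
    · have htn : t ≠ D.neg s := fun e => C.R.not_pos_and_neg (hT.pos t ht)
        (by rw [e, C.R.isNeg_neg_iff hs.1]; exact hs)
      rw [mul_assoc, C.xGL_comm hs.1 (hT.pos t ht).1 hts htn, ← mul_assoc, ← mul_assoc,
        inv_mul_cancel, one_mul]
      have hW := C.commWord_mem (S := T') (hc t ht) u v
      refine ⟨mul_mem (C.xGL_mem_Ucl ht v) (C.Ucl_mono hT.sub hW), ?_⟩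
      rw [C.coord_mul hT hk hk' (C.xGL_mem_Ucl ht v) (C.Ucl_mono hT.sub hW),
        C.coord_of_mem hT hk hk' (C.Ucl_mono h0 hW), add_zero]
  · simp
  · intro x y hx hy h1 h2
    rw [show (C.xGL s u)⁻¹ * (x * y) * C.xGL s u =
      ((C.xGL s u)⁻¹ * x * C.xGL s u) * ((C.xGL s u)⁻¹ * y * C.xGL s u) by group]
    exact ⟨mul_mem h1.1 h2.1, by
      rw [C.coord_mul hT hk hk' h1.1 h2.1, C.coord_mul hT hk hk' hx hy, h1.2, h2.2]⟩
  · intro x hx h1
    rw [show (C.xGL s u)⁻¹ * x⁻¹ * C.xGL s u = ((C.xGL s u)⁻¹ * x * C.xGL s u)⁻¹ by group]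
    refine ⟨inv_mem h1.1, ?_⟩
    have h2 := C.coord_mul hT hk hk' (inv_mem h1.1) h1.1
    have h3 := C.coord_mul hT hk hk' (inv_mem hx) hx
    rw [inv_mul_cancel, C.coord_of_mem hT hk hk' (one_mem _)] at h2 h3
    rw [h1.2] at h2
    exact add_right_cancel (h2.symm.trans h3)

theorem coord_conj_Ucl (hT : C.Level T T') {k : ℕ} (hk : k ∈ T) (hk' : k ∉ T') {S : Set ℕ}
    (hS : ∀ s ∈ S, D.IsPosRoot s) (hc : ∀ s ∈ S, ∀ t ∈ T, ∀ j, C.R.IsCombo s t j → j ∈ T')
    {h : GL D.Idx F} (hh : h ∈ C.Ucl S) : ∀ g ∈ C.Ucl T,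
    h⁻¹ * g * h ∈ C.Ucl T ∧ C.coord T k (h⁻¹ * g * h) = C.coord T k g := by
  refine Subgroup.closure_induction''
    (p := fun h _ => ∀ g ∈ C.Ucl T,
      h⁻¹ * g * h ∈ C.Ucl T ∧ C.coord T k (h⁻¹ * g * h) = C.coord T k g) ?_ ?_ ?_ ?_ hh
  · rintro _ ⟨s, hs, u, rfl⟩ g hg
    exact coord_conj_pos C hT hk hk' (hS s hs) (hc s hs) u hg
  · rintro _ ⟨s, hs, u, rfl⟩ g hg
    have := coord_conj_pos C hT hk hk' (hS s hs) (hc s hs) (-u) hg
    rwa [← C.xGL_inv] at this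
  · intro g hg; simpa using hg
  · intro x y _ _ h1 h2 g hg
    obtain ⟨a1, a2⟩ := h1 g hg
    obtain ⟨b1, b2⟩ := h2 _ a1
    rw [show (x * y)⁻¹ * g * (x * y) = y⁻¹ * (x⁻¹ * g * x) * y by group]
    exact ⟨b1, b2.trans a2⟩

/-- The structure constant at `k` in the commutator of the roots `r` and `s`. -/
def commCoef (D : ChevalleyDatum) (r s k : ℕ) : ℤ :=
  if s = r then 0
  else (((D.commTerms r s).filter fun c => decide (c.1 = k)).map fun c => c.2.1).sum

/-- The coordinate of a commutator with a root element. -/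
theorem coord_delta {S S' : Set ℕ} (hS : C.Level S S') (hT : C.Level T T') {a r k : ℕ}
    (ha : a ∈ S) (ha' : a ∉ S') (hk : k ∈ T) (hk' : k ∉ T') (hr : r < D.nroots)
    (hST : ∀ s ∈ S, ∀ t ∈ T, ∀ j, C.R.IsCombo s t j → j ∈ T')
    (hterm : ∀ s ∈ S, s = r ∨ (s ≠ D.neg r ∧ ∀ c ∈ D.commTerms r s,
      c.1 ∈ T ∧ (c.1 = k → c.2.2 = (1, 1))))
    (coef : ℤ) (hcoef : ∀ s ∈ S, commCoef D r s k = if s = a then coef else 0) (t : F) :
    ∀ g ∈ C.Ucl S, g⁻¹ * (C.xGL r t)⁻¹ * g * C.xGL r t ∈ C.Ucl T ∧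
      C.coord T k (g⁻¹ * (C.xGL r t)⁻¹ * g * C.xGL r t) = -((coef : F) * t) * C.coord S a g := by
  intro g hg
  set x := C.xGL r t with hx
  refine Subgroup.closure_induction
    (p := fun g _ => g⁻¹ * x⁻¹ * g * x ∈ C.Ucl T ∧
      C.coord T k (g⁻¹ * x⁻¹ * g * x) = -((coef : F) * t) * C.coord S a g) ?_ ?_ ?_ ?_ hg
  · rintro _ ⟨s, hs, u, rfl⟩
    have hca : C.coord S a (C.xGL s u) = if s = a then u else 0 := by
      split_ifs with e
      · subst e; exact C.coord_xGL_self hS hs ha' u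
      · exact C.coord_of_mem hS ha ha' (C.xGL_mem_Ucl (S := S \ {a}) ⟨hs, e⟩ u)
    have hco := hcoef s hs
    rcases hterm s hs with e | ⟨hne, hc⟩
    · subst e
      rw [hx, show (C.xGL s u)⁻¹ * (C.xGL s t)⁻¹ * C.xGL s u * C.xGL s t = 1 by
        rw [mul_assoc _ (C.xGL s u), ← C.xGL_add, add_comm u t, C.xGL_add]; group]
      refine ⟨one_mem _, ?_⟩
      rw [C.coord_of_mem hT hk hk' (one_mem _), hca]
      simp only [commCoef, if_pos rfl] at hco
      split_ifs with e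
      · rw [if_pos e] at hco; rw [← hco]; simp
      · simp
    · by_cases hsr : s = r
      · subst hsr
        rw [hx, show (C.xGL s u)⁻¹ * (C.xGL s t)⁻¹ * C.xGL s u * C.xGL s t = 1 by
          rw [mul_assoc _ (C.xGL s u), ← C.xGL_add, add_comm u t, C.xGL_add]; group]
        refine ⟨one_mem _, ?_⟩
        rw [C.coord_of_mem hT hk hk' (one_mem _), hca]
        simp only [commCoef, if_pos rfl] at hco
        split_ifs with e
        · rw [if_pos e] at hco; rw [← hco]; simp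
        · simp
      have hW : (C.xGL s u)⁻¹ * x⁻¹ * C.xGL s u * x = C.wordGL (D.commWord F r s t u) := by
        rw [mul_assoc _ (C.xGL s u), hx, C.xGL_comm hr (hS.pos s hs).1 hsr hne]
        group
      have hmem : ∀ p ∈ D.commWord F r s t u, p.1 ∈ T := by
        intro p hp
        obtain ⟨c, hc', rfl⟩ := List.mem_map.1 hp
        exact (hc c hc').1
      rw [hW]
      refine ⟨C.wordGL_mem_Ucl hmem, ?_⟩
      rw [C.coord_wordGL hT hk hk' _ hmem, hca]
      have hsum : ∀ l : List (ℕ × ℤ × ℕ × ℕ), (∀ c ∈ l, c.1 = k → c.2.2 = (1, 1)) →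
          (((l.map fun c => (c.1, (c.2.1 : F) * (-t) ^ c.2.2.1 * u ^ c.2.2.2)).filter
            fun p => decide (p.1 = k)).map Prod.snd).sum =
          ((((l.filter fun c => decide (c.1 = k)).map fun c => c.2.1).sum : ℤ) : F) * (-t * u) := by
        intro l hl
        induction l with
        | nil => simp
        | cons c l ih =>
          have ih' := ih fun d hd => hl d (List.mem_cons_of_mem _ hd)
          by_cases hck : c.1 = k
          · have he := hl c List.mem_cons_self hck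
            simp only [List.map_cons, List.filter_cons, hck, decide_true, if_true, List.sum_cons,
              ih', he, pow_one, Int.cast_add]
            ring
          · simp only [List.map_cons, List.filter_cons, hck, decide_false, Bool.false_eq_true,
              if_false, ih']
      rw [ChevalleyDatum.commWord, hsum _ fun c hc' => (hc c hc').2]
      rw [commCoef, if_neg hsr] at hco
      rw [hco]
      split_ifs
      · ring
      · simp
  · simp [C.coord_of_mem hT hk hk' (one_mem _), C.coord_of_mem hS ha ha' (one_mem _)]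
  · intro g1 g2 hg1 hg2 h1 h2
    obtain ⟨a1, a2⟩ := coord_conj_Ucl C hT hk hk' hS.pos hST hg2 _ h1.1
    rw [show (g1 * g2)⁻¹ * x⁻¹ * (g1 * g2) * x =
      (g2⁻¹ * (g1⁻¹ * x⁻¹ * g1 * x) * g2) * (g2⁻¹ * (x⁻¹ * g2 * x)) by group,
      show g2⁻¹ * (x⁻¹ * g2 * x) = g2⁻¹ * x⁻¹ * g2 * x by group]
    exact ⟨mul_mem a1 h2.1, by
      rw [C.coord_mul hT hk hk' a1 h2.1, a2, h1.2, h2.2, C.coord_mul hS ha ha' hg1 hg2]; ring⟩
  · intro g1 hg1 h1
    obtain ⟨a1, a2⟩ := coord_conj_Ucl C hT hk hk' hS.pos hST (inv_mem hg1) _ h1.1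
    rw [show g1⁻¹⁻¹ * x⁻¹ * g1⁻¹ * x = (g1⁻¹⁻¹ * (g1⁻¹ * x⁻¹ * g1 * x) * g1⁻¹)⁻¹ by group]
    refine ⟨inv_mem a1, ?_⟩
    have h2 := C.coord_mul hT hk hk' (inv_mem a1) a1
    have h3 := C.coord_mul hS ha ha' (inv_mem hg1) hg1
    rw [inv_mul_cancel, C.coord_of_mem hT hk hk' (one_mem _), a2, h1.2] at h2
    rw [inv_mul_cancel, C.coord_of_mem hS ha ha' (one_mem _)] at h3
    linear_combination -h2 - ((coef : F) * t) * h3

/-- The coordinate of a commutator with a product of two root elements. -/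
theorem coord_delta₂ {S S' : Set ℕ} (hS : C.Level S S') (hT : C.Level T T') {a k : ℕ}
    (ha : a ∈ S) (ha' : a ∉ S') (hk : k ∈ T) (hk' : k ∉ T') {j i : ℕ} (hj : j < D.nroots)
    (hi : D.IsPosRoot i)
    (hST : ∀ s ∈ S, ∀ t ∈ T, ∀ l, C.R.IsCombo s t l → l ∈ T')
    (hiT : ∀ t ∈ T, ∀ l, C.R.IsCombo i t l → l ∈ T')
    (hterm : ∀ r ∈ [j, i], ∀ s ∈ S, s = r ∨ (s ≠ D.neg r ∧ ∀ c ∈ D.commTerms r s,
      c.1 ∈ T ∧ (c.1 = k → c.2.2 = (1, 1))))
    (cj ci : ℤ) (hcj : ∀ s ∈ S, commCoef D j s k = if s = a then cj else 0)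
    (hci : ∀ s ∈ S, commCoef D i s k = if s = a then ci else 0) (t v : F) :
    ∀ g ∈ C.Ucl S, g⁻¹ * (C.xGL j t * C.xGL i v)⁻¹ * g * (C.xGL j t * C.xGL i v) ∈ C.Ucl T ∧
      C.coord T k (g⁻¹ * (C.xGL j t * C.xGL i v)⁻¹ * g * (C.xGL j t * C.xGL i v)) =
        -((cj : F) * t + (ci : F) * v) * C.coord S a g := by
  intro g hg
  obtain ⟨a1, a2⟩ := coord_delta C hS hT ha ha' hk hk' hj hST (hterm j (by simp)) cj hcj t g hg
  obtain ⟨b1, b2⟩ := coord_delta C hS hT ha ha' hk hk' hi.1 hST (hterm i (by simp)) ci hci v g hg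
  obtain ⟨c1, c2⟩ := coord_conj_pos C hT hk hk' hi hiT v a1
  rw [show g⁻¹ * (C.xGL j t * C.xGL i v)⁻¹ * g * (C.xGL j t * C.xGL i v) =
    (g⁻¹ * (C.xGL i v)⁻¹ * g * C.xGL i v) *
      ((C.xGL i v)⁻¹ * (g⁻¹ * (C.xGL j t)⁻¹ * g * C.xGL j t) * C.xGL i v) by group]
  refine ⟨mul_mem b1 c1, ?_⟩
  rw [C.coord_mul hT hk hk' b1 c1, b2, c2, a2]
  ring

/-- An element carrying unipotent elements involving every fundamental root to unipotent elements
lies in `B`. -/
theorem mem_borel_of_intertwine {z : GL D.Idx F} (hz : z ∈ D.group F)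
    (h : ∀ j : Fin D.rank, ∃ f ∈ D.posUnipotent F, ∃ f₀ ∈ D.posUnipotent F,
      C.coord (htSet C 1) (D.simple j.val) f ≠ 0 ∧ z * f = f₀ * z) :
    z ∈ D.borelSubgroup F := by
  obtain ⟨w, hw, b, hb, n, hn, hnw, u, hu, rfl⟩ := C.normalForm_exists hz
  by_cases h1 : C.hR.invSet w = ∅
  · have hw1 := C.hR.eq_one_of_invSet_eq_empty hw h1
    subst hw1
    have hnB : n ∈ D.borelSubgroup F :=
      le_sup_right (a := D.posUnipotent F) (C.mem_diagonal_of_moves_one hn hnw)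
    have huU : u ∈ D.posUnipotent F := C.Ucl_le (fun r hr t => by
      obtain ⟨_, hr⟩ := hr
      exact C.xGL_mem_posUnipotent (C.hR.mem_invSet.1 hr).1 t) hu
    exact mul_mem (mul_mem hb hnB) (le_sup_left (b := D.diagonalSubgroup F) huU)
  exfalso
  obtain ⟨j, hj⟩ := C.hR.exists_simple_neg_of_ne_one hw h1
  obtain ⟨f, hf, f₀, hf₀, hfj, hcomm⟩ := h j
  have hs : D.simple j.val ∈ htSet C 1 :=
    ⟨C.R.simple_pos j, C.R.one_le_height_of_pos (C.R.simple_pos j)⟩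
  have hs' : D.simple j.val ∉ htSet C (1 + 1) := fun h2 => by
    have h4 : heightHom D.rank (Pi.single j 1) = 1 := by simp [heightHom_apply]
    have := h2.2
    rw [C.R.α_simple, h4] at this
    omega
  have hlev := levelHt C (k := 1) le_rfl
  have huU : u ∈ C.Ucl (htSet C 1) := C.Ucl_le (fun r hr t => by
    obtain ⟨_, hr⟩ := hr
    have hp := (C.hR.mem_invSet.1 hr).1
    exact C.xGL_mem_Ucl (S := htSet C 1) ⟨hp, C.R.one_le_height_of_pos hp⟩ t) hu
  have hfU : f ∈ C.Ucl (htSet C 1) := by rwa [← posUnipotent_eq_htSet]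
  set f' := u * f * u⁻¹ with hf'
  have hf'U : f' ∈ C.Ucl (htSet C 1) := mul_mem (mul_mem huU hfU) (inv_mem huU)
  have hcoord : C.coord (htSet C 1) (D.simple j.val) f' = C.coord (htSet C 1) (D.simple j.val) f := by
    have h3 := C.coord_mul hlev hs hs' hf'U huU
    rw [show f' * u = u * f by rw [hf']; group, C.coord_mul hlev hs hs' huU hfU] at h3
    linear_combination -h3
  set t := C.coord (htSet C 1) (D.simple j.val) f' with ht
  have ht0 : t ≠ 0 := by rw [hcoord]; exact hfj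
  set c := (C.xGL (D.simple j.val) t)⁻¹ * f' with hc
  have hcU : c ∈ C.Usub j := by
    refine C.Ucl_mono ?_ (C.coord_spec hlev hs hs' hf'U)
    intro r hr
    exact ⟨hr.1.1, hr.2⟩
  have hnf : n * f' * n⁻¹ ∈ D.borelSubgroup F := by
    have hfB : f₀ ∈ D.borelSubgroup F := le_sup_left (b := D.diagonalSubgroup F) hf₀
    have e : n * f' * n⁻¹ = b⁻¹ * f₀ * b := by
      calc n * f' * n⁻¹ = b⁻¹ * ((b * n * u) * f) * (b * n * u)⁻¹ * b := by rw [hf']; group
        _ = b⁻¹ * (f₀ * (b * n * u)) * (b * n * u)⁻¹ * b := by rw [hcomm]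
        _ = b⁻¹ * f₀ * b := by group
    rw [e]
    exact mul_mem (mul_mem (inv_mem hb) hfB) hb
  have hsN := C.nS_mem_monomial j
  set n' := n * (C.nS j)⁻¹ with hn'
  set v := w * (C.hR.sPerm j) with hv
  have hn'N : n' ∈ D.monomialSubgroup F := mul_mem hn (inv_mem hsN)
  have hn'v : C.Moves n' v := by
    have := ChevCore.Moves.mul C hnw (ChevCore.Acts.moves C (ChevCore.Acts.inv C (C.acts_nS j)))
    rwa [inv_eq_of_mul_eq_one_right (C.hR.sPerm_mul_self j)] at this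
  have hvpos : D.IsPosRoot (v (C.pRoot j)) := by
    rw [hv, Equiv.Perm.mul_apply, C.sPerm_pRoot, show ((w (C.pNeg j) : Fin D.nroots) : ℕ) =
      D.neg (w (C.pRoot j)) from C.hR.apply_neg hw (C.pRoot j), C.R.isPos_neg_iff (w _).isLt]
    exact hj
  obtain ⟨t', ht'⟩ := (ChevCore.Acts.moves C (C.acts_nS j)).2 (C.pRoot j) t
  rw [C.sPerm_pRoot] at ht'
  change C.nS j * C.xGL (D.simple j.val) t * (C.nS j)⁻¹ = C.xGL (D.neg (D.simple j.val)) t' at ht'
  have ht'0 : t' ≠ 0 := by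
    intro h0
    rw [h0, C.xGL_zero, conj_eq_one_iff, C.xGL_eq_one_iff (C.R.simple_lt j)] at ht'
    exact ht0 ht'
  obtain ⟨z', hz'⟩ := hn'v.2 (C.pRoot j) t'⁻¹
  change n' * C.xGL (D.simple j.val) t'⁻¹ * n'⁻¹ = C.xGL (v (C.pRoot j)) z' at hz'
  obtain ⟨d, hd⟩ : ∃ d, C.nGL (D.simple j.val) (-t'⁻¹) = C.R.torus d * C.nS j :=
    ⟨_, C.nGL_simple j (Units.mk0 (-t'⁻¹) (by simpa using ht'0))⟩
  set c' := C.nS j * c * (C.nS j)⁻¹ with hc'
  have hc'B : C.xGL (D.simple j.val) t'⁻¹ * c' ∈ D.borelSubgroup F :=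
    mul_mem (C.pos_mem_borel (C.R.simple_pos j) _)
      (le_sup_left (b := D.diagonalSubgroup F) (C.Usub_le j (C.nS_conj_Usub j c hcU)))
  have e1 : n * f' * n⁻¹ = C.xGL (v (C.pRoot j)) z' * (n' * C.R.torus d * n'⁻¹) *
      (n' * C.nS j) * (C.xGL (D.simple j.val) t'⁻¹ * c') * n'⁻¹ := by
    have ef : f' = C.xGL (D.simple j.val) t * c := by rw [hc, mul_inv_cancel_left]
    calc n * f' * n⁻¹ = n' * (C.nS j * C.xGL (D.simple j.val) t * (C.nS j)⁻¹) * c' * n'⁻¹ := by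
          rw [ef, hn', hc']; group
      _ = _ := by rw [ht', C.xGL_neg_eq _ ht'0, hd, ← hz']; group
  have hmem : n' * C.nS j ∈ C.bigCell n' := by
    refine C.mem_bigCell.2 ⟨(C.xGL (v (C.pRoot j)) z' * (n' * C.R.torus d * n'⁻¹))⁻¹ * (n * f' * n⁻¹),
      mul_mem (inv_mem (mul_mem (C.pos_mem_borel hvpos _) (C.conj_torus_mem_borel hn'N d))) hnf,
      (C.xGL (D.simple j.val) t'⁻¹ * c')⁻¹, inv_mem hc'B, ?_⟩
    rw [e1]
    group
  have h5 := C.moves_eq_of_mem (mul_mem hn'N hsN) hn'N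
    (ChevCore.Moves.mul C hn'v (ChevCore.Acts.moves C (C.acts_nS j))) hn'v hmem
  rw [mul_eq_left] at h5
  have h6 := congrFun (congrArg DFunLike.coe h5) (C.pRoot j)
  rw [C.sPerm_pRoot, Equiv.Perm.one_apply] at h6
  have h7 : D.IsNegRoot (C.pNeg j) := (C.R.isNeg_neg_iff (C.R.simple_lt j)).2 (C.R.simple_pos j)
  rw [h6] at h7
  exact C.R.not_pos_and_neg (C.R.simple_pos j) h7

/-- An element commuting with unipotent elements involving every fundamental root lies in `B`. -/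
theorem mem_borel_of_commute {z : GL D.Idx F} (hz : z ∈ D.group F)
    (h : ∀ j : Fin D.rank, ∃ f ∈ D.posUnipotent F,
      C.coord (htSet C 1) (D.simple j.val) f ≠ 0 ∧ z * f = f * z) :
    z ∈ D.borelSubgroup F :=
  mem_borel_of_intertwine C hz fun j => let ⟨f, hf, hfj, hc⟩ := h j; ⟨f, hf, f, hf, hfj, hc⟩

end CfsgLib.TwistAut
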