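import Cfsg.Agent.Lib.TwistAut.Base

/-!
Every automorphism of a twisted group is, up to an inner automorphism, one preserving `U1` and `V1`;
such an automorphism permutes the orbit groups.
-/

set_option autoImplicit false

namespace CfsgLib.TwistAut

open Cfsg.Lie CfsgLib.ChevStr CfsgLib.Twisted
open scoped MatrixGroups

variable {D : ChevalleyDatum} {F : Type*} [Field F]

section app

variable {G1 : Subgroup (GL D.Idx F)}

open Classical in
/-- An automorphism of a subgroup as a map of the general linear group. -/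
noncomputable def app (θ : ↥G1 ≃* ↥G1) (x : GL D.Idx F) : GL D.Idx F :=
  if h : x ∈ G1 then (θ ⟨x, h⟩ : GL D.Idx F) else 1

variable (θ : ↥G1 ≃* ↥G1)

theorem app_coe (y : ↥G1) : app θ (y : GL D.Idx F) = θ y := by simp [app, y.2]

theorem app_mem (x : GL D.Idx F) : app θ x ∈ G1 := by
  rw [app]; split_ifs
  exacts [Subtype.coe_prop _, one_mem _]

theorem app_mul {x y : GL D.Idx F} (hx : x ∈ G1) (hy : y ∈ G1) :
    app θ (x * y) = app θ x * app θ y := by
  lift x to ↥G1 using hx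
  lift y to ↥G1 using hy
  rw [← Subgroup.coe_mul, app_coe, app_coe, app_coe, map_mul, Subgroup.coe_mul]

theorem app_inv {x : GL D.Idx F} (hx : x ∈ G1) : app θ x⁻¹ = (app θ x)⁻¹ := by
  lift x to ↥G1 using hx
  rw [← Subgroup.coe_inv, app_coe, app_coe, map_inv, Subgroup.coe_inv]

theorem app_one : app θ 1 = 1 := by rw [← Subgroup.coe_one G1, app_coe, map_one]

theorem app_symm {x : GL D.Idx F} (hx : x ∈ G1) : app θ.symm (app θ x) = x := by
  lift x to ↥G1 using hx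
  rw [app_coe, app_coe, MulEquiv.symm_apply_apply]

theorem app_apply_symm {x : GL D.Idx F} (hx : x ∈ G1) : app θ (app θ.symm x) = x := by
  lift x to ↥G1 using hx
  rw [app_coe, app_coe, MulEquiv.apply_symm_apply]

theorem app_inj {x y : GL D.Idx F} (hx : x ∈ G1) (hy : y ∈ G1) (e : app θ x = app θ y) : x = y := by
  rw [← app_symm θ hx, e, app_symm θ hy]

theorem app_conj {x y : GL D.Idx F} (hx : x ∈ G1) (hy : y ∈ G1) :
    app θ (x * y * x⁻¹) = app θ x * app θ y * (app θ x)⁻¹ := by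
  rw [app_mul θ (mul_mem hx hy) (inv_mem hx), app_mul θ hx hy, app_inv θ hx]

theorem app_trans (θ' : ↥G1 ≃* ↥G1) {x : GL D.Idx F} (hx : x ∈ G1) :
    app (θ.trans θ') x = app θ' (app θ x) := by
  lift x to ↥G1 using hx
  rw [app_coe, app_coe, app_coe]
  rfl

theorem exists_preimage [Finite F] {S : Subgroup (GL D.Idx F)} (hS : S ≤ G1)
    (h : ∀ x ∈ S, app θ x ∈ S) {x : GL D.Idx F} (hx : x ∈ S) : ∃ y ∈ S, app θ y = x := by
  obtain ⟨y, hy⟩ := Finite.surjective_of_injective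
    (f := fun z : ↥S => (⟨app θ z, h _ z.2⟩ : ↥S))
    (fun a b e => Subtype.ext (app_inj θ (hS a.2) (hS b.2) (congrArg Subtype.val e))) ⟨x, hx⟩
  exact ⟨y, y.2, congrArg Subtype.val hy⟩

/-- The automorphism preserves `U1` and `V1`. -/
structure Normal (θ : ↥G1 ≃* ↥G1) : Prop where
  pos : ∀ x ∈ pU G1, app θ x ∈ pU G1
  neg : ∀ x ∈ nU G1, app θ x ∈ nU G1

theorem Normal.symm [Finite F] {θ : ↥G1 ≃* ↥G1} (h : Normal θ) : Normal θ.symm := by
  constructor <;> intro x hx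
  · obtain ⟨y, hy, rfl⟩ := exists_preimage θ inf_le_right h.pos hx
    rwa [app_symm θ hy.2]
  · obtain ⟨y, hy, rfl⟩ := exists_preimage θ inf_le_right h.neg hx
    rwa [app_symm θ hy.2]

end app

variable {C : ChevCore D F} {φ : Frob C} {I : Type} {O : OrbitData C.R φ.ρ I}
  {G1 : Subgroup (GL D.Idx F)} {d : ℕ} [Fintype F] (g : Gens φ O G1 d)

include g

omit g in
theorem card_nU (L : Longest C G1) : Nat.card ↥(nU G1) = Nat.card ↥(pU G1) :=
  le_antisymm
    (Nat.card_le_card_of_injective (fun x => ⟨_, L.conj_neg x.2⟩)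
      fun _ _ e => Subtype.ext (mul_left_cancel (mul_right_cancel (congrArg Subtype.val e))))
    (Nat.card_le_card_of_injective (fun x => ⟨_, L.conj_pos x.2⟩)
      fun _ _ e => Subtype.ext (mul_left_cancel (mul_right_cancel (congrArg Subtype.val e))))

/-- Up to an inner automorphism an automorphism preserves `U1` and `V1`. -/
theorem exists_normal (p : ℕ) [Fact p.Prime] [CharP F p] {n : ℕ} (hF : Nat.card F = (p ^ n) ^ d)
    (θ : ↥G1 ≃* ↥G1) :
    ∃ (x : ↥G1) (ψ : ↥G1 ≃* ↥G1), Normal ψ ∧ ∀ y, θ y = x * ψ y * x⁻¹ := by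
  set U' := (pU G1).subgroupOf G1
  have hU1 : IsPGroup p ((U'.map θ.toMonoidHom).map G1.subtype) :=
    (((isPGroup_pU (C := C) p).comap_of_injective G1.subtype G1.subtype_injective).map _).map _
  obtain ⟨x₁, hx₁G, hx₁⟩ := exists_conj_le g p hF (Subgroup.map_subtype_le _) hU1
  have hθU : ∀ u ∈ pU G1, x₁⁻¹ * app θ u * x₁ ∈ pU G1 := fun u hu => by
    refine hx₁ _ ⟨θ ⟨u, hu.2⟩, ⟨⟨u, hu.2⟩, ?_, rfl⟩, (app_coe θ ⟨u, hu.2⟩).symm⟩
    exact hu
  obtain ⟨L⟩ := nonempty_longest g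
  set k := x₁⁻¹ * app θ L.n * x₁ with hk
  have hkG : k ∈ G1 := mul_mem (mul_mem (inv_mem hx₁G) (app_mem θ _)) hx₁G
  obtain ⟨b, hb, m, hm, u, hu, -, hkeq⟩ := g.twist.nf hkG
  change b ∈ pU G1 at hb
  change u ∈ pU G1 at hu
  obtain ⟨w, hmw, -⟩ := C.exists_moves hm.1
  set z : ↥G1 := ⟨x₁ * b, mul_mem hx₁G hb.2⟩ with hz
  set ψ := θ.trans (MulAut.conj z⁻¹) with hψ
  have happ : ∀ y ∈ G1, app ψ y = (x₁ * b)⁻¹ * app θ y * (x₁ * b) := fun y hy => by
    lift y to ↥G1 using hy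
    rw [app_coe, app_coe]
    simp [hψ, hz]
  have hposψ : ∀ y ∈ pU G1, app ψ y ∈ pU G1 := fun y hy => by
    rw [happ y hy.2]
    have := mul_mem (mul_mem (inv_mem hb) (hθU y hy)) hb
    simpa [mul_assoc] using this
  have hnegψ : ∀ v ∈ nU G1, m⁻¹ * app ψ v * m ∈ pU G1 := fun v hv => by
    have h1 := L.conj_inv_neg hv
    have h2 : app θ v = app θ L.n * app θ (L.n⁻¹ * v * L.n) * (app θ L.n)⁻¹ := by
      rw [← app_conj θ L.mem (mul_mem (mul_mem (inv_mem L.mem) hv.2) L.mem)]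
      group
    have h3 := mul_mem (mul_mem hu (hθU _ h1)) (inv_mem hu)
    have h4 : m⁻¹ * app ψ v * m = u * (x₁⁻¹ * app θ (L.n⁻¹ * v * L.n) * x₁) * u⁻¹ := by
      rw [happ v hv.2, h2]
      have h5 : app θ L.n = x₁ * (b * m * u) * x₁⁻¹ := by rw [← hkeq, hk]; group
      rw [h5]
      group
    rw [h4]
    exact h3
  have hVsurj : ∀ t ∈ pU G1, ∃ v ∈ nU G1, m⁻¹ * app ψ v * m = t := by
    intro t ht
    have hb' := (Nat.bijective_iff_injective_and_card
      (fun v : ↥(nU G1) => (⟨_, hnegψ v v.2⟩ : ↥(pU G1)))).2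
      ⟨fun a c e => Subtype.ext (app_inj ψ a.2.2 c.2.2
        (mul_left_cancel (mul_right_cancel (congrArg Subtype.val e)))), card_nU L⟩
    obtain ⟨v, hv⟩ := hb'.2 ⟨t, ht⟩
    exact ⟨v, v.2, congrArg Subtype.val hv⟩
  have hwneg : ∀ i, ∀ j ∈ O.J i, D.IsNegRoot (w ⟨D.simple j.val, C.R.simple_lt j⟩) := by
    intro i
    by_contra hcon
    push Not at hcon
    obtain ⟨j, hj, hjn⟩ := hcon
    have hpos : ∀ j' ∈ O.J i, D.IsPosRoot (w ⟨D.simple j'.val, C.R.simple_lt j'⟩) := fun j' hj' =>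
      (C.R.pos_or_neg (w _).isLt).resolve_right fun h => hjn (O.all_neg
        (φ.commute_of_fixed hm.1 hmw (g.le_fixed hm.2).2) hj' h j hj)
    obtain ⟨a, ha, hne⟩ := exists_in_ne_one g i
    obtain ⟨v, hv, hveq⟩ := hVsurj a (fixU_in_le g i ha)
    have h1 : m * a * m⁻¹ ∈ pU G1 := ⟨C.conj_Ucl_le hmw (T := D.posUnipotent F)
      (fun r hr t => C.xGL_mem_posUnipotent (pos_of_supp C.hR hmw.1 hpos hr) t) a
        (Subgroup.mem_inf.1 ha).1,
      mul_mem (mul_mem hm.2 (fixU_in_le g i ha).2) (G1.inv_mem hm.2)⟩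
    obtain ⟨y, hy, hye⟩ := exists_preimage ψ inf_le_right hposψ h1
    have h2 : v = y := app_inj ψ hv.2 hy.2 (by rw [hye, ← hveq]; group)
    have h3 : v = 1 := (Subgroup.eq_bot_iff_forall _).1 C.borel_inf_negUnipotent v
      (Subgroup.mem_inf.2 ⟨le_sup_left (b := D.diagonalSubgroup F) (h2 ▸ hy.1), hv.1⟩)
    rw [h3, app_one, mul_one, inv_mul_cancel] at hveq
    exact hne hveq.symm
  have hwall : ∀ s : Fin D.nroots, D.IsPosRoot s → D.IsNegRoot (w s) := fun s hs =>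
    neg_of_supp (J := Finset.univ) C.hR hmw.1
      (fun j _ => by obtain ⟨i, hi⟩ := O.cover j; exact hwneg i j hi)
      ⟨hs, fun m' hm' => absurd (Finset.mem_univ m') hm'⟩
  refine ⟨z, ψ, ⟨hposψ, fun v hv => ?_⟩, fun y => ?_⟩
  · refine ⟨?_, app_mem ψ v⟩
    have h1 := (hnegψ v hv).1
    rw [C.posUnipotent_eq] at h1
    have := C.conj_Ucl_le hmw (T := D.negUnipotent F)
      (fun s hs t => C.xGL_mem_negUnipotent (hwall s hs) t) _ h1
    simpa [mul_assoc] using this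
  · simp [hψ, mul_assoc]

namespace Normal

variable {ψ : ↥G1 ≃* ↥G1} (h : Normal ψ)

include h

theorem mem_bor {x : GL D.Idx F} (hx : x ∈ bor G1) : app ψ x ∈ bor G1 := by
  refine mem_bor_of_normalizes g (app_mem ψ x) fun u hu => ?_
  obtain ⟨y, hy, rfl⟩ := exists_preimage ψ inf_le_right h.pos hu
  rw [← app_conj ψ hx.2 hy.2]
  exact h.pos _ ⟨(Subgroup.mem_normalizer_iff.1 (C.borel_normalizes hx.1) y).1 hy.1,
    mul_mem (mul_mem hx.2 hy.2) (G1.inv_mem hx.2)⟩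

theorem mem_tor {x : GL D.Idx F} (hx : x ∈ tor G1) : app ψ x ∈ tor G1 := by
  refine mem_tor_of_normalizes g (mem_bor g h (tor_le_bor G1 hx)) fun v hv => ?_
  obtain ⟨y, hy, rfl⟩ := exists_preimage ψ inf_le_right h.neg hv
  rw [← app_conj ψ hx.2 hy.2]
  exact h.neg _ ⟨(Subgroup.mem_normalizer_iff.1 (C.diagonal_normalizes_neg hx.1) y).1 hy.1,
    mul_mem (mul_mem hx.2 hy.2) (G1.inv_mem hx.2)⟩

theorem mem_cell {m m' x : GL D.Idx F} (hm : m ∈ G1) (hm' : Cell G1 m' (app ψ m))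
    (hx : Cell G1 m x) : Cell G1 m' (app ψ x) := by
  obtain ⟨a, ha, b, hb, rfl⟩ := hx
  rw [app_mul ψ (mul_mem ha.2 hm) hb.2, app_mul ψ ha.2 hm]
  exact hm'.mul (mem_bor g h ha) (mem_bor g h hb)

theorem exists_s (i : I) : ∃ j, Cell G1 (g.s j) (app ψ (g.s i)) := by
  have hP : para g i ≤ G1 := fun x hx => hx.elim (fun hb => hb.2) fun hc => hc.mem (g.s_mem i)
  set K := (((para g i).subgroupOf G1).map ψ.toMonoidHom).map G1.subtype with hK
  have hKin : ∀ y ∈ para g i, app ψ y ∈ K := fun y hy =>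
    ⟨ψ ⟨y, hP hy⟩, ⟨⟨y, hP hy⟩, hy, rfl⟩, (app_coe ψ ⟨y, hP hy⟩).symm⟩
  have hBK : bor G1 ≤ K := fun x hx => by
    have := hKin _ (Or.inl (mem_bor g h.symm hx))
    rwa [app_apply_symm ψ hx.2] at this
  refine exists_simple_of_two_cells g hBK (app_mem ψ _) (hKin _ (s_mem_para g i))
    (fun hB => ?_) fun x hx => ?_
  · have := mem_bor g h.symm hB
    rw [app_symm ψ (g.s_mem i)] at this
    exact s_not_bor g i this
  · obtain ⟨_, ⟨y, hy, rfl⟩, rfl⟩ := hx
    rw [show G1.subtype (ψ.toMonoidHom y) = app ψ (y : GL D.Idx F) from (app_coe ψ y).symm]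
    rcases (mem_para g).1 hy with hb | hc
    · exact Or.inl (mem_bor g h hb)
    · exact Or.inr (mem_cell g h (g.s_mem i) cell_self hc)

end Normal

omit g in
/-- The longest element sends the negative roots of every orbit to its positive ones. -/
def Opp (C : ChevCore D F) {φ : Frob C} (O : OrbitData C.R φ.ρ I) (G1 : Subgroup (GL D.Idx F)) :
    Prop :=
  ∀ L : Longest C G1, ∀ i, ∀ r : Fin D.nroots, (r : ℕ) ∈ negRootsIn C.R (O.J i) →
    (L.w r : ℕ) ∈ inRoots C.R (O.J i)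

omit g [Fintype F] in
theorem opp_of_word (Lw : List (Fin D.rank))
    (hneg : ∀ j : Fin D.rank, D.IsNegRoot (C.hR.wordPerm Lw ⟨D.simple j.val, C.R.simple_lt j⟩))
    (h : ∀ i, ∀ r : Fin D.nroots, D.IsNegRoot r → SuppIn C.R (O.J i) r →
      D.IsPosRoot (C.hR.wordPerm Lw r) ∧ SuppIn C.R (O.J i) (C.hR.wordPerm Lw r)) :
    Opp C O G1 := by
  intro L i r hr
  have hu : C.hR.wordPerm Lw ∈ C.hR.weylSub Finset.univ := by
    rw [C.hR.weylSub_univ]; exact C.hR.wordPerm_mem Lw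
  have hw : L.w ∈ C.hR.weylSub Finset.univ := by rw [C.hR.weylSub_univ]; exact L.moves.1
  have h1 := mul_eq_one_of_neg C.hR hw (fun j _ => L.pos _ (C.R.simple_pos j)) hu fun j _ => hneg j
  have h2 := mul_eq_one_of_neg C.hR hu (fun j _ => hneg j) hu fun j _ => hneg j
  rw [mul_right_cancel (h1.trans h2.symm)]
  exact h i r hr.1 hr.2

omit g in
/-- An automorphism mapping the orbit groups according to a permutation. -/
structure Perm (g : Gens φ O G1 d) (ψ : ↥G1 ≃* ↥G1) where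
  π : Equiv.Perm I
  cell : ∀ i, Cell G1 (g.s (π i)) (app ψ (g.s i))
  pos : ∀ i, ∀ x ∈ φ.fixU (inRoots C.R (O.J i)), app ψ x ∈ φ.fixU (inRoots C.R (O.J (π i)))
  neg : ∀ i, ∀ x ∈ φ.fixU (negRootsIn C.R (O.J i)),
    app ψ x ∈ φ.fixU (negRootsIn C.R (O.J (π i)))

theorem nonempty_perm (p : ℕ) [Fact p.Prime] [CharP F p] (hopp : Opp C O G1) {ψ : ↥G1 ≃* ↥G1}
    (h : Normal ψ) : Nonempty (Perm g ψ) := by
  classical
  choose π0 hπ0 using fun i => Normal.exists_s g h i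
  choose π1 hπ1 using fun i => Normal.exists_s g h.symm i
  have hl : ∀ i, π1 (π0 i) = i := fun i => by
    have h1 := Normal.mem_cell g h.symm (g.s_mem (π0 i)) (hπ1 (π0 i)) (hπ0 i)
    rw [app_symm ψ (g.s_mem i)] at h1
    exact (cell_eq g h1).symm
  have hr : ∀ i, π0 (π1 i) = i := fun i => by
    have h1 := Normal.mem_cell g h (g.s_mem (π1 i)) (hπ0 (π1 i)) (hπ1 i)
    rw [app_apply_symm ψ (g.s_mem i)] at h1
    exact (cell_eq g h1).symm
  let π : Equiv.Perm I := ⟨π0, π1, hl, hr⟩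
  have hneg : ∀ i, ∀ x ∈ φ.fixU (negRootsIn C.R (O.J i)),
      app ψ x ∈ φ.fixU (negRootsIn C.R (O.J (π i))) := by
    intro i x hx
    rw [← nU_inter_para g p (π i)]
    refine Subgroup.mem_inf.2 ⟨h.neg x (negIn_le g i hx), ?_⟩
    rcases (mem_para g).1 (negIn_le_para g i hx) with hb | hc
    · exact Or.inl (Normal.mem_bor g h hb)
    · exact Or.inr (Normal.mem_cell g h (g.s_mem i) (hπ0 i) hc)
  refine ⟨⟨π, hπ0, fun i x hx => ?_, hneg⟩⟩
  obtain ⟨L⟩ := nonempty_longest g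
  have hconj : ∀ j, ∀ v ∈ φ.fixU (negRootsIn C.R (O.J j)),
      L.n * v * L.n⁻¹ ∈ φ.fixU (inRoots C.R (O.J j)) := fun j v hv => by
    obtain ⟨h1, h2⟩ := Subgroup.mem_inf.1 hv
    exact Subgroup.mem_inf.2 ⟨C.conj_Ucl_le L.moves (fun r hr t => C.xGL_mem_Ucl (hopp L j r hr) t) v h1,
      mul_mem (mul_mem (g.le_fixed L.mem) h2) (inv_mem (g.le_fixed L.mem))⟩
  obtain ⟨v, hv⟩ := ((Nat.bijective_iff_injective_and_card
    (fun v : ↥(φ.fixU (negRootsIn C.R (O.J i))) => (⟨_, hconj i v v.2⟩ : ↥(φ.fixU (inRoots C.R (O.J i)))))).2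
    ⟨fun a c e => Subtype.ext (mul_left_cancel (mul_right_cancel (congrArg Subtype.val e))),
      card_negIn g i⟩).2 ⟨x, hx⟩
  have hv' : L.n * v * L.n⁻¹ = x := congrArg Subtype.val hv
  have hvG := (negIn_le g i v.2).2
  set h0 := L.n⁻¹ * app ψ L.n with hh0
  have hψn : ∀ u ∈ pU G1, app ψ L.n * u * (app ψ L.n)⁻¹ ∈ nU G1 := by
    intro u hu
    obtain ⟨y, hy, rfl⟩ := exists_preimage ψ inf_le_right h.pos hu
    rw [← app_conj ψ L.mem hy.2]
    exact h.neg _ (L.conj_pos hy)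
  have hψn' : ∀ u ∈ nU G1, app ψ L.n * u * (app ψ L.n)⁻¹ ∈ pU G1 := by
    intro u hu
    obtain ⟨y, hy, rfl⟩ := exists_preimage ψ inf_le_right h.neg hu
    rw [← app_conj ψ L.mem hy.2]
    exact h.pos _ (L.conj_neg hy)
  have hh0B : h0 ∈ bor G1 := mem_bor_of_normalizes g (mul_mem (inv_mem L.mem) (app_mem ψ _))
    fun u hu => by
      have := L.conj_inv_neg (hψn u hu)
      simpa [hh0, mul_assoc] using this
  have hh0H : h0 ∈ tor G1 := mem_tor_of_normalizes g hh0B fun u hu => by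
    have := L.conj_inv_pos (hψn' u hu)
    simpa [hh0, mul_assoc] using this
  obtain ⟨c, hc⟩ : h0 ∈ C.R.torus.range := by rw [← C.diagonalSubgroup_eq]; exact hh0H.1
  obtain ⟨h1, h2⟩ := Subgroup.mem_inf.1 (hneg i v v.2)
  have h3 : h0 * app ψ v * h0⁻¹ ∈ φ.fixU (negRootsIn C.R (O.J (π i))) := Subgroup.mem_inf.2
    ⟨(Subgroup.mem_normalizer_iff.1 (C.torus_normalizes _ ⟨c, hc⟩) _).1 h1,
      mul_mem (mul_mem (g.le_fixed hh0H.2) h2) (inv_mem (g.le_fixed hh0H.2))⟩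
  rw [← hv', app_conj ψ L.mem hvG, show app ψ L.n = L.n * h0 by rw [hh0, mul_inv_cancel_left]]
  have := hconj _ _ h3
  simpa [mul_assoc] using this

namespace Perm

variable {ψ : ↥G1 ≃* ↥G1} (P : Perm g ψ)

/-- The permutation preserves the orders of the orbit groups. -/
theorem card_eq [Fintype I] (i : I) : Nat.card ↥(φ.fixU (inRoots C.R (O.J (P.π i)))) =
    Nat.card ↥(φ.fixU (inRoots C.R (O.J i))) := by
  have hle : ∀ j, Nat.card ↥(φ.fixU (inRoots C.R (O.J j))) ≤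
      Nat.card ↥(φ.fixU (inRoots C.R (O.J (P.π j)))) := fun j =>
    Nat.card_le_card_of_injective (fun x => ⟨_, P.pos j x x.2⟩) fun a c e =>
      Subtype.ext (app_inj ψ (fixU_in_le g j a.2).2 (fixU_in_le g j c.2).2 (congrArg Subtype.val e))
  exact ((Finset.sum_eq_sum_iff_of_le fun j _ => hle j).1
    (Equiv.sum_comp P.π fun j => Nat.card ↥(φ.fixU (inRoots C.R (O.J j)))).symm i
    (Finset.mem_univ i)).symm

theorem cell_mul {a b : I} (hab : a ≠ b) {x y : GL D.Idx F} (hx : Cell G1 (g.s a) x)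
    (hy : Cell G1 (g.s b) y) : Cell G1 (g.s a * g.s b) (x * y) := by
  obtain ⟨a1, ha1, b1, hb1, rfl⟩ := hx
  obtain ⟨c1, hc1, e1, he1, rfl⟩ := hy
  obtain ⟨t, ht, hβ⟩ := exists_param g (i := a)
    (x := g.s a * (b1 * c1)) ⟨1, one_mem _, b1 * c1, mul_mem hb1 hc1, by rw [one_mul]⟩
  have hsub : inRoots C.R (O.J a) ⊆ outRoots C.R (O.J b) := fun r hr => by
    refine ⟨hr.1, fun hs => C.R.not_pos_and_neg hr.1 ((C.R.isNeg_iff r).2 ⟨hr.1.1, fun m => ?_⟩)⟩
    by_cases hm : m ∈ O.J b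
    · exact (hr.2 m fun h => hab (O.disj a b m h hm)).le
    · exact (hs m hm).le
  have hz : (g.s b)⁻¹ * t * g.s b ∈ bor G1 := ⟨le_sup_left (b := D.diagonalSubgroup F)
    (Ucl_out_le C _ (g.conj_inv_out b t (C.Ucl_mono hsub (Subgroup.mem_inf.1 ht).1))),
    mul_mem (mul_mem (G1.inv_mem (g.s_mem b)) (fixU_in_le g a ht).2) (g.s_mem b)⟩
  refine ⟨a1 * (g.s a * (b1 * c1) * (g.s a * t)⁻¹), mul_mem ha1 hβ,
    (g.s b)⁻¹ * t * g.s b * e1, mul_mem hz he1, ?_⟩
  group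

/-- The permutation respects commuting of the fundamental reflections of the orbits. -/
theorem commute_transport (h : Normal ψ) {a b : I} (hab : a ≠ b)
    (hc : Commute (g.wJ a) (g.wJ b)) : Commute (g.wJ (P.π a)) (g.wJ (P.π b)) := by
  set k := (g.s b * g.s a)⁻¹ * (g.s a * g.s b) with hk
  have hkG : k ∈ G1 := mul_mem (inv_mem (mul_mem (g.s_mem b) (g.s_mem a)))
    (mul_mem (g.s_mem a) (g.s_mem b))
  have hkN : k ∈ D.monomialSubgroup F := mul_mem (inv_mem (mul_mem (g.s_mem_N b) (g.s_mem_N a)))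
    (mul_mem (g.s_mem_N a) (g.s_mem_N b))
  have hkH : k ∈ tor G1 := by
    refine ⟨C.mem_diagonal_of_moves_one hkN ?_, hkG⟩
    have := ChevCore.Moves.mul C (ChevCore.Moves.inv C (mul_mem (g.s_mem_N b) (g.s_mem_N a))
      (ChevCore.Moves.mul C (g.s_moves b) (g.s_moves a))) (ChevCore.Moves.mul C (g.s_moves a) (g.s_moves b))
    rwa [hc.eq, inv_mul_cancel] at this
  have h1 := cell_mul g (P.π.injective.ne hab) (P.cell a) (P.cell b)
  have h2 := (cell_mul g (P.π.injective.ne hab.symm) (P.cell b) (P.cell a)).mul (one_mem _)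
    (Normal.mem_bor g h (tor_le_bor G1 hkH))
  rw [one_mul, ← app_mul ψ (g.s_mem b) (g.s_mem a),
    ← app_mul ψ (mul_mem (g.s_mem b) (g.s_mem a)) hkG,
    show g.s b * g.s a * k = g.s a * g.s b by rw [hk, mul_inv_cancel_left],
    app_mul ψ (g.s_mem a) (g.s_mem b)] at h2
  exact C.moves_eq_of_mem (mul_mem (g.s_mem_N _) (g.s_mem_N _)) (mul_mem (g.s_mem_N _) (g.s_mem_N _))
    (ChevCore.Moves.mul C (g.s_moves _) (g.s_moves _)) (ChevCore.Moves.mul C (g.s_moves _) (g.s_moves _))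
    ((h2.trans h1.symm).bigCell C)

end Perm

end CfsgLib.TwistAut
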