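import Cfsg.Agent.Lib.TwistedStr.OrbitTorus
import Cfsg.Agent.Lib.TwistedStr.Structure

/-!
Products of root elements along an orbit of pairwise orthogonal fundamental roots.
-/

set_option autoImplicit false

namespace CfsgLib.TwistAut

open Cfsg.Lie CfsgLib.ChevStr CfsgLib.Twisted
open scoped MatrixGroups

theorem prod_map_mul {ι G : Type*} [Group G] {f g : ι → G} : ∀ {L : List ι},
    L.Pairwise (fun a b => Commute (g a) (f b)) →
      (L.map fun x => f x * g x).prod = (L.map f).prod * (L.map g).prod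
  | [], _ => by simp
  | a :: L, h => by
    obtain ⟨h1, h2⟩ := List.pairwise_cons.1 h
    have hc : Commute (g a) (L.map f).prod := Commute.list_prod_right _ _ fun y hy => by
      obtain ⟨b, hb, rfl⟩ := List.mem_map.1 hy
      exact h1 b hb
    simp only [List.map_cons, List.prod_cons]
    rw [prod_map_mul h2, mul_assoc, ← mul_assoc (g a), hc.eq]
    group

variable {D : ChevalleyDatum} {F : Type*} [Field F] (C : ChevCore D F)

/-- The group of a fundamental root and its opposite. -/
def rk1 (j : Fin D.rank) : Subgroup (GL D.Idx F) :=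
  Subgroup.closure {x | ∃ r ∈ [D.simple j.val, D.neg (D.simple j.val)], ∃ t, x = C.xGL r t}

theorem x_mem_rk1 (j : Fin D.rank) (t : F) : C.xGL (D.simple j.val) t ∈ rk1 C j :=
  Subgroup.subset_closure ⟨_, by simp, t, rfl⟩

theorem xn_mem_rk1 (j : Fin D.rank) (t : F) : C.xGL (D.neg (D.simple j.val)) t ∈ rk1 C j :=
  Subgroup.subset_closure ⟨_, by simp, t, rfl⟩

theorem n_mem_rk1 (j : Fin D.rank) (t : F) : C.nGL (D.simple j.val) t ∈ rk1 C j := by
  rw [nGL_prod]
  exact mul_mem (x_mem_rk1 C j _) (mul_mem (xn_mem_rk1 C j _) (x_mem_rk1 C j _))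

theorem h_mem_rk1 (j : Fin D.rank) (c : Fˣ) : C.R.torusSingle j c ∈ rk1 C j := by
  rw [torusSingle_eq]
  exact mul_mem (n_mem_rk1 C j _) (n_mem_rk1 C j _)

theorem rk1_commute {a b : Fin D.rank} (h : CommPair D (D.simple a.val) (D.simple b.val))
    {x y : GL D.Idx F} (hx : x ∈ rk1 C a) (hy : y ∈ rk1 C b) : Commute x y := by
  refine (Subgroup.mem_centralizer_iff.1 (?_ : x ∈ Subgroup.centralizer (rk1 C b : Set (GL D.Idx F)))
    y hy).symm
  refine (Subgroup.closure_le _).2 ?_ hx
  rintro _ ⟨r, hr, t, rfl⟩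
  rw [SetLike.mem_coe, Subgroup.mem_centralizer_iff]
  intro z hz
  have : z ∈ Subgroup.centralizer ({C.xGL r t} : Set (GL D.Idx F)) := by
    refine (Subgroup.closure_le _).2 ?_ hz
    rintro _ ⟨s, hs, u, rfl⟩
    rw [SetLike.mem_coe, Subgroup.mem_centralizer_iff]
    rintro _ rfl
    exact ((h.commute C) r hr s hs t u).eq.symm
  exact (Subgroup.mem_centralizer_iff.1 this _ rfl).symm

/-- What is needed of the exponents and the roots of one orbit. -/
structure OrbOK (E : Fin D.rank → ℕ) (L : List (Fin D.rank)) : Prop where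
  comm : L.Pairwise fun a b => CommPair D (D.simple a.val) (D.simple b.val)
  add : ∀ j, ∀ t u : F, (t + u) ^ E j = t ^ E j + u ^ E j
  negone : ∀ j, (-1 : F) ^ E j = -1
  ne_zero : ∀ j, E j ≠ 0

/-- A product along an orbit. -/
def oprod (L : List (Fin D.rank)) (f : Fin D.rank → GL D.Idx F) : GL D.Idx F := (L.map f).prod

/-- A product of positive root elements with given parameters. -/
def Xc (L : List (Fin D.rank)) (c : Fin D.rank → F) : GL D.Idx F :=
  oprod L fun j => C.xGL (D.simple j.val) (c j)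

variable (E : Fin D.rank → ℕ) (L : List (Fin D.rank))

/-- The positive element of an orbit. -/
def X (t : F) : GL D.Idx F := Xc C L fun j => t ^ E j

/-- The negative element of an orbit. -/
def Xn (t : F) : GL D.Idx F := oprod L fun j => C.xGL (D.neg (D.simple j.val)) (t ^ E j)

/-- The monomial element of an orbit. -/
def N (t : F) : GL D.Idx F := oprod L fun j => C.nGL (D.simple j.val) (t ^ E j)

/-- The representative of the orbit. -/
def SS : GL D.Idx F := oprod L fun j => C.nS j

/-- The torus parameters of an orbit. -/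
def par (z : Fˣ) : Fin D.rank → Fˣ := (L.map fun j => Pi.mulSingle j (z ^ E j)).prod

/-- The torus element of an orbit. -/
def T (z : Fˣ) : GL D.Idx F := C.R.torus (par E L z)

theorem T_eq (z : Fˣ) : T C E L z = oprod L fun j => C.R.torusSingle j (z ^ E j) := by
  rw [T, par, map_list_prod, List.map_map]
  rfl

omit [Field F] in
theorem par_mul [Field F] (z z' : Fˣ) : par E L (z * z') = par E L z * par E L z' := by
  induction L with
  | nil => simp [par]
  | cons a L ih =>
    simp only [par, List.map_cons, List.prod_cons] at ih ⊢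
    rw [ih, mul_pow, Pi.mulSingle_mul, mul_mul_mul_comm]

theorem T_mul (z z' : Fˣ) : T C E L (z * z') = T C E L z * T C E L z' := by
  rw [T, T, T, par_mul, map_mul]

theorem T_one : T C E L 1 = 1 := by
  have h := T_mul C E L 1 1
  rwa [mul_one, left_eq_mul] at h

theorem T_inv (z : Fˣ) : T C E L z⁻¹ = (T C E L z)⁻¹ := by
  refine eq_inv_of_mul_eq_one_left ?_
  rw [← T_mul, inv_mul_cancel, T_one]

theorem SS_mono : SS C L ∈ D.monomialSubgroup F :=
  Subgroup.list_prod_mem _ fun x hx => by
    obtain ⟨j, -, rfl⟩ := List.mem_map.1 hx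
    exact C.nS_mem_monomial j

theorem SS_moves : C.Moves (SS C L) (C.hR.wordPerm L) := by
  induction L with
  | nil => exact ChevCore.Acts.moves C C.acts_one
  | cons a L ih =>
    simp only [SS, oprod, ReflData.wordPerm, List.map_cons, List.prod_cons] at ih ⊢
    exact ChevCore.Moves.mul C (ChevCore.Acts.moves C (C.acts_nS a)) ih

theorem torus_conj_Xc (c : Fin D.rank → Fˣ) (v : Fin D.rank → F) :
    C.R.torus c * Xc C L v * (C.R.torus c)⁻¹ =
      Xc C L fun j => (C.R.torusChar c (C.R.α (D.simple j.val)) : F) * v j := by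
  induction L with
  | nil => simp [Xc, oprod]
  | cons a L ih =>
    simp only [Xc, oprod, List.map_cons, List.prod_cons] at ih ⊢
    rw [← ih, show C.xGL (D.simple a.val) ((C.R.torusChar c (C.R.α (D.simple a.val)) : F) * v a) =
      C.R.torus c * C.xGL (D.simple a.val) (v a) * (C.R.torus c)⁻¹ from
        (C.acts_torus c (C.pRoot a) (v a)).symm]
    group

theorem Xc_mem {S : Set ℕ} (h : ∀ j ∈ L, D.simple j.val ∈ S) (v : Fin D.rank → F) :
    Xc C L v ∈ C.Ucl S :=
  Subgroup.list_prod_mem _ fun x hx => by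
    obtain ⟨j, hj, rfl⟩ := List.mem_map.1 hx
    exact C.xGL_mem_Ucl (h j hj) _

theorem Xn_mem {S : Set ℕ} (h : ∀ j ∈ L, D.neg (D.simple j.val) ∈ S) (t : F) :
    Xn C E L t ∈ C.Ucl S :=
  Subgroup.list_prod_mem _ fun x hx => by
    obtain ⟨j, hj, rfl⟩ := List.mem_map.1 hx
    exact C.xGL_mem_Ucl (h j hj) _

theorem X_mem_pos (t : F) : X C E L t ∈ D.posUnipotent F := by
  rw [C.posUnipotent_eq]
  exact Xc_mem C L (fun j _ => C.R.simple_pos j) _

theorem Xn_mem_neg (t : F) : Xn C E L t ∈ D.negUnipotent F := by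
  rw [C.negUnipotent_eq]
  exact Xn_mem C E L (fun j _ => (C.R.isNeg_neg_iff (C.R.simple_lt j)).2 (C.R.simple_pos j)) t

/-- The leading coefficient of an orbit product is determined. -/
theorem Xc_lead {a : Fin D.rank} {L : List (Fin D.rank)}
    (hc : (a :: L).Pairwise fun a b => CommPair D (D.simple a.val) (D.simple b.val))
    {v v' : Fin D.rank → F} (h : Xc C (a :: L) v = Xc C (a :: L) v') : v a = v' a := by
  have hmem : ∀ v : Fin D.rank → F,
      Xc C L v ∈ C.Ucl {r | D.IsPosRoot r ∧ r ≠ D.simple a.val} := fun v =>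
    Xc_mem C L (S := {r | D.IsPosRoot r ∧ r ≠ D.simple a.val}) (fun j hj => ⟨C.R.simple_pos j,
      ((List.pairwise_cons.1 hc).1 j hj).2.2 _ (by simp) _ (by simp) |>.1⟩) v
  simp only [Xc, oprod, List.map_cons, List.prod_cons] at h
  have h1 : C.xGL (D.simple a.val) (-v' a + v a) =
      (L.map fun j => C.xGL (D.simple j.val) (v' j)).prod *
        ((L.map fun j => C.xGL (D.simple j.val) (v j)).prod)⁻¹ := by
    rw [C.xGL_add, ← C.xGL_inv, eq_mul_inv_iff_mul_eq, mul_assoc, h, inv_mul_cancel_left]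
  have h2 := simple_not_mem C a (h1 ▸ mul_mem (hmem v') (inv_mem (hmem v)))
  exact (eq_of_sub_eq_zero (by rw [← h2]; ring))

variable {E L} (h : OrbOK (F := F) E L)

include h

theorem pair_mul {f g : Fin D.rank → GL D.Idx F} (hf : ∀ j, f j ∈ rk1 C j) (hg : ∀ j, g j ∈ rk1 C j) :
    oprod L (fun j => f j * g j) = oprod L f * oprod L g :=
  prod_map_mul (h.comm.imp fun {a b} hab => rk1_commute C hab (hg a) (hf b))

theorem X_add (t u : F) : X C E L (t + u) = X C E L t * X C E L u := by
  rw [X, X, X, Xc, Xc, Xc, ← pair_mul C h (fun j => x_mem_rk1 C j _) (fun j => x_mem_rk1 C j _)]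
  refine congrArg (oprod L) (funext fun j => ?_)
  rw [h.add j, C.xGL_add]

theorem X_zero : X C E L 0 = 1 := by
  have := X_add C h 0 0
  rwa [add_zero, left_eq_mul] at this

theorem X_inv (t : F) : (X C E L t)⁻¹ = X C E L (-t) := by
  refine inv_eq_of_mul_eq_one_right ?_
  rw [← X_add C h, add_neg_cancel, X_zero C h]

theorem Xn_zero : Xn C E L 0 = 1 := by
  refine List.prod_eq_one fun x hx => ?_
  obtain ⟨j, -, rfl⟩ := List.mem_map.1 hx
  rw [zero_pow (h.ne_zero j), C.xGL_zero]

theorem N_eq (t : F) : N C E L t = X C E L t * Xn C E L (-t⁻¹) * X C E L t := by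
  rw [mul_assoc, X, Xn, Xc, ← pair_mul C h (fun j => xn_mem_rk1 C j _) (fun j => x_mem_rk1 C j _),
    ← pair_mul C h (fun j => x_mem_rk1 C j _)
      (fun j => mul_mem (xn_mem_rk1 C j _) (x_mem_rk1 C j _))]
  refine congrArg (oprod L) (funext fun j => ?_)
  rw [nGL_prod, neg_inv_pow (h.negone j)]

theorem N_torus (z : Fˣ) : N C E L (z : F) = T C E L z * SS C L := by
  rw [T_eq, SS, ← pair_mul C h (fun j => h_mem_rk1 C j _) (fun j => show C.nS j ∈ rk1 C j from n_mem_rk1 C j 1)]
  refine congrArg (oprod L) (funext fun j => ?_)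
  rw [← C.nGL_simple, Units.val_pow_eq_pow_val]

theorem N_one : N C E L 1 = SS C L := by
  have := N_torus C h 1
  rwa [Units.val_one, T_one, one_mul] at this

theorem Xn_eq {v : F} (hv : v ≠ 0) :
    Xn C E L v = X C E L v⁻¹ * N C E L (-v⁻¹) * X C E L v⁻¹ := by
  rw [N_eq C h, inv_neg, inv_inv, neg_neg, ← X_inv C h]
  group

end CfsgLib.TwistAut
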