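import Cfsg.Agent.Lib.TwistAut.Scalars
import Cfsg.Agent.Lib.ChevAut.Main
import Cfsg.Prelude.Def_KGroupFacts

/-!
The outer automorphism group of a twisted group with orthogonal orbits is counted by its standard
automorphisms: diagonal ones composed with field automorphisms.
-/

set_option autoImplicit false

namespace CfsgLib.TwistAut

open Cfsg.Lie CfsgLib.ChevStr CfsgLib.Twisted CfsgLib.KnownSimple
open scoped MatrixGroups

variable {D : ChevalleyDatum} {F : Type*} [Field F] [Fintype F] {C : ChevCore D F} {φ : Frob C}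
  {I : Type} {O : OrbitData C.R φ.ρ I} {G1 : Subgroup (GL D.Idx F)} {d : ℕ} {g : Gens φ O G1 d}
  {p : ℕ} [Fact p.Prime] [CharP F p] (S : Setup g p)

/-- The leading coefficients of standard automorphisms. -/
def Setup.coeffs : Subgroup (I → Fˣ) where
  carrier := {a | ∀ i, a i ^ p ^ S.m i = a i}
  one_mem' i := by simp
  mul_mem' ha hb i := by simp [mul_pow, ha i, hb i]
  inv_mem' ha i := by simp [inv_pow, ha i]

theorem Setup.coeffs_mem {a : I → Fˣ} (ha : a ∈ S.coeffs) (i : I) : (a i : F) ∈ S.Fld i := by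
  rw [mem_powFld, ← Units.val_pow_eq_pow_val, ha i]

theorem Setup.mem_coeffs {a : I → Fˣ} (h : ∀ i, (a i : F) ∈ S.Fld i) : a ∈ S.coeffs := fun i =>
  Units.ext (by rw [Units.val_pow_eq_pow_val]; exact h i)

theorem Setup.σ_mem (σ : F ≃+* F) {i : I} {t : F} (ht : t ∈ S.Fld i) : σ t ∈ S.Fld i := by
  rw [mem_powFld] at ht ⊢
  rw [← map_pow, ht]

/-- The map of the general linear group underlying a standard automorphism. -/
noncomputable def Setup.stdHom (a : I → Fˣ) (σ : F ≃+* F) : GL D.Idx F →* GL D.Idx F :=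
  (MulAut.conj (ChevAut.charGL
    (ChevAut.leadChar C fun j => a (S.orb j) ^ S.E j))).toMonoidHom.comp
    (ChevField.mapGL σ.toRingHom)

theorem Setup.stdHom_injective (a : I → Fˣ) (σ : F ≃+* F) : Function.Injective (S.stdHom a σ) :=
  fun _ _ e => ChevField.mapGL_injective σ.toRingHom ((MulEquiv.injective (MulAut.conj
    (ChevAut.charGL (ChevAut.leadChar C fun j => a (S.orb j) ^ S.E j)))) e)

variable (htab : chainTableOK D = true)

include htab

theorem Setup.stdHom_x (a : I → Fˣ) (σ : F ≃+* F) {r : ℕ} (hr : r < D.nroots) (t : F) :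
    S.stdHom a σ (C.xGL r t) =
      C.xGL r ((ChevAut.leadChar C (fun j => a (S.orb j) ^ S.E j) r : F) * σ t) := by
  rw [Setup.stdHom, MonoidHom.comp_apply,
    show ChevField.mapGL σ.toRingHom (C.xGL r t) = C.xGL r (σ t) from
      Units.ext (by rw [ChevField.coe_mapGL, C.coe_xGL, C.coe_xGL, ChevField.x_map]; rfl)]
  exact ChevAut.charGL_conj C htab (ChevAut.isRootCharacter_leadChar C _) r hr _

theorem Setup.stdHom_orbit (a : I → Fˣ) (σ : F ≃+* F) (i : I) (t : F) :
    S.stdHom a σ (S.x i t) = S.x i ((a i : F) * σ t) ∧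
      S.stdHom a σ (S.xn i t) = S.xn i (((a i)⁻¹ : Fˣ) * σ t) := by
  constructor
  · show S.stdHom a σ (X C _ _ _) = X C _ _ _
    rw [X, X, Xc, Xc, oprod, oprod, map_list_prod, List.map_map]
    refine congrArg List.prod (List.map_congr_left fun j hj => ?_)
    rw [Function.comp_apply, S.stdHom_x htab a σ (C.R.simple_lt j), ChevAut.leadChar_simple,
      S.orb_eq i j hj, map_pow, Units.val_pow_eq_pow_val, mul_pow]
  · show S.stdHom a σ (Xn C _ _ _) = Xn C _ _ _
    rw [Xn, Xn, oprod, oprod, map_list_prod, List.map_map]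
    refine congrArg List.prod (List.map_congr_left fun j hj => ?_)
    rw [Function.comp_apply, S.stdHom_x htab a σ (C.R.neg_lt _ (C.R.simple_lt j)),
      (ChevAut.isRootCharacter_leadChar C _).1 _ (C.R.simple_lt j), ChevAut.leadChar_simple,
      S.orb_eq i j hj, map_pow, ← inv_pow, Units.val_pow_eq_pow_val, mul_pow]

theorem Setup.stdHom_mem (a : S.coeffs) (σ : F ≃+* F) : ∀ y ∈ G1, S.stdHom a σ y ∈ G1 :=
  fun _ hy => S.gen_le (G1.comap (S.stdHom a σ)) (fun i t ht => by
    have h := S.coeffs_mem a.2 i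
    constructor <;> rw [Subgroup.mem_comap]
    · rw [(S.stdHom_orbit htab _ σ i t).1]
      exact S.x_G1 (mul_mem h (S.σ_mem σ ht))
    · rw [(S.stdHom_orbit htab _ σ i t).2]
      refine S.xn_G1 (mul_mem ?_ (S.σ_mem σ ht))
      rw [Units.val_inv_eq_inv_val]
      exact inv_mem h) hy

/-- The standard automorphism with given coefficients. -/
noncomputable def Setup.stdAut (a : S.coeffs) (σ : F ≃+* F) : MulAut ↥G1 :=
  MulEquiv.ofBijective
    (((S.stdHom a σ).comp G1.subtype).codRestrict G1 fun y => S.stdHom_mem htab a σ y y.2)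
    (Finite.injective_iff_bijective.1 fun _ _ e =>
      Subtype.ext (S.stdHom_injective (a : I → Fˣ) σ (congrArg Subtype.val e)))

theorem Setup.app_stdAut (a : S.coeffs) (σ : F ≃+* F) {y : GL D.Idx F} (hy : y ∈ G1) :
    app (S.stdAut htab a σ) y = S.stdHom a σ y := by
  lift y to ↥G1 using hy
  rw [app_coe]
  rfl

theorem Setup.stdAut_pos (a : S.coeffs) (σ : F ≃+* F) {i : I} {t : F} (ht : t ∈ S.Fld i) :
    app (S.stdAut htab a σ) (S.x i t) = S.x i ((a.1 i : F) * σ t) := by
  rw [S.app_stdAut htab a σ (S.x_G1 ht), (S.stdHom_orbit htab _ σ i t).1]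

theorem Setup.stdAut_normal (a : S.coeffs) (σ : F ≃+* F) : Normal (S.stdAut htab a σ) := by
  constructor <;> intro y hy <;> rw [S.app_stdAut htab a σ hy.2]
  · refine ⟨?_, S.stdHom_mem htab a σ y hy.2⟩
    refine (C.posUnipotent_le fun r t hr => ?_ :
      D.posUnipotent F ≤ (D.posUnipotent F).comap (S.stdHom a σ)) hy.1
    rw [Subgroup.mem_comap, S.stdHom_x htab _ σ hr.1]
    exact C.xGL_mem_posUnipotent hr _
  · refine ⟨?_, S.stdHom_mem htab a σ y hy.2⟩
    refine (C.negUnipotent_le fun r t hr => ?_ :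
      D.negUnipotent F ≤ (D.negUnipotent F).comap (S.stdHom a σ)) hy.1
    rw [Subgroup.mem_comap, S.stdHom_x htab _ σ hr.1]
    exact C.xGL_mem_negUnipotent hr _

omit htab

variable (hfix : ∀ ψ : ↥G1 ≃* ↥G1, Normal ψ → ∀ P : Perm g ψ, ∀ i, P.π i = i)

include S hfix

/-- Normal automorphisms agreeing on the positive orbit elements are equal. -/
theorem Setup.ext_pos {ψ ψ' : ↥G1 ≃* ↥G1} (hψ : Normal ψ) (hψ' : Normal ψ')
    (h : ∀ i, ∀ t ∈ S.Fld i, app ψ (S.x i t) = app ψ' (S.x i t)) : ψ = ψ' := by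
  obtain ⟨A⟩ := nonempty_std (S := S) hψ (hfix ψ hψ)
  obtain ⟨B⟩ := nonempty_std (S := S) hψ' (hfix ψ' hψ')
  have hf : ∀ i, ∀ t ∈ S.Fld i, A.f i t = B.f i t := fun i t ht => S.x_lead (i := i)
    (by rw [← A.pos i t ht, ← B.pos i t ht, h i t ht])
  have hl : ∀ i, A.lead i = B.lead i := fun i => Units.ext (hf i 1 (one_mem _))
  have key : G1 ≤ (MonoidHom.eqLocus ψ.toMonoidHom ψ'.toMonoidHom).map G1.subtype := by
    refine S.gen_le _ fun i t ht => ⟨⟨⟨_, S.x_G1 ht⟩, Subtype.ext ?_, rfl⟩,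
      ⟨⟨_, S.xn_G1 ht⟩, Subtype.ext ?_, rfl⟩⟩
    · show (ψ ⟨_, S.x_G1 ht⟩ : GL D.Idx F) = ψ' ⟨_, S.x_G1 ht⟩
      rw [← app_coe ψ, ← app_coe ψ']
      exact h i t ht
    · show (ψ ⟨_, S.xn_G1 ht⟩ : GL D.Idx F) = ψ' ⟨_, S.xn_G1 ht⟩
      rw [← app_coe ψ, ← app_coe ψ', show app ψ (S.xn i t) = _ from A.neg i t ht,
        show app ψ' (S.xn i t) = _ from B.neg i t ht, A.gg_formula ht, B.gg_formula ht, hl]
      simp only [Std.σfun, hf i t ht, hf i 1 (one_mem _)]
  refine MulEquiv.ext fun y => ?_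
  obtain ⟨z, hz, e⟩ := key y.2
  obtain rfl : z = y := Subtype.ext e
  exact hz

omit hfix

theorem Setup.torus_conj_x {c : Fin D.rank → Fˣ} (hc : C.R.torus c ∈ G1) (i : I) {u : F}
    (hu : u ∈ S.Fld i) :
    (C.R.torusChar c (C.R.α (D.simple (S.lead i).val)) : F) * u ∈ S.Fld i ∧
      C.R.torus c * S.x i u * (C.R.torus c)⁻¹ =
        S.x i ((C.R.torusChar c (C.R.α (D.simple (S.lead i).val)) : F) * u) := by
  have hT := g.le_fixed hc
  have hy : C.R.torus c * S.x i u * (C.R.torus c)⁻¹ ∈ φ.fixU (inRoots C.R (O.J i)) := by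
    obtain ⟨h1, h2⟩ := Subgroup.mem_inf.1 (S.x_fix hu)
    exact Subgroup.mem_inf.2 ⟨(Subgroup.mem_normalizer_iff.1 (C.torus_normalizes _
      (⟨c, rfl⟩ : C.R.torus c ∈ C.R.torus.range)) _).1 h1, mul_mem (mul_mem hT h2) (inv_mem hT)⟩
  obtain ⟨w, hw, e⟩ := S.exists_x hy
  have h3 : C.R.torus c * S.x i u * (C.R.torus c)⁻¹ = Xc C (S.L i) fun j =>
      (C.R.torusChar c (C.R.α (D.simple j.val)) : F) * u ^ S.E j := torus_conj_Xc C _ _ _
  have h4 := Xc_lead C (S.comm i) (e.trans h3)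
  simp only [Setup.E, S.e_lead i, pow_zero, pow_one] at h4
  rw [← h4]
  exact ⟨hw, e.symm⟩

/-- The values of the characters of the torus of the group on the leading roots. -/
def Setup.vals : ↥(G1.comap C.R.torus) →* ↥S.coeffs :=
  MonoidHom.codRestrict
    ({ toFun := fun c i => C.R.torusChar c.1 (C.R.α (D.simple (S.lead i).val))
       map_one' := funext fun i => by simp [RootData.torusChar]
       map_mul' := fun c c' => funext fun i => C.R.torusChar_mul c.1 c'.1 _ } :
      ↥(G1.comap C.R.torus) →* (I → Fˣ))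
    S.coeffs fun c => S.mem_coeffs fun i => by
      have := (S.torus_conj_x c.2 i (one_mem _)).1
      rwa [mul_one] at this

theorem Setup.card_vals : Nat.card ↥S.vals.range = Nat.card ↥(tor G1) := by
  rw [show tor G1 = (C.R.torus.comp (G1.comap C.R.torus).subtype).range by
    rw [MonoidHom.range_comp, Subgroup.range_subtype, Subgroup.map_comap_eq,
      ← C.diagonalSubgroup_eq], ← Subgroup.index_ker, ← Subgroup.index_ker]
  congr 1
  ext c
  rw [MonoidHom.mem_ker, MonoidHom.mem_ker]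
  constructor
  · intro h
    refine (C.torus_eq_one_iff c.1).2 (funext fun k => ?_)
    obtain ⟨i, hi⟩ := O.cover k
    obtain ⟨m, hm⟩ := O.trans i _ (S.mem_J i _ (List.mem_cons_self ..)) k hi
    have h0 : C.R.torusChar c.1 (C.R.α (D.simple (S.lead i).val)) = 1 :=
      congrFun (congrArg Subtype.val h) i
    have key : ∀ m : ℕ, C.R.torusChar c.1
        (C.R.α ((φ.ρ ^ m) ⟨D.simple (S.lead i).val, C.R.simple_lt _⟩ : Fin D.nroots)) = 1 := by
      intro m
      induction m with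
      | zero => exact h0
      | succ m ih => rw [pow_succ', Equiv.Perm.mul_apply, g.char_fixed c.2, ih, one_pow]
    have e := key m.val
    rw [hm, C.R.torusChar_root c.1 (C.R.simple_lt k)] at e
    exact e
  · intro h
    refine Subtype.ext (funext fun i => Units.ext ?_)
    have h1 := (S.torus_conj_x c.2 i (one_mem (S.Fld i))).2
    rw [show C.R.torus c.1 = 1 from h, one_mul, inv_one, mul_one, mul_one] at h1
    exact (S.x_lead h1).symm

include htab hfix

theorem Setup.mk_stdAut_eq_iff (i0 : I) (hi0 : ∀ t, t ∈ S.Fld i0) {a a' : S.coeffs}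
    {σ σ' : F ≃+* F} :
    (QuotientGroup.mk (S.stdAut htab a σ) : Cfsg.Out ↥G1) = QuotientGroup.mk (S.stdAut htab a' σ') ↔
      σ = σ' ∧ a⁻¹ * a' ∈ S.vals.range := by
  have hA := S.stdAut_normal htab a σ
  have hA' := S.stdAut_normal htab a' σ'
  constructor
  · intro h
    obtain ⟨x, hx⟩ := QuotientGroup.eq.1 h
    set A := S.stdAut htab a σ with hAdef
    set A' := S.stdAut htab a' σ' with hA'def
    have hx' : ∀ y, A' y = A x * A y * (A x)⁻¹ := fun y => by
      have h1 := congrArg (fun e : MulAut ↥G1 => A (e y)) hx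
      simp only [MulAut.mul_apply, MulAut.conj_apply, map_mul, map_inv, MulAut.apply_inv_self] at h1
      exact h1.symm
    have happ : ∀ y ∈ G1, app A' y = (A x : GL D.Idx F) * app A y * (A x : GL D.Idx F)⁻¹ := by
      intro y hy
      lift y to ↥G1 using hy
      rw [app_coe, app_coe, hx' y]
      rfl
    have hzB : (A x : GL D.Idx F) ∈ bor G1 := mem_bor_of_normalizes g (A x).2 fun u hu => by
      obtain ⟨y, hy, rfl⟩ := exists_preimage A inf_le_right hA.pos hu
      rw [← happ y hy.2]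
      exact hA'.pos y hy
    have hzH := mem_tor_of_normalizes g hzB fun v hv => by
      obtain ⟨y, hy, rfl⟩ := exists_preimage A inf_le_right hA.neg hv
      rw [← happ y hy.2]
      exact hA'.neg y hy
    obtain ⟨c, hc⟩ : (A x : GL D.Idx F) ∈ C.R.torus.range := by
      rw [← C.diagonalSubgroup_eq]; exact hzH.1
    have hcG : C.R.torus c ∈ G1 := hc ▸ hzH.2
    have key : ∀ i, ∀ t ∈ S.Fld i, (a'.1 i : F) * σ' t =
        (C.R.torusChar c (C.R.α (D.simple (S.lead i).val)) : F) * ((a.1 i : F) * σ t) := by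
      intro i t ht
      have h2 := happ (S.x i t) (S.x_G1 ht)
      rw [hA'def, hAdef, S.stdAut_pos htab a' σ' ht, S.stdAut_pos htab a σ ht, ← hc,
        (S.torus_conj_x hcG i (mul_mem (S.coeffs_mem a.2 i) (S.σ_mem σ ht))).2] at h2
      exact S.x_lead h2
    refine ⟨RingEquiv.ext fun t => ?_, ⟨⟨c, hcG⟩, Subtype.ext (funext fun i => Units.ext ?_)⟩⟩
    · have h1 := key i0 1 (one_mem _)
      have h2 := key i0 t (hi0 t)
      rw [map_one, map_one, mul_one, mul_one] at h1
      rw [h1, mul_assoc] at h2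
      exact (mul_left_cancel₀ (Units.ne_zero _) (mul_left_cancel₀ (Units.ne_zero _) h2)).symm
    · have h1 := key i 1 (one_mem _)
      rw [map_one, map_one, mul_one, mul_one] at h1
      show (C.R.torusChar c (C.R.α (D.simple (S.lead i).val)) : F) = (((a.1 i)⁻¹ * a'.1 i : Fˣ) : F)
      rw [Units.val_mul, h1, mul_comm ((a.1 i)⁻¹ : Fˣ).val, mul_assoc, Units.mul_inv, mul_one]
  · rintro ⟨rfl, ⟨c, hcG⟩, hc⟩
    set z : ↥G1 := ⟨C.R.torus c, hcG⟩ with hz
    set A := S.stdAut htab a σ with hAdef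
    have htor : C.R.torus c ∈ D.diagonalSubgroup F := by rw [C.diagonalSubgroup_eq]; exact ⟨c, rfl⟩
    have happ : ∀ y ∈ G1, app (MulAut.conj z * A) y =
        C.R.torus c * app A y * (C.R.torus c)⁻¹ := fun y hy => by
      lift y to ↥G1 using hy
      rw [app_coe, app_coe]
      rfl
    have hN : Normal (MulAut.conj z * A) := by
      constructor <;> intro y hy <;> rw [happ y hy.2]
      · exact ⟨(Subgroup.mem_normalizer_iff.1 (C.diagonal_normalizes_pos htor) _).1 (hA.pos y hy).1,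
          mul_mem (mul_mem hcG (app_mem A y)) (G1.inv_mem hcG)⟩
      · exact ⟨(Subgroup.mem_normalizer_iff.1 (C.diagonal_normalizes_neg htor) _).1 (hA.neg y hy).1,
          mul_mem (mul_mem hcG (app_mem A y)) (G1.inv_mem hcG)⟩
    have heq : S.stdAut htab a' σ = MulAut.conj z * A := S.ext_pos hfix hA' hN fun i t ht => by
      rw [happ _ (S.x_G1 ht), hAdef, S.stdAut_pos htab a' σ ht, S.stdAut_pos htab a σ ht,
        (S.torus_conj_x hcG i (mul_mem (S.coeffs_mem a.2 i) (S.σ_mem σ ht))).2]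
      have h := congrFun (congrArg Subtype.val hc) i
      change C.R.torusChar c _ = (a.1 i)⁻¹ * a'.1 i at h
      rw [h, ← mul_assoc, Units.val_mul, mul_comm ((a.1 i)⁻¹ : Fˣ).val,
        mul_assoc (a'.1 i : F), Units.inv_mul, mul_one]
    refine QuotientGroup.eq.2 ⟨A⁻¹ z, ?_⟩
    rw [heq]
    refine MulEquiv.ext fun y => ?_
    simp [MulAut.mul_apply, map_mul, map_inv]

/-- The order of the outer automorphism group. -/
theorem Setup.card_out {n : ℕ} (hF : Nat.card F = (p ^ n) ^ d) (i0 : I) (hi0 : ∀ t, t ∈ S.Fld i0)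
    (hlink : ∀ ψ : ↥G1 ≃* ↥G1, ∀ A : Std S ψ, ∀ i, ∀ t ∈ S.Fld i, A.σfun i t = A.σfun i0 t) :
    Nat.card (Cfsg.Out ↥G1) * Nat.card ↥(tor G1) = Nat.card ↥S.coeffs * Nat.card (F ≃+* F) := by
  classical
  let Ψ : (↥S.coeffs ⧸ S.vals.range) × (F ≃+* F) → Cfsg.Out ↥G1 := fun q =>
    QuotientGroup.mk (S.stdAut htab q.1.out q.2)
  have hbij : Function.Bijective Ψ := by
    constructor
    · rintro ⟨q, σ⟩ ⟨q', σ'⟩ h
      obtain ⟨rfl, hb⟩ := (S.mk_stdAut_eq_iff htab hfix i0 hi0).1 h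
      have h2 := QuotientGroup.eq.2 hb
      rw [QuotientGroup.out_eq', QuotientGroup.out_eq'] at h2
      exact Prod.ext h2 rfl
    · intro o
      obtain ⟨θ, rfl⟩ := QuotientGroup.mk_surjective o
      obtain ⟨x, ψ, hψ, hθ⟩ := exists_normal g p hF θ
      obtain ⟨A⟩ := nonempty_std (S := S) hψ (hfix ψ hψ)
      set a : S.coeffs := ⟨A.lead, S.mem_coeffs fun i => A.f_mem i 1 (one_mem _)⟩ with ha
      have hψA : S.stdAut htab a (A.σ i0 hi0) = ψ :=
        S.ext_pos hfix (S.stdAut_normal htab a _) hψ fun i t ht => by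
          rw [S.stdAut_pos htab a _ ht, A.pos i t ht, A.σ_apply, A.f_eq i t, hlink ψ A i t ht]
      refine ⟨(QuotientGroup.mk a, A.σ i0 hi0), ?_⟩
      rw [show Ψ (QuotientGroup.mk a, A.σ i0 hi0) = QuotientGroup.mk (S.stdAut htab a (A.σ i0 hi0))
        from (S.mk_stdAut_eq_iff htab hfix i0 hi0).2
          ⟨rfl, QuotientGroup.eq.1 (QuotientGroup.out_eq' _)⟩, hψA]
      refine QuotientGroup.eq.2 ⟨ψ.symm x, MulEquiv.ext fun y => ?_⟩
      show ψ.symm x * y * (ψ.symm x)⁻¹ = ψ.symm (θ y)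
      rw [hθ y, map_mul, map_mul, map_inv, MulEquiv.symm_apply_apply]
  rw [← Nat.card_eq_of_bijective Ψ hbij, Nat.card_prod, ← S.card_vals]
  have h := Subgroup.card_eq_card_quotient_mul_card_subgroup S.vals.range
  rw [h]
  ring

omit hfix htab

/-- The order of the group of coefficients. -/
theorem Setup.card_coeffs [Fintype I] :
    Nat.card ↥S.coeffs = ∏ i, (Nat.card {t : F // t ^ p ^ S.m i = t} - 1) := by
  classical
  have e1 : ∀ i, Nat.card (↥(S.Fld i))ˣ = Nat.card {t : F // t ^ p ^ S.m i = t} - 1 := fun i =>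
    Nat.card_units (↥(S.Fld i))
  simp only [← e1]
  rw [← Nat.card_pi]
  refine Nat.card_congr
    { toFun := fun a i => Units.mk0 ⟨(a.1 i : F), S.coeffs_mem a.2 i⟩ fun e =>
        (a.1 i).ne_zero (congrArg Subtype.val e)
      invFun := fun u => ⟨fun i => Units.map ((S.Fld i).subtype : ↥(S.Fld i) →* F) (u i),
        S.mem_coeffs fun i => (u i).1.2⟩
      left_inv := fun a => Subtype.ext (funext fun i => Units.ext rfl)
      right_inv := fun u => funext fun i => Units.ext (Subtype.ext rfl) }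

end CfsgLib.TwistAut
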