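import Cfsg.Agent.Lib.TwistAut.Setup

/-!
The parameter maps of an automorphism fixing every orbit group are scalar multiples of field
automorphisms, tied together by the Cartan integers.
-/

set_option autoImplicit false

namespace CfsgLib.TwistAut

open Cfsg.Lie CfsgLib.ChevStr CfsgLib.Twisted
open scoped MatrixGroups

variable {D : ChevalleyDatum} {F : Type*} [Field F] [Fintype F] {C : ChevCore D F} {φ : Frob C}
  {I : Type} {O : OrbitData C.R φ.ρ I} {G1 : Subgroup (GL D.Idx F)} {d : ℕ} {g : Gens φ O G1 d}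
  {p : ℕ} [Fact p.Prime] [CharP F p]

/-- `ψ` maps every orbit group to itself, with these parameter maps. -/
structure Std (S : Setup g p) (ψ : ↥G1 ≃* ↥G1) where
  f : I → F → F
  gg : I → F → F
  f_mem : ∀ i, ∀ t ∈ S.Fld i, f i t ∈ S.Fld i
  gg_mem : ∀ i, ∀ t ∈ S.Fld i, gg i t ∈ S.Fld i
  pos : ∀ i, ∀ t ∈ S.Fld i, app ψ (S.x i t) = S.x i (f i t)
  neg : ∀ i, ∀ t ∈ S.Fld i, app ψ (S.xn i t) = S.xn i (gg i t)

variable {S : Setup g p}

theorem nonempty_std {ψ : ↥G1 ≃* ↥G1} (hψ : Normal ψ)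
    (hπ : ∀ P : Perm g ψ, ∀ i, P.π i = i) : Nonempty (Std S ψ) := by
  classical
  obtain ⟨P⟩ := nonempty_perm g p S.opp hψ
  have h1 : ∀ i t, ∃ u, t ∈ S.Fld i → u ∈ S.Fld i ∧ app ψ (S.x i t) = S.x i u := fun i t => by
    by_cases ht : t ∈ S.Fld i
    · have h := P.pos i _ (S.x_fix ht)
      rw [hπ P i] at h
      obtain ⟨u, hu, e⟩ := S.exists_x h
      exact ⟨u, fun _ => ⟨hu, e.symm⟩⟩
    · exact ⟨0, fun h => absurd h ht⟩
  have h2 : ∀ i t, ∃ u, t ∈ S.Fld i → u ∈ S.Fld i ∧ app ψ (S.xn i t) = S.xn i u := fun i t => by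
    by_cases ht : t ∈ S.Fld i
    · have h := P.neg i _ (S.xn_fix ht)
      rw [hπ P i] at h
      obtain ⟨u, hu, e⟩ := S.exists_xn h
      exact ⟨u, fun _ => ⟨hu, e.symm⟩⟩
    · exact ⟨0, fun h => absurd h ht⟩
  choose f hf using h1
  choose k hk using h2
  exact ⟨⟨f, k, fun i t ht => (hf i t ht).1, fun i t ht => (hk i t ht).1,
    fun i t ht => (hf i t ht).2, fun i t ht => (hk i t ht).2⟩⟩

/-- The scalar by which the torus of one orbit acts on another. -/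
def Setup.chi (S : Setup g p) (i k : I) (c : Fˣ) : Fˣ :=
  C.R.torusChar (par S.E (S.L i) c) (C.R.α (D.simple (S.lead k).val))

theorem Setup.tt_conj (S : Setup g p) {i k : I} {c : Fˣ} (hc : (c : F) ∈ S.Fld i) {u : F}
    (hu : u ∈ S.Fld k) :
    (S.chi i k c : F) * u ∈ S.Fld k ∧
      S.tt i c * S.x k u * (S.tt i c)⁻¹ = S.x k ((S.chi i k c : F) * u) := by
  have hT := g.le_fixed (S.tt_G1 hc)
  have hy : S.tt i c * S.x k u * (S.tt i c)⁻¹ ∈ φ.fixU (inRoots C.R (O.J k)) := by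
    obtain ⟨h1, h2⟩ := Subgroup.mem_inf.1 (S.x_fix hu)
    exact Subgroup.mem_inf.2 ⟨(Subgroup.mem_normalizer_iff.1 (C.torus_normalizes _
      (⟨_, rfl⟩ : S.tt i c ∈ C.R.torus.range)) _).1 h1, mul_mem (mul_mem hT h2) (inv_mem hT)⟩
  obtain ⟨w, hw, e⟩ := S.exists_x hy
  have h3 : S.tt i c * S.x k u * (S.tt i c)⁻¹ = Xc C (S.L k) fun j =>
      (C.R.torusChar (par S.E (S.L i) c) (C.R.α (D.simple j.val)) : F) * u ^ S.E j :=
    torus_conj_Xc C _ _ _
  have h4 := Xc_lead C (S.comm k) (e.trans h3)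
  simp only [Setup.E, S.e_lead k, pow_zero, pow_one] at h4
  change w = (S.chi i k c : F) * u at h4
  rw [← h4]
  exact ⟨hw, e.symm⟩

theorem Setup.chi_mem (S : Setup g p) {i k : I} {c : Fˣ} (hc : (c : F) ∈ S.Fld i) :
    (S.chi i k c : F) ∈ S.Fld k := by
  simpa using (S.tt_conj (k := k) hc (one_mem _)).1

theorem Setup.chi_self (S : Setup g p) (i : I) (c : Fˣ) : S.chi i i c = c ^ 2 := S.par_char_sq i c

namespace Std

variable {ψ : ↥G1 ≃* ↥G1} (A : Std S ψ)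

theorem f_add {i : I} {t u : F} (ht : t ∈ S.Fld i) (hu : u ∈ S.Fld i) :
    A.f i (t + u) = A.f i t + A.f i u := by
  refine S.x_lead (i := i) ?_
  rw [← A.pos i _ (add_mem ht hu), show S.x i (t + u) = _ from X_add C (S.ok i) t u,
    app_mul ψ (S.x_G1 ht) (S.x_G1 hu), A.pos i t ht, A.pos i u hu]
  exact (X_add C (S.ok i) _ _).symm

theorem f_zero (i : I) : A.f i 0 = 0 :=
  add_eq_left.1 ((A.f_add (zero_mem _) (zero_mem (S.Fld i))).symm.trans (by rw [add_zero]))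

theorem f_neg {i : I} {t : F} (ht : t ∈ S.Fld i) : A.f i (-t) = -A.f i t :=
  eq_neg_of_add_eq_zero_left (by rw [← A.f_add (neg_mem ht) ht, neg_add_cancel, A.f_zero])

theorem f_inj {i : I} {t u : F} (ht : t ∈ S.Fld i) (hu : u ∈ S.Fld i) (e : A.f i t = A.f i u) :
    t = u :=
  S.x_lead (app_inj ψ (S.x_G1 ht) (S.x_G1 hu) (by rw [A.pos i t ht, A.pos i u hu, e]))

theorem f_ne_zero {i : I} {t : F} (ht : t ∈ S.Fld i) (h : t ≠ 0) : A.f i t ≠ 0 := fun e =>
  h (A.f_inj ht (zero_mem _) (e.trans (A.f_zero i).symm))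

theorem gg_zero (i : I) : A.gg i 0 = 0 := by
  refine S.xn_eq_one (i := i) ?_
  rw [← A.neg i 0 (zero_mem _), show S.xn i 0 = 1 from Xn_zero C (S.ok i), app_one]

theorem gg_eq {i : I} {a : F} (ha : a ∈ S.Fld i) (h0 : a ≠ 0) :
    A.gg i (-a⁻¹) = -(A.f i a)⁻¹ := by
  obtain ⟨s, hs⟩ := Finite.surjective_of_injective
    (f := fun t : ↥(S.Fld i) => (⟨A.f i t, A.f_mem i t t.2⟩ : ↥(S.Fld i)))
    (fun t u e => Subtype.ext (A.f_inj t.2 u.2 (congrArg Subtype.val e))) ⟨1, one_mem _⟩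
  have hs' : A.f i s = 1 := congrArg Subtype.val hs
  obtain ⟨v, hv, e⟩ := S.nn_conj ha h0 s.2
  have h1 := congrArg (app ψ) e
  have hm : S.nn i a ∈ G1 := S.nn_G1 ha
  have hb : -a⁻¹ ∈ S.Fld i := neg_mem (inv_mem ha)
  rw [app_conj ψ hm (S.x_G1 s.2), show S.nn i a = _ from N_eq C (S.ok i) a,
    app_mul ψ (mul_mem (S.x_G1 ha) (S.xn_G1 hb)) (S.x_G1 ha), app_mul ψ (S.x_G1 ha) (S.xn_G1 hb),
    A.pos i a ha, A.neg i _ hb, A.pos i s s.2, A.neg i v hv, hs'] at h1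
  exact S.rankOne_rel i (A.f_mem i a ha) (A.gg_mem i _ hb) (A.gg_mem i v hv) h1

theorem app_nn {i : I} {a : F} (ha : a ∈ S.Fld i) (h0 : a ≠ 0) :
    app ψ (S.nn i a) = S.nn i (A.f i a) := by
  have hb : -a⁻¹ ∈ S.Fld i := neg_mem (inv_mem ha)
  rw [show S.nn i a = _ from N_eq C (S.ok i) a,
    app_mul ψ (mul_mem (S.x_G1 ha) (S.xn_G1 hb)) (S.x_G1 ha), app_mul ψ (S.x_G1 ha) (S.xn_G1 hb),
    A.pos i a ha, A.neg i _ hb, A.gg_eq ha h0]
  exact (N_eq C (S.ok i) _).symm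

/-- The normalised parameter map of an orbit. -/
def σfun (i : I) (t : F) : F := A.f i t / A.f i 1

theorem σfun_mem {i : I} {t : F} (ht : t ∈ S.Fld i) : A.σfun i t ∈ S.Fld i :=
  div_mem (A.f_mem i t ht) (A.f_mem i 1 (one_mem _))

theorem σfun_one (i : I) : A.σfun i 1 = 1 := div_self (A.f_ne_zero (one_mem _) one_ne_zero)

theorem σfun_zero (i : I) : A.σfun i 0 = 0 := by simp [σfun, A.f_zero]

theorem σfun_add {i : I} {t u : F} (ht : t ∈ S.Fld i) (hu : u ∈ S.Fld i) :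
    A.σfun i (t + u) = A.σfun i t + A.σfun i u := by rw [σfun, A.f_add ht hu, add_div]; rfl

theorem σfun_ne_zero {i : I} {t : F} (ht : t ∈ S.Fld i) (h : t ≠ 0) : A.σfun i t ≠ 0 :=
  div_ne_zero (A.f_ne_zero ht h) (A.f_ne_zero (one_mem _) one_ne_zero)

theorem app_tt {i : I} {c : Fˣ} (hc : (c : F) ∈ S.Fld i) :
    app ψ (S.tt i c) = S.tt i (Units.mk0 (A.σfun i c) (A.σfun_ne_zero hc c.ne_zero)) := by
  have hf1 := A.f_ne_zero (one_mem (S.Fld i)) one_ne_zero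
  rw [S.tt_eq, ← N_one C (S.ok i), app_mul ψ (S.nn_G1 hc) (G1.inv_mem (S.nn_G1 (one_mem _))),
    app_inv ψ (S.nn_G1 (one_mem _)), A.app_nn hc c.ne_zero, A.app_nn (one_mem _) one_ne_zero,
    show S.nn i (A.f i c) = _ from
      N_torus C (S.ok i) (Units.mk0 _ (A.f_ne_zero hc c.ne_zero)),
    show S.nn i (A.f i 1) = _ from N_torus C (S.ok i) (Units.mk0 _ hf1),
    mul_inv_rev, ← mul_assoc, mul_inv_cancel_right, ← T_inv, ← T_mul]
  refine congrArg (T C S.E (S.L i)) (Units.ext ?_)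
  simp [σfun, div_eq_mul_inv]

theorem scalar_rel (i k : I) {c : Fˣ} (hc : (c : F) ∈ S.Fld i) {u : F} (hu : u ∈ S.Fld k) :
    A.f k ((S.chi i k c : F) * u) =
      (S.chi i k (Units.mk0 (A.σfun i c) (A.σfun_ne_zero hc c.ne_zero)) : F) * A.f k u := by
  obtain ⟨hm, h1⟩ := S.tt_conj (k := k) hc hu
  have h2 := congrArg (app ψ) h1
  rw [app_conj ψ (S.tt_G1 hc) (S.x_G1 hu), A.pos k u hu, A.pos k _ hm, A.app_tt hc,
    (S.tt_conj (k := k) (i := i) (A.σfun_mem hc) (A.f_mem k u hu)).2] at h2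
  exact (S.x_lead h2).symm

theorem σfun_sq_mul {i : I} {c u : F} (hc : c ∈ S.Fld i) (hu : u ∈ S.Fld i) :
    A.σfun i (c ^ 2 * u) = A.σfun i c ^ 2 * A.σfun i u := by
  by_cases h0 : c = 0
  · simp [σfun, h0, A.f_zero]
  · have h := A.scalar_rel i i (c := Units.mk0 c h0) hc hu
    rw [S.chi_self, S.chi_self] at h
    simp only [Units.val_pow_eq_pow_val, Units.val_mk0] at h
    rw [σfun, h, mul_div_assoc]
    rfl

theorem σfun_mul {i : I} {c u : F} (hc : c ∈ S.Fld i) (hu : u ∈ S.Fld i) :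
    A.σfun i (c * u) = A.σfun i c * A.σfun i u := by
  have hsq : ∀ x ∈ S.Fld i, A.σfun i (x ^ 2) = A.σfun i x ^ 2 := fun x hx => by
    have h := A.σfun_sq_mul hx (one_mem (S.Fld i))
    rwa [mul_one, A.σfun_one, mul_one] at h
  by_cases h2 : (2 : F) = 0
  · obtain ⟨e, he⟩ := Finite.surjective_of_injective
      (f := fun x : ↥(S.Fld i) => (⟨(x : F) ^ 2, pow_mem x.2 2⟩ : ↥(S.Fld i)))
      (fun x y e => Subtype.ext (sub_eq_zero.1 (mul_self_eq_zero.1 (by
        have e' : (x : F) ^ 2 = (y : F) ^ 2 := congrArg Subtype.val e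
        linear_combination e' + ((y : F) ^ 2 - (x : F) * (y : F)) * h2)))) ⟨c, hc⟩
    obtain rfl : (e : F) ^ 2 = c := congrArg Subtype.val he
    rw [A.σfun_sq_mul e.2 hu, hsq _ e.2]
  · have hcu := mul_mem hc hu
    have h := A.σfun_sq_mul (add_mem hc hu) (one_mem (S.Fld i))
    rw [mul_one, A.σfun_one, mul_one, show (c + u) ^ 2 = c ^ 2 + (c * u + c * u) + u ^ 2 by ring,
      A.σfun_add (add_mem (pow_mem hc 2) (add_mem hcu hcu)) (pow_mem hu 2),
      A.σfun_add (pow_mem hc 2) (add_mem hcu hcu), A.σfun_add hcu hcu, A.σfun_add hc hu,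
      hsq c hc, hsq u hu] at h
    have h' : (2 : F) * (A.σfun i (c * u) - A.σfun i c * A.σfun i u) = 0 := by linear_combination h
    exact sub_eq_zero.1 ((mul_eq_zero.1 h').resolve_left h2)

theorem σfun_inv {i : I} {c : F} (hc : c ∈ S.Fld i) : A.σfun i c⁻¹ = (A.σfun i c)⁻¹ := by
  by_cases h0 : c = 0
  · simp [h0, A.σfun_zero]
  · refine eq_inv_of_mul_eq_one_left ?_
    rw [← A.σfun_mul (inv_mem hc) hc, inv_mul_cancel₀ h0, A.σfun_one]

/-- Two orbits joined by a single bond have the same field automorphism. -/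
theorem link {i k : I} (hchi : ∀ c : Fˣ, (c : F) ∈ S.Fld i → S.chi i k c = c⁻¹) {t : F}
    (ht : t ∈ S.Fld i) : A.σfun k t = A.σfun i t := by
  by_cases h0 : t = 0
  · simp [h0, A.σfun_zero]
  · set c : Fˣ := (Units.mk0 t h0)⁻¹ with hcdef
    have hc : (c : F) ∈ S.Fld i := by simpa [hcdef] using inv_mem ht
    have h := A.scalar_rel i k hc (one_mem (S.Fld k))
    rw [hchi _ hc, hchi _ (A.σfun_mem hc), mul_one] at h
    simp only [hcdef, Units.val_inv_eq_inv_val, Units.val_mk0, inv_inv] at h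
    rw [A.σfun_inv ht, inv_inv] at h
    exact (div_eq_iff (A.f_ne_zero (one_mem _) one_ne_zero)).2 h

/-- The leading coefficient of an orbit. -/
noncomputable def lead (i : I) : Fˣ := Units.mk0 (A.f i 1) (A.f_ne_zero (one_mem _) one_ne_zero)

theorem f_eq (i : I) (t : F) : A.f i t = (A.lead i : F) * A.σfun i t := by
  rw [σfun, lead, Units.val_mk0, mul_div_cancel₀]
  exact A.f_ne_zero (one_mem _) one_ne_zero

theorem gg_formula {i : I} {t : F} (ht : t ∈ S.Fld i) :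
    A.gg i t = ((A.lead i)⁻¹ : Fˣ) * A.σfun i t := by
  by_cases h0 : t = 0
  · subst h0; simp [A.gg_zero, A.σfun_zero]
  · have h := A.gg_eq (a := -t⁻¹) (neg_mem (inv_mem ht)) (by simpa using h0)
    rw [inv_neg, inv_inv, neg_neg, A.f_neg (inv_mem ht), inv_neg, neg_neg] at h
    rw [h, A.f_eq i t⁻¹, A.σfun_inv ht, mul_inv, inv_inv, Units.val_inv_eq_inv_val]

/-- The field automorphism of an orbit whose parameters run over the whole field. -/
noncomputable def σ (i : I) (hi : ∀ t, t ∈ S.Fld i) : F ≃+* F :=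
  RingEquiv.ofBijective
    ({ toFun := A.σfun i
       map_one' := A.σfun_one i
       map_mul' := fun a b => A.σfun_mul (hi a) (hi b)
       map_zero' := A.σfun_zero i
       map_add' := fun a b => A.σfun_add (hi a) (hi b) } : F →+* F)
    (Finite.injective_iff_bijective.1 fun a b e => A.f_inj (hi a) (hi b)
      ((div_left_inj' (A.f_ne_zero (one_mem _) one_ne_zero)).1 e))

theorem σ_apply (i : I) (hi : ∀ t, t ∈ S.Fld i) (t : F) : A.σ i hi t = A.σfun i t := rfl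

end Std

end CfsgLib.TwistAut
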