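import Cfsg.Agent.Lib.TwistAut.Normalize
import Cfsg.Agent.Lib.TwistAut.Orbit

/-!
A twisted group whose orbits consist of pairwise orthogonal fundamental roots: the orbit groups and
their rank one relation.
-/

set_option autoImplicit false

namespace CfsgLib.TwistAut

open Cfsg.Lie CfsgLib.ChevStr CfsgLib.Twisted
open scoped MatrixGroups

variable {D : ChevalleyDatum} {F : Type*} [Field F]

/-- The elements fixed by the power map with exponent `Q = p ^ m`. -/
def powFld (p : ℕ) [Fact p.Prime] [CharP F p] (m : ℕ) : Subfield F :=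
  RingHom.eqLocusField (iterateFrobenius F p m) (RingHom.id F)

theorem mem_powFld (p : ℕ) [Fact p.Prime] [CharP F p] (m : ℕ) {t : F} :
    t ∈ powFld p m ↔ t ^ p ^ m = t := Iff.rfl

variable {C : ChevCore D F} {φ : Frob C} {I : Type} {O : OrbitData C.R φ.ρ I}
  {G1 : Subgroup (GL D.Idx F)} {d : ℕ}

/-- The data of a twisted group with orthogonal orbits. -/
structure Setup [Fintype F] (g : Gens φ O G1 d) (p : ℕ) [Fact p.Prime] [CharP F p] where
  lead : I → Fin D.rank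
  rest : I → List (Fin D.rank)
  e : Fin D.rank → ℕ
  m : I → ℕ
  orb : Fin D.rank → I
  e_lead : ∀ i, e (lead i) = 0
  mem_J : ∀ i, ∀ j ∈ lead i :: rest i, j ∈ O.J i
  orb_eq : ∀ i, ∀ j ∈ lead i :: rest i, orb j = i
  comm : ∀ i, (lead i :: rest i).Pairwise fun a b => CommPair D (D.simple a.val) (D.simple b.val)
  orth : ∀ i, ∀ j ∈ rest i, D.cartan j.val (D.simple (lead i).val) = 0
  wneg : ∀ i, ∀ j ∈ O.J i,
    D.IsNegRoot (C.hR.wordPerm (lead i :: rest i) ⟨D.simple j.val, C.R.simple_lt j⟩)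
  mem : ∀ i, ∀ t : F, t ^ p ^ m i = t →
    X C (fun j => p ^ e j) (lead i :: rest i) t ∈ G1 ∧
      Xn C (fun j => p ^ e j) (lead i :: rest i) t ∈ G1
  gen_le : ∀ K : Subgroup (GL D.Idx F), (∀ i, ∀ t : F, t ^ p ^ m i = t →
    X C (fun j => p ^ e j) (lead i :: rest i) t ∈ K ∧
      Xn C (fun j => p ^ e j) (lead i :: rest i) t ∈ K) → G1 ≤ K
  card_in : ∀ i, Nat.card ↥(φ.fixU (inRoots C.R (O.J i))) = Nat.card {t : F // t ^ p ^ m i = t}
  opp : Opp C O G1

namespace Setup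

variable [Fintype F] {g : Gens φ O G1 d} {p : ℕ} [Fact p.Prime] [CharP F p] (S : Setup g p)

/-- The exponents. -/
abbrev E (j : Fin D.rank) : ℕ := p ^ S.e j

/-- The nodes of an orbit. -/
abbrev L (i : I) : List (Fin D.rank) := S.lead i :: S.rest i

/-- The field of parameters of an orbit. -/
abbrev Fld (i : I) : Subfield F := powFld p (S.m i)

/-- The positive element of an orbit. -/
abbrev x (i : I) (t : F) : GL D.Idx F := X C S.E (S.L i) t

/-- The negative element of an orbit. -/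
abbrev xn (i : I) (t : F) : GL D.Idx F := Xn C S.E (S.L i) t

/-- The monomial element of an orbit. -/
abbrev nn (i : I) (t : F) : GL D.Idx F := N C S.E (S.L i) t

/-- The torus element of an orbit. -/
abbrev tt (i : I) (z : Fˣ) : GL D.Idx F := T C S.E (S.L i) z

theorem ok (i : I) : OrbOK (F := F) S.E (S.L i) where
  comm := S.comm i
  add j t u := add_pow_expChar_pow t u p (S.e j)
  negone j := neg_one_pow_expChar p (S.e j)
  ne_zero j := pow_ne_zero _ (Fact.out : p.Prime).ne_zero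

theorem x_G1 {i : I} {t : F} (ht : t ∈ S.Fld i) : S.x i t ∈ G1 := (S.mem i t ht).1

theorem xn_G1 {i : I} {t : F} (ht : t ∈ S.Fld i) : S.xn i t ∈ G1 := (S.mem i t ht).2

theorem lead_in (i : I) : ∀ j ∈ S.L i, D.simple j.val ∈ inRoots C.R (O.J i) := fun j hj =>
  ⟨C.R.simple_pos j, suppIn_simple (S.mem_J i j hj)⟩

theorem neg_in (i : I) : ∀ j ∈ S.L i, D.neg (D.simple j.val) ∈ negRootsIn C.R (O.J i) := fun j hj =>
  ⟨(C.R.isNeg_neg_iff (C.R.simple_lt j)).2 (C.R.simple_pos j), fun m hm => by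
    rw [C.R.α_neg _ (C.R.simple_lt j), Pi.neg_apply, suppIn_simple (S.mem_J i j hj) m hm, neg_zero]⟩

include S

theorem x_fix {i : I} {t : F} (ht : t ∈ S.Fld i) : S.x i t ∈ φ.fixU (inRoots C.R (O.J i)) :=
  Subgroup.mem_inf.2 ⟨Xc_mem C _ (S.lead_in i) _, g.le_fixed (S.x_G1 ht)⟩

theorem xn_fix {i : I} {t : F} (ht : t ∈ S.Fld i) : S.xn i t ∈ φ.fixU (negRootsIn C.R (O.J i)) :=
  Subgroup.mem_inf.2 ⟨Xn_mem C _ _ (S.neg_in i) t, g.le_fixed (S.xn_G1 ht)⟩

theorem x_lead {i : I} {t u : F} (h : S.x i t = S.x i u) : t = u := by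
  have := Xc_lead C (S.comm i) h
  simpa [E, S.e_lead i] using this

theorem x_eq_one {i : I} {t : F} (h : S.x i t = 1) : t = 0 :=
  S.x_lead (h.trans (X_zero C (S.ok i)).symm)

theorem xn_eq_one {i : I} {t : F} (h : S.xn i t = 1) : t = 0 := by
  by_contra ht
  refine C.wordGL_neg_ne_one (S.lead i) ht
    (w := (S.rest i).map fun j => (D.neg (D.simple j.val), t ^ S.E j)) ?_ ?_
  · intro q hq
    obtain ⟨j, hj, rfl⟩ := List.mem_map.1 hq
    exact ⟨(C.R.isNeg_neg_iff (C.R.simple_lt j)).2 (C.R.simple_pos j),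
      (((List.pairwise_cons.1 (S.comm i)).1 j hj).2.2 _ (List.mem_cons_of_mem _ (by simp)) _
        (List.mem_cons_of_mem _ (by simp))).1⟩
  · rw [← h, C.wordGL_cons, ChevCore.wordGL, List.map_map]
    simp [Xn, oprod, E, S.e_lead i]
    rfl

theorem exists_x {i : I} {y : GL D.Idx F} (hy : y ∈ φ.fixU (inRoots C.R (O.J i))) :
    ∃ t ∈ S.Fld i, S.x i t = y := by
  obtain ⟨t, ht⟩ := ((Nat.bijective_iff_injective_and_card
    (fun t : {t : F // t ^ p ^ S.m i = t} =>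
      (⟨_, S.x_fix (i := i) t.2⟩ : ↥(φ.fixU (inRoots C.R (O.J i)))))).2
    ⟨fun a b e => Subtype.ext (S.x_lead (congrArg Subtype.val e)), (S.card_in i).symm⟩).2 ⟨y, hy⟩
  exact ⟨t, t.2, congrArg Subtype.val ht⟩

theorem xn_inj {i : I} {t u : F} (h : S.xn i t = S.xn i u) : t = u := by
  have hok := S.ok i
  have h1 : S.xn i (-u) * S.xn i u = 1 ∧ S.xn i (t + -u) = S.xn i t * S.xn i (-u) := by
    have key : ∀ a b : F, S.xn i (a + b) = S.xn i a * S.xn i b := fun a b => by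
      show Xn C _ _ _ = Xn C _ _ _ * Xn C _ _ _
      rw [Xn, Xn, Xn, ← pair_mul C hok (fun j => xn_mem_rk1 C j _) (fun j => xn_mem_rk1 C j _)]
      refine congrArg (oprod _) (funext fun j => ?_)
      rw [hok.add j, C.xGL_add]
    exact ⟨by rw [← key, neg_add_cancel]; exact Xn_zero C hok, key _ _⟩
  have h2 : S.xn i (t + -u) = 1 := by
    rw [h1.2, h, eq_inv_of_mul_eq_one_left h1.1, mul_inv_cancel]
  exact eq_of_sub_eq_zero (by rw [sub_eq_add_neg]; exact S.xn_eq_one h2)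

theorem exists_xn {i : I} {y : GL D.Idx F} (hy : y ∈ φ.fixU (negRootsIn C.R (O.J i))) :
    ∃ t ∈ S.Fld i, S.xn i t = y := by
  obtain ⟨t, ht⟩ := ((Nat.bijective_iff_injective_and_card
    (fun t : {t : F // t ^ p ^ S.m i = t} =>
      (⟨_, S.xn_fix (i := i) t.2⟩ : ↥(φ.fixU (negRootsIn C.R (O.J i)))))).2
    ⟨fun a b e => Subtype.ext (S.xn_inj (congrArg Subtype.val e)),
      by rw [card_negIn g i, S.card_in i]⟩).2 ⟨y, hy⟩
  exact ⟨t, t.2, congrArg Subtype.val ht⟩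

theorem nn_G1 {i : I} {t : F} (ht : t ∈ S.Fld i) : S.nn i t ∈ G1 := by
  rw [show S.nn i t = _ from N_eq C (S.ok i) t]
  exact mul_mem (mul_mem (S.x_G1 ht) (S.xn_G1 (neg_mem (inv_mem ht)))) (S.x_G1 ht)

theorem ss_G1 (i : I) : SS C (S.L i) ∈ G1 := by
  rw [← N_one C (S.ok i)]
  exact S.nn_G1 (one_mem _)

theorem tt_eq (i : I) (z : Fˣ) : S.tt i z = S.nn i z * (SS C (S.L i))⁻¹ := by
  show T C _ _ z = _
  rw [show S.nn i z = _ from N_torus C (S.ok i) z, mul_inv_cancel_right]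

theorem tt_G1 {i : I} {z : Fˣ} (hz : (z : F) ∈ S.Fld i) : S.tt i z ∈ G1 := by
  rw [S.tt_eq]
  exact mul_mem (S.nn_G1 hz) (inv_mem (S.ss_G1 i))

theorem w_mem (i : I) : C.hR.wordPerm (S.L i) ∈ C.hR.weylSub (O.J i) :=
  (C.hR.weylSub _).list_prod_mem fun w hw => by
    obtain ⟨j, hj, rfl⟩ := List.mem_map.1 hw
    exact C.hR.sPerm_mem_sub (S.mem_J i j hj)

theorem wJ_eq (i : I) : g.wJ i = C.hR.wordPerm (S.L i) := g.wJ_eq i (S.w_mem i) (S.wneg i)

theorem nn_conj {i : I} {c : F} (hc : c ∈ S.Fld i) (hc0 : c ≠ 0) {s : F} (hs : s ∈ S.Fld i) :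
    ∃ v ∈ S.Fld i, S.nn i c * S.x i s * (S.nn i c)⁻¹ = S.xn i v := by
  have hn := g.le_fixed (S.nn_G1 hc)
  have hy : S.nn i c * S.x i s * (S.nn i c)⁻¹ ∈ φ.fixU (negRootsIn C.R (O.J i)) := by
    refine Subgroup.mem_inf.2 ⟨?_, mul_mem (mul_mem hn (g.le_fixed (S.x_G1 hs))) (inv_mem hn)⟩
    have h1 := conj_in (SS_moves C (S.L i)) (S.w_mem i) (S.wneg i) _ (Xc_mem C _ (S.lead_in i)
      (fun j => s ^ S.E j))
    have h2 := (Subgroup.mem_normalizer_iff.1 (C.torus_normalizes (negRootsIn C.R (O.J i))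
      (⟨_, rfl⟩ : S.tt i (Units.mk0 c hc0) ∈ C.R.torus.range)) _).1 h1
    rw [show S.nn i c = _ from N_torus C (S.ok i) (Units.mk0 c hc0)]
    simpa [mul_assoc, X] using h2
  obtain ⟨v, hv, e⟩ := S.exists_xn hy
  exact ⟨v, hv, e.symm⟩

theorem par_char_sq (i : I) (z : Fˣ) :
    C.R.torusChar (par S.E (S.L i) z) (C.R.α (D.simple (S.lead i).val)) = z ^ 2 := by
  have hs := C.R.simple_lt (S.lead i)
  have key : ∀ L : List (Fin D.rank), (∀ j ∈ L, D.cartan j.val (D.simple (S.lead i).val) = 0) →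
      C.R.torusChar (par S.E L z) (C.R.α (D.simple (S.lead i).val)) = 1 := by
    intro L hL
    induction L with
    | nil => simp [par, RootData.torusChar]
    | cons a L ih =>
      simp only [par, List.map_cons, List.prod_cons] at ih ⊢
      rw [C.R.torusChar_mul, C.R.torusChar_single _ _ hs, hL a (List.mem_cons_self ..),
        zpow_zero, one_mul, ih fun j hj => hL j (List.mem_cons_of_mem _ hj)]
  have := key (S.rest i) (S.orth i)
  simp only [par, List.map_cons, List.prod_cons] at this ⊢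
  rw [C.R.torusChar_mul, C.R.torusChar_single _ _ hs, this, C.hR.cartan_self, mul_one]
  simp [E, S.e_lead i, zpow_ofNat]

/-- The parameters of a product `x(a) x₋(b) x(a)` turning the positive orbit group negative. -/
theorem rankOne_rel (i : I) {a b v : F} (ha : a ∈ S.Fld i) (hb' : b ∈ S.Fld i) (hv' : v ∈ S.Fld i)
    (h : S.x i a * S.xn i b * S.x i a * S.x i 1 * (S.x i a * S.xn i b * S.x i a)⁻¹ = S.xn i v) :
    b = -a⁻¹ := by
  classical
  have hok := S.ok i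
  have hadd : ∀ t u : F, S.x i (t + u) = S.x i t * S.x i u := X_add C hok
  have hinvx : ∀ t : F, (S.x i t)⁻¹ = S.x i (-t) := X_inv C hok
  have hVU : ∀ t u : F, S.x i t = S.xn i u → t = 0 := fun t u e => S.x_eq_one
    ((Subgroup.eq_bot_iff_forall _).1 C.borel_inf_negUnipotent _ (Subgroup.mem_inf.2
      ⟨le_sup_left (b := D.diagonalSubgroup F) (X_mem_pos C _ _ t), by rw [e]; exact Xn_mem_neg C _ _ u⟩))
  have hb : b ≠ 0 := by
    rintro rfl
    rw [show S.xn i 0 = 1 from Xn_zero C hok, mul_one, ← hadd, ← hadd, hinvx, ← hadd] at h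
    exact one_ne_zero (hVU 1 v (by rwa [show a + a + 1 + -(a + a) = (1 : F) by ring] at h))
  set α := a + b⁻¹ with hα
  obtain ⟨u, -, hu⟩ := S.nn_conj (c := -b⁻¹) (neg_mem (inv_mem hb')) (by simpa using hb)
    (one_mem (S.Fld i))
  have hu0 : u ≠ 0 := by
    rintro rfl
    rw [show S.xn i 0 = 1 from Xn_zero C hok, mul_inv_eq_one, mul_eq_left] at hu
    exact one_ne_zero (S.x_eq_one hu)
  rw [show S.xn i b = _ from Xn_eq C hok hb] at h
  have hg : S.x i a * (S.x i b⁻¹ * S.nn i (-b⁻¹) * S.x i b⁻¹) * S.x i a =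
      S.x i α * S.nn i (-b⁻¹) * S.x i α := by
    rw [show S.x i a * (S.x i b⁻¹ * S.nn i (-b⁻¹) * S.x i b⁻¹) * S.x i a =
      S.x i a * S.x i b⁻¹ * S.nn i (-b⁻¹) * (S.x i b⁻¹ * S.x i a) by group,
      ← hadd, ← hadd, add_comm b⁻¹ a]
  change S.x i a * (S.x i b⁻¹ * S.nn i (-b⁻¹) * S.x i b⁻¹) * S.x i a * _ * _ = _ at h
  rw [hg] at h
  have hxα : S.x i α * S.x i 1 * (S.x i α)⁻¹ = S.x i 1 := by
    rw [mul_inv_eq_iff_eq_mul, ← hadd, ← hadd, add_comm]
  have h' : S.x i α * S.xn i u * (S.x i α)⁻¹ = S.xn i v := by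
    rw [← hu, ← h]
    conv_lhs => rw [← hxα]
    group
  have hv : v ≠ 0 := by
    rintro rfl
    rw [show S.xn i 0 = 1 from Xn_zero C hok, mul_inv_eq_one, mul_eq_left] at h'
    exact hu0 (S.xn_eq_one h')
  rw [mul_inv_eq_iff_eq_mul, show S.xn i u = _ from Xn_eq C hok hu0,
    show S.xn i v = _ from Xn_eq C hok hv] at h'
  set T' : F → GL D.Idx F := fun z => if hz : z = 0 then 1 else S.tt i (Units.mk0 z hz) with hT'
  have hn : ∀ z : F, z ≠ 0 → N C S.E (S.L i) z = T' z * SS C (S.L i) := fun z hz => by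
    simp only [T', dif_neg hz]
    exact N_torus C hok (Units.mk0 z hz)
  have hTd : ∀ z : F, T' z ∈ D.diagonalSubgroup F := fun z => by
    simp only [T']
    split_ifs
    exacts [one_mem _, by rw [C.diagonalSubgroup_eq]; exact ⟨_, rfl⟩]
  rw [hn _ (by simpa using hu0), hn _ (by simpa using hv)] at h'
  have hinv : ∀ z, S.x i z ∈ C.Ucl (C.hR.invRoots (C.hR.wordPerm (S.L i))) := fun z =>
    Xc_mem C _ (fun j hj => (C.hR.mem_invRoots (s := C.pRoot j)).2
      ⟨C.R.simple_pos j, S.wneg i j (S.mem_J i j hj)⟩) _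
  have hxB : ∀ z, S.x i z ∈ D.borelSubgroup F := fun z =>
    le_sup_left (b := D.diagonalSubgroup F) (X_mem_pos C _ _ z)
  have hTB : ∀ z, T' z ∈ D.borelSubgroup F := fun z =>
    le_sup_right (a := D.posUnipotent F) (hTd z)
  obtain ⟨-, -, huniq⟩ := C.normalForm_unique
    (b := S.x i (α + u⁻¹) * T' (-u⁻¹)) (b' := S.x i v⁻¹ * T' (-v⁻¹))
    (n := SS C (S.L i)) (n' := SS C (S.L i)) (u := S.x i u⁻¹) (u' := S.x i (v⁻¹ + α))
    (mul_mem (hxB _) (hTB _)) (mul_mem (hxB _) (hTB _))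
    (SS_mono C _) (SS_mono C _) (SS_moves C _) (SS_moves C _) (hinv _) (hinv _)
    (by rw [hadd α u⁻¹, hadd v⁻¹ α]; simpa [mul_assoc] using h')
  obtain ⟨hbb, huu⟩ := huniq rfl
  have h1 : u⁻¹ = v⁻¹ + α := S.x_lead huu
  have h2 : α + u⁻¹ = v⁻¹ := by
    have h3 : (S.x i v⁻¹)⁻¹ * S.x i (α + u⁻¹) = T' (-v⁻¹) * (T' (-u⁻¹))⁻¹ := by
      rw [eq_mul_inv_iff_mul_eq, mul_assoc, hbb, inv_mul_cancel_left]
    have h4 := (Subgroup.eq_bot_iff_forall _).1 C.posUnipotent_inf_diagonal _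
      (Subgroup.mem_inf.2 ⟨mul_mem (inv_mem (X_mem_pos C _ _ _)) (X_mem_pos C _ _ _),
        h3 ▸ mul_mem (hTd _) (inv_mem (hTd _))⟩)
    exact (S.x_lead (inv_mul_eq_one.1 h4)).symm
  have hα0 : α = 0 := by
    have h22 : (2 : F) * α = 0 := by linear_combination h2 - h1
    rcases mul_eq_zero.1 h22 with h2z | h
    · have hTeq : T' (-u⁻¹) = T' (-v⁻¹) := by
        rw [h2] at hbb
        exact mul_left_cancel hbb
      simp only [T', dif_neg (show -u⁻¹ ≠ 0 by simpa using hu0),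
        dif_neg (show -v⁻¹ ≠ 0 by simpa using hv)] at hTeq
      have h5 : ∀ z : Fˣ, S.tt i z * S.x i 1 * (S.tt i z)⁻¹ =
          Xc C (S.L i) fun j =>
            (C.R.torusChar (par S.E (S.L i) z) (C.R.α (D.simple j.val)) : F) * 1 ^ S.E j :=
        fun z => torus_conj_Xc C _ _ _
      have h6 := h5 (Units.mk0 (-u⁻¹) (by simpa using hu0))
      rw [hTeq, h5] at h6
      have h7 := Xc_lead C (S.comm i) h6
      simp only [one_pow, mul_one, S.par_char_sq i, Units.val_pow_eq_pow_val, Units.val_mk0] at h7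
      have h8 : α * α = 0 := by
        linear_combination -(u⁻¹ - v⁻¹ + α) * h1 - h7 + v⁻¹ * (v⁻¹ - u⁻¹) * h2z
      exact mul_self_eq_zero.1 h8
    · exact h
  have h7 : a = -b⁻¹ := by linear_combination hα0 + 0 * hα
  rw [h7, inv_neg, inv_inv, neg_neg]

end Setup

end CfsgLib.TwistAut
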