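import Cfsg.Agent.Lib.TwistAut.SubRatE6

/-! The rational points of ²E₆: basic elements and the top of the unipotent group. -/

set_option autoImplicit false
set_option linter.unusedSectionVars false

namespace CfsgLib.TwistAut.SubE6

open Cfsg.Lie CfsgLib.ChevStr CfsgLib.Twisted
open scoped MatrixGroups

variable {K : Type*} [Field K] [Fintype K] {p n : ℕ} [Fact p.Prime] [CharP K p]
  (hn : Fintype.card K = (p ^ n) * (p ^ n)) (hq : 2 ≤ p ^ n)

/-- The product of the fundamental root elements of an orbit. -/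
noncomputable def fi (i : Fin 4) : GL chevE6.Idx K :=
  (coreE6 K).wordGL ((rootsE6 i).map fun a => (a, (1 : K)))

variable (K) in
/-- The monomial element of an orbit. -/
noncomputable def nO (i : Fin 4) : GL chevE6.Idx K := SS (coreE6 K) (e6Lead i :: e6Rest i)

theorem nO_moves (i : Fin 4) : (coreE6 K).Moves (nO K i) (wE i) := SS_moves (coreE6 K) _

theorem nO_moves_inv (i : Fin 4) : (coreE6 K).Moves (nO K i)⁻¹ (wE i)⁻¹ :=
  ChevCore.Moves.inv (coreE6 K) (SS_mono (coreE6 K) _) (nO_moves i)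

theorem mem_htSet {k : ℤ} {r : ℕ} :
    r ∈ htSet (coreE6 K) k ↔ chevE6.IsPosRoot r ∧ k ≤ ht r := Iff.rfl

include hn hq

theorem stable_ht (k : ℤ) : (frobE6 K p n).Stable (htSet (coreE6 K) k) := fun r hr =>
  ⟨(frobE6 K p n).ρ_pos r hr.1, by
    show k ≤ ht (rhoE6 r).val
    rw [(pair_tab r).2.1]
    exact hr.2⟩

theorem level_rho (k : ℤ) (r : Fin chevE6.nroots) (hr : (r : ℕ) ∈ htSet (coreE6 K) k)
    (hr' : (r : ℕ) ∉ htSet (coreE6 K) (k + 1)) : (rhoE6 r : ℕ) ∉ htSet (coreE6 K) (k + 1) :=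
  fun h => hr' ⟨hr.1, by
    show k + 1 ≤ ht r.val
    rw [← (pair_tab r).2.1]
    exact h.2⟩

theorem Ucl_le_pos {S : Set ℕ} (hS : ∀ r ∈ S, chevE6.IsPosRoot r) :
    (coreE6 K).Ucl S ≤ chevE6.posUnipotent K :=
  (coreE6 K).Ucl_le fun r hr t => (coreE6 K).xGL_mem_posUnipotent (hS r hr) t

theorem fi_mem_Ucl (i : Fin 4) : fi (K := K) i ∈ (coreE6 K).Ucl (htSet (coreE6 K) 1) :=
  (coreE6 K).wordGL_mem_Ucl fun e he => by
    obtain ⟨a, ha, rfl⟩ := List.mem_map.1 he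
    have h := ((rootsE6_spec i).2.2 ⟨a, (rootsE6_spec i).1 a ha⟩).1 ha
    exact ⟨h.1, (coreE6 K).R.one_le_height_of_pos h.1⟩

theorem fi_mem (i : Fin 4) : fi i ∈ Mq K p n := by
  refine mem_Mq.2 ⟨?_, tau_word fun e he => ?_⟩
  · apply (coreE6 K).wordGL_mem_gen
    fin_cases i
    · exact Or.inr ⟨1, (e6p1, e6p6), by simp, by simp [rootsE6]⟩
    · exact Or.inr ⟨1, (e6p3, e6p5), by simp, by simp [rootsE6]⟩
    · exact Or.inl ⟨1, one_pow _, e6p4, by simp, by simp [rootsE6]⟩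
    · exact Or.inl ⟨1, one_pow _, e6p2, by simp, by simp [rootsE6]⟩
  · obtain ⟨a, -, rfl⟩ := List.mem_map.1 he
    exact one_pow _

theorem nO_mem (i : Fin 4) : nO K i ∈ Mq K p n := by
  refine mem_Mq.2 ⟨(setupE6Aut K hn hq).ss_G1 i, ?_⟩
  show tau K p n ((List.map (fun j => (coreE6 K).nS j) (e6Lead i :: e6Rest i)).prod) =
    (List.map (fun j => (coreE6 K).nS j) (e6Lead i :: e6Rest i)).prod
  rw [map_list_prod, List.map_map]
  exact congrArg List.prod
    (List.map_congr_left fun j _ => ChevField.mapGL_nS (coreE6 K) (sig K p n) j)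

theorem coord_rat {S S' : Set ℕ} (h : (coreE6 K).Level S S') {r : ℕ} (hr : r ∈ S) (hr' : r ∉ S')
    {g : GL chevE6.Idx K} (hgS : g ∈ (coreE6 K).Ucl S) (hg : g ∈ Mq K p n) :
    (coreE6 K).coord S r g ^ p ^ n = (coreE6 K).coord S r g := by
  have h1 := coord_map (coreE6 K) (sig K p n) h hr hr' hgS
  rw [sig_apply] at h1
  rw [← h1]
  exact congrArg _ (mem_Mq.1 hg).2

/-- Rational short coordinates allow to leave a level by a rational element. -/
theorem rat_step {k : ℤ} (hk : 1 ≤ k) {u : GL chevE6.Idx K} (hu : u ∈ Gq K p n)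
    (huS : u ∈ (coreE6 K).Ucl (htSet (coreE6 K) k))
    (hrat : ∀ r : Fin chevE6.nroots, chevE6.IsPosRoot r.val → ht r.val = k → rhoE6 r ≠ r →
      (coreE6 K).coord (htSet (coreE6 K) k) r u ^ p ^ n =
        (coreE6 K).coord (htSet (coreE6 K) k) r u) :
    ∃ v ∈ Mq K p n, v ∈ (coreE6 K).Ucl (htSet (coreE6 K) k) ∧
      v⁻¹ * u ∈ (coreE6 K).Ucl (htSet (coreE6 K) (k + 1)) := by
  refine split_level hn hq (levelHt (coreE6 K) hk) (stable_ht hn hq k) (level_rho hn hq k) hu huS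
    fun r hr hr' => ?_
  obtain ⟨a, rfl⟩ : ∃ a : Fin chevE6.nroots, (a : ℕ) = r := ⟨⟨r, hr.1.1⟩, rfl⟩
  by_cases hρ : rhoE6 a = a
  · exact coord_fix hn hq (levelHt (coreE6 K) hk) (stable_ht hn hq k) hr hr' hρ huS hu
  · refine hrat a hr.1 ?_ hρ
    have h1 := (mem_htSet.1 hr).2
    have h2 : ¬ k + 1 ≤ ht a.val := fun h => hr' ⟨hr.1, h⟩
    omega

theorem mem_M_high : ∀ (m : ℕ) {k : ℤ}, 9 ≤ k → 12 ≤ k + m → ∀ {u : GL chevE6.Idx K},
    u ∈ Gq K p n → u ∈ (coreE6 K).Ucl (htSet (coreE6 K) k) → u ∈ Mq K p n := by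
  intro m
  induction m with
  | zero =>
    intro k _ hk u _ huS
    have h0 : htSet (coreE6 K) k = ∅ := Set.eq_empty_iff_forall_notMem.2 fun r hr => by
      obtain ⟨h1, h2⟩ := mem_htSet.1 hr
      have h3 := (high_tab ⟨r, h1.1⟩ h1).2.1
      change ht r < 12 at h3
      omega
    have h1 : u ∈ (⊥ : Subgroup (GL chevE6.Idx K)) :=
      (coreE6 K).Ucl_le (fun r hr => absurd hr (Set.notMem_empty r)) (h0 ▸ huS)
    rw [Subgroup.mem_bot.1 h1]
    exact one_mem _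
  | succ m ih =>
    intro k hk9 hk u hu huS
    obtain ⟨v, hvM, -, hv⟩ := rat_step hn hq (by omega) hu huS fun r hr hht hρ =>
      absurd ((high_tab r hr).1 (by omega)) hρ
    have h := ih (k := k + 1) (by omega) (by omega)
      (mul_mem (inv_mem (mem_Mq.1 hvM).1) hu) hv
    rw [show u = v * (v⁻¹ * u) by group]
    exact mul_mem hvM h

theorem mem_M_top {u : GL chevE6.Idx K} (hu : u ∈ Gq K p n) {k : ℤ} (hk : 9 ≤ k)
    (huS : u ∈ (coreE6 K).Ucl (htSet (coreE6 K) k)) : u ∈ Mq K p n :=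
  mem_M_high hn hq 12 hk (by omega) hu huS

theorem mem_M_71 {u : GL chevE6.Idx K} (hu : u ∈ Gq K p n) (huS : u ∈ (coreE6 K).Ucl {71}) :
    u ∈ Mq K p n := by
  refine mem_M_top hn hq hu le_rfl ((coreE6 K).Ucl_mono ?_ huS)
  rintro r rfl
  exact ⟨highest_tab.1, show (9 : ℤ) ≤ ht 71 by decide +kernel⟩

/-- The split of a fixed positive element along a stable set of nodes consists of fixed elements. -/
theorem split_fixed {J : Finset (Fin chevE6.rank)}
    (hJ : ∀ r : Fin chevE6.nroots, SuppIn rootDataE6 J r → SuppIn rootDataE6 J (rhoE6 r))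
    {u : GL chevE6.Idx K} (hu : u ∈ chevE6.posUnipotent K) (huG : u ∈ Gq K p n) :
    ∃ a ∈ (coreE6 K).Ucl (inRoots (coreE6 K).R J), ∃ c ∈ (coreE6 K).Ucl (outRoots (coreE6 K).R J),
      a ∈ Gq K p n ∧ c ∈ Gq K p n ∧ u = a * c := by
  obtain ⟨a, ha, c, hc, rfl⟩ := exists_split (coreE6 K) J hu
  have haU := Ucl_in_le (coreE6 K) J ha
  have hcU := Ucl_out_le (coreE6 K) J hc
  have hgrp : ∀ {x}, x ∈ chevE6.posUnipotent K → x ∈ chevE6.group K := fun hx =>
    (coreE6 K).borel_le_group (le_sup_left (b := chevE6.diagonalSubgroup K) hx)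
  have h := act_eq hn hq huG
  rw [(frobE6 K p n).act_mul (hgrp haU) (hgrp hcU)] at h
  have hout : (frobE6 K p n).Stable (outRoots (coreE6 K).R J) := fun r hr =>
    ⟨(frobE6 K p n).ρ_pos r hr.1, fun h' => hr.2 (by
      have := hJ (rhoE6 r) h'
      rwa [(pair_tab r).1] at this)⟩
  have hin : (frobE6 K p n).Stable (inRoots (coreE6 K).R J) := fun r hr =>
    ⟨(frobE6 K p n).ρ_pos r hr.1, hJ r hr.2⟩
  obtain ⟨e1, e2⟩ := split_unique (coreE6 K) J
    ((frobE6 K p n).act_Ucl hin a ha) ha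
    ((frobE6 K p n).act_Ucl hout c hc) hc h
  exact ⟨a, ha, c, hc, pos_mem hn hq haU e1, pos_mem hn hq hcU e2, rfl⟩

omit hn hq in
theorem conj_out {J : Finset (Fin chevE6.rank)} {a c : GL chevE6.Idx K}
    (ha : a ∈ chevE6.posUnipotent K) (hc : c ∈ (coreE6 K).Ucl (outRoots (coreE6 K).R J)) :
    a * c * a⁻¹ ∈ (coreE6 K).Ucl (outRoots (coreE6 K).R J) := by
  have hle : chevE6.posUnipotent K ≤
      Subgroup.normalizer ((coreE6 K).Ucl (outRoots (coreE6 K).R J) : Set (GL chevE6.Idx K)) := by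
    rw [(coreE6 K).posUnipotent_eq]
    exact (coreE6 K).Ucl_le fun r hr t => (coreE6 K).pos_normalizes hr (fun s hs => hs.1)
      (fun s hs k hk => combo_out (coreE6 K) J hr hs hk) t
  exact (Subgroup.mem_normalizer_iff.1 (hle ha) c).1 hc

omit hn hq in
theorem commute_Ucl {S : Set ℕ} {s : ℕ} (hs : s < chevE6.nroots)
    (h : ∀ r ∈ S, r < chevE6.nroots ∧ (r = s ∨ (r ≠ chevE6.neg s ∧ chevE6.commTerms s r = [])))
    (t : K) {g : GL chevE6.Idx K} (hg : g ∈ (coreE6 K).Ucl S) :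
    g * (coreE6 K).xGL s t = (coreE6 K).xGL s t * g := by
  have hle : (coreE6 K).Ucl S ≤ Subgroup.centralizer {(coreE6 K).xGL s t} := by
    refine (coreE6 K).Ucl_le fun r hr v => Subgroup.mem_centralizer_iff.2 ?_
    rintro _ rfl
    obtain ⟨hrn, e | ⟨h1, h2⟩⟩ := h r hr
    · subst e
      rw [← (coreE6 K).xGL_add, ← (coreE6 K).xGL_add, add_comm]
    · by_cases e : r = s
      · subst e
        rw [← (coreE6 K).xGL_add, ← (coreE6 K).xGL_add, add_comm]
      · exact ((coreE6 K).xGL_commute hs hrn e h1 (by simp [h2]) t v).symm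
  exact (Subgroup.mem_centralizer_iff.1 (hle hg) _ rfl).symm

end CfsgLib.TwistAut.SubE6
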