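import Cfsg.Agent.Lib.TwistAut.SubGenE6

/-!
Conjugates of long root elements in a subgroup above the rational points of ²E₆ whose unipotent
part is rational.
-/

set_option autoImplicit false
set_option linter.unusedSectionVars false

namespace CfsgLib.TwistAut.SubE6

open Cfsg.Lie CfsgLib.ChevStr CfsgLib.Twisted
open scoped MatrixGroups

theorem levi_in : ∀ e ∈ leviData, 1 ≤ rootDataE6.α e.2.1 (nodeE6 1) ∧
    1 ≤ rootDataE6.α e.2.2.1 (nodeE6 1) := by decide +kernel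

theorem mem_out_levi {r : ℕ} :
    r ∈ outRoots rootDataE6 leviNodes ↔ r < chevE6.nroots ∧ 1 ≤ rootDataE6.α r (nodeE6 1) := by
  constructor
  · rintro ⟨hr, hs⟩
    refine ⟨hr.1, ?_⟩
    have h0 := ((rootDataE6.isPos_iff r).1 hr).2 (nodeE6 1)
    by_contra hlt
    refine hs fun m hm => ?_
    obtain rfl : m = nodeE6 1 := by
      by_contra hne
      exact hm (Finset.mem_erase.2 ⟨hne, Finset.mem_univ _⟩)
    simp only [Pi.zero_apply] at h0
    omega
  · rintro ⟨hr, h1⟩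
    refine ⟨(center_tab ⟨r, hr⟩).2.1 h1, fun hs => ?_⟩
    have h0 := hs (nodeE6 1) (fun h => (Finset.mem_erase.1 h).1 rfl)
    omega

variable {K : Type*} [Field K] [Fintype K] {p n : ℕ} [Fact p.Prime] [CharP K p]

theorem level_levi :
    (coreE6 K).Level (outRoots (coreE6 K).R leviNodes) {71} := by
  refine ⟨fun r hr => hr.1, ?_, fun r hr s hs k hk => ?_⟩
  · rintro r rfl
    refine mem_out_levi.2 ⟨highest_tab.1.1, ?_⟩
    have := highest_tab.2.1
    omega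
  · have h1 := (mem_out_levi.1 hr).2
    have h2 := (mem_out_levi.1 hs).2
    obtain ⟨hk, a, b, ha, hb, hab⟩ := hk
    refine (center_tab ⟨k, hk⟩).1 ?_
    have h3 := congrFun hab (nodeE6 1)
    simp only [Pi.add_apply, Pi.smul_apply, smul_eq_mul] at h3
    change rootDataE6.α k (nodeE6 1) =
      (a : ℤ) * rootDataE6.α r (nodeE6 1) + (b : ℤ) * rootDataE6.α s (nodeE6 1) at h3
    change 2 ≤ rootDataE6.α k (nodeE6 1)
    have ha' : (1 : ℤ) ≤ a := by omega
    have hb' : (1 : ℤ) ≤ b := by omega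
    nlinarith

variable (hn : Fintype.card K = (p ^ n) * (p ^ n)) (hq : 2 ≤ p ^ n)
include hn hq

theorem stable_levi : (frobE6 K p n).Stable (outRoots (coreE6 K).R leviNodes) := fun r hr =>
  ⟨(frobE6 K p n).ρ_pos r hr.1, fun h => hr.2 (by
    have := (pair_tab (rhoE6 r)).2.2.2.1 h
    rwa [(pair_tab r).1] at this)⟩

/-- A commutator of two rational elements with one term. -/
theorem comm_single {r s k : ℕ} (hr : r < chevE6.nroots) (hs : s < chevE6.nroots) (h1 : s ≠ r)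
    (h2 : s ≠ chevE6.neg r) {z : ℤ} (hterm : chevE6.commTerms r s = [(k, z, 1, 1)]) (t v : K) :
    ((coreE6 K).xGL s v)⁻¹ * ((coreE6 K).xGL r t)⁻¹ * (coreE6 K).xGL s v * (coreE6 K).xGL r t =
      (coreE6 K).xGL k ((z : K) * (-t) * v) := by
  rw [mul_assoc _ ((coreE6 K).xGL s v), (coreE6 K).xGL_comm hr hs h1 h2,
    show chevE6.commWord K r s t v = [(k, (z : K) * (-t) * v)] by
      simp [ChevalleyDatum.commWord, hterm],
    ChevCore.wordGL_cons, ChevCore.wordGL_nil, mul_one]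
  group

theorem center_step {H : Subgroup (GL chevE6.Idx K)} (hMH : Mq K p n ≤ H) (hHG : H ≤ Gq K p n)
    (hUM : ∀ x ∈ H, x ∈ chevE6.posUnipotent K → x ∈ Mq K p n)
    {u : GL chevE6.Idx K} (huU : u ∈ chevE6.posUnipotent K) (huG : u ∈ Gq K p n) {lam : K}
    (hy : u * (coreE6 K).xGL 0 lam * u⁻¹ ∈ H) :
    u * (coreE6 K).xGL 0 lam * u⁻¹ ∈ Mq K p n := by
  by_cases hl : lam = 0
  · subst hl
    rw [(coreE6 K).xGL_zero, mul_one, mul_inv_cancel]
    exact one_mem _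
  obtain ⟨a, ha, c, hc, haG, hcG, rfl⟩ :=
    split_fixed hn hq (J := leviNodes) (fun r h => (pair_tab r).2.2.2.1 h) huU huG
  have hax : a * (coreE6 K).xGL 0 lam = (coreE6 K).xGL 0 lam * a :=
    commute_Ucl (S := inRoots (coreE6 K).R leviNodes) (by decide) (fun r hr => ⟨hr.1.1, Or.inr (by
      obtain ⟨h1, -, h3⟩ := (center_tab ⟨r, hr.1.1⟩).2.2.2 hr.1 hr.2
      exact ⟨h1, h3⟩)⟩) lam ha
  set c' := a * c * a⁻¹ with hc'
  have hc'Q : c' ∈ (coreE6 K).Ucl (outRoots (coreE6 K).R leviNodes) :=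
    conj_out (Ucl_in_le (coreE6 K) _ ha) hc
  have hc'G : c' ∈ Gq K p n := mul_mem (mul_mem haG hcG) (inv_mem haG)
  have key : a * c * (coreE6 K).xGL 0 lam * (a * c)⁻¹ = c' * (coreE6 K).xGL 0 lam * c'⁻¹ := by
    have e : a * (coreE6 K).xGL 0 lam * a⁻¹ = (coreE6 K).xGL 0 lam := by rw [hax]; group
    calc a * c * (coreE6 K).xGL 0 lam * (a * c)⁻¹ =
          c' * (a * (coreE6 K).xGL 0 lam * a⁻¹) * c'⁻¹ := by rw [hc']; group
      _ = _ := by rw [e]
  rw [key] at hy ⊢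
  clear key hax
  clear_value c'
  clear hc' hcG hc haG ha huU huG c a
  rename GL chevE6.Idx K => u
  set C := coreE6 K
  set Q := outRoots C.R leviNodes
  have hlev : C.Level Q {71} := level_levi
  have hQU : C.Ucl Q ≤ chevE6.posUnipotent K := Ucl_out_le C _
  -- the parameter is rational
  have hx0G : C.xGL 0 lam ∈ Gq K p n := by
    have := mul_mem (mul_mem (inv_mem hc'G) (hHG hy)) hc'G
    simpa [mul_assoc] using this
  have hlam : lam ^ p ^ n = lam := by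
    have h := act_eq hn hq hx0G
    rw [show C.xGL 0 lam = C.xGL (rt 0 : Fin chevE6.nroots) lam from rfl, (frobE6 K p n).act_x] at h
    change C.xGL (rhoE6 (rt 0)) ((e6Sym.sign 0 : K) * lam ^ p ^ n) = C.xGL (rt 0) lam at h
    rw [highest_tab.2.2.2] at h
    have h' := C.xGL_injective (rt 0 : Fin chevE6.nroots).isLt h
    have hs : e6Sym.sign 0 = 1 := (pair_tab (rt 0)).2.2.2.2.1 highest_tab.2.2.2
    rwa [hs, Int.cast_one, one_mul] at h'
  have hx0M : C.xGL 0 lam ∈ Mq K p n := mem_Mq.2 ⟨hx0G, by rw [tau_x, hlam]⟩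
  let H' : Subgroup (GL chevE6.Idx K) := Mq K p n ⊓ H.comap (MulAut.conj u).toMonoidHom
  have hH' : ∀ {x}, x ∈ H' ↔ x ∈ Mq K p n ∧ u * x * u⁻¹ ∈ H := Iff.rfl
  have hx0 : C.xGL 0 lam ∈ H' := hH'.2 ⟨hx0M, hy⟩
  -- rational long root elements of the middle level
  have hlong : ∀ b : Fin chevE6.nroots, (b : ℕ) ∈ Q → rhoE6 b = b → C.xGL b (1 : K) ∈ H' := by
    intro b hb hρ
    have hbM : C.xGL b (1 : K) ∈ Mq K p n := single_mem hn hq hρ hb.1 (one_pow _)
    refine hH'.2 ⟨hbM, ?_⟩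
    have hbQ : C.xGL b (1 : K) ∈ C.Ucl Q := C.xGL_mem_Ucl hb _
    have h71 : u * C.xGL b (1 : K) * u⁻¹ * (C.xGL b (1 : K))⁻¹ ∈ C.Ucl {71} := by
      refine C.mem_Ucl_of_coord hlev
        (mul_mem (mul_mem (mul_mem hc'Q hbQ) (inv_mem hc'Q)) (inv_mem hbQ)) fun r hr hr' => ?_
      have hneg : ∀ x ∈ C.Ucl Q, C.coord Q r x⁻¹ = -C.coord Q r x := fun x hx => by
        have h := C.coord_mul hlev hr hr' (inv_mem hx) hx
        rw [inv_mul_cancel, C.coord_of_mem hlev hr hr' (one_mem _)] at h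
        exact (neg_eq_of_add_eq_zero_left h.symm).symm
      rw [C.coord_mul hlev hr hr' (mul_mem (mul_mem hc'Q hbQ) (inv_mem hc'Q)) (inv_mem hbQ),
        C.coord_mul hlev hr hr' (mul_mem hc'Q hbQ) (inv_mem hc'Q),
        C.coord_mul hlev hr hr' hc'Q hbQ, hneg _ hc'Q, hneg _ hbQ]
      ring
    have hM := mem_M_71 hn hq (mul_mem (mul_mem (mul_mem hc'G (mem_Mq.1 hbM).1) (inv_mem hc'G))
      (inv_mem (mem_Mq.1 hbM).1)) h71
    have := mul_mem (hMH hM) (hMH hbM)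
    simpa [mul_assoc] using this
  -- long root elements of the Levi subgroup
  have hlevi : ∀ e ∈ leviData, ∃ β : K, β ^ p ^ n = β ∧ β ≠ 0 ∧ C.xGL e.1 β ∈ H' := by
    intro e he
    obtain ⟨⟨hb, -, hbρ⟩, ⟨hc₀, -, hcρ⟩, h0, h0n, ⟨z, hz, hz'⟩, hk, hkb, hkn, ⟨z', hzz, hz''⟩, hr⟩ :=
      leviData_spec e he
    obtain ⟨hbQ, hcQ⟩ := levi_in e he
    have hbmem := hlong ⟨e.2.1, hb⟩ (mem_out_levi.2 ⟨hb, hbQ⟩) hbρ
    have hcmem := hlong ⟨e.2.2.1, hc₀⟩ (mem_out_levi.2 ⟨hc₀, hcQ⟩) hcρ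
    have h1 := comm_single hn hq (by decide) hc₀ h0 h0n hz' lam 1
    have hkmem : C.xGL e.2.2.2 ((z : K) * (-lam) * 1) ∈ H' := by
      rw [← h1]
      exact mul_mem (mul_mem (mul_mem (inv_mem hcmem) (inv_mem hx0)) hcmem) hx0
    have h2 := comm_single hn hq hb hk hkb hkn hz'' (1 : K) ((z : K) * (-lam) * 1)
    refine ⟨(z' : K) * (-1) * ((z : K) * (-lam) * 1), ?_, ?_, ?_⟩
    · rw [mul_pow, mul_pow, mul_pow, mul_pow, zcast_pow hn hq hz, zcast_pow hn hq hzz,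
        neg_one_pow_expChar (F := K) p n, _root_.neg_pow lam, neg_one_pow_expChar (F := K) p n,
        hlam, one_pow, neg_one_mul]
    · refine mul_ne_zero (mul_ne_zero ?_ (by norm_num))
        (mul_ne_zero (mul_ne_zero ?_ (by simpa using hl)) one_ne_zero)
      · rcases List.mem_pair.1 hzz with rfl | rfl <;> simp
      · rcases List.mem_pair.1 hz with rfl | rfl <;> simp
    · rw [← h2]
      exact mul_mem (mul_mem (mul_mem (inv_mem hkmem) (inv_mem hbmem)) hkmem) hbmem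
  -- the short coordinates are rational
  have hrat : ∀ r ∈ Q, r ∉ ({71} : Set ℕ) → C.coord Q r u ^ p ^ n = C.coord Q r u := by
    intro r hr hr'
    obtain ⟨a, rfl⟩ : ∃ a : Fin chevE6.nroots, (a : ℕ) = r := ⟨⟨r, hr.1.1⟩, rfl⟩
    by_cases hρ : rhoE6 a = a
    · exact coord_fix hn hq hlev (stable_levi hn hq) hr hr' hρ hc'Q hc'G
    obtain ⟨⟨a', ρ₀, k⟩, he, hea⟩ := coverData_cover a hρ (mem_out_levi.1 hr).2
    obtain ⟨hρ₀, hk, hkα, hcoef, hcoef0⟩ := coverData_spec _ he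
    dsimp only at hea hρ₀ hk hkα hcoef hcoef0
    subst hea
    obtain ⟨f, hf, rfl⟩ := List.mem_map.1 hρ₀
    obtain ⟨β, hβq, hβ0, hβH⟩ := hlevi f hf
    obtain ⟨-, hnorm⟩ := leviData_norm f hf
    obtain ⟨hβM, hβu⟩ := hH'.1 hβH
    have hkQ : k ∈ Q := mem_out_levi.2 ⟨hk, hkα.ge⟩
    have hk71 : k ∉ ({71} : Set ℕ) := fun e => by
      rw [Set.mem_singleton_iff] at e
      rw [e, highest_tab.2.1] at hkα
      omega
    obtain ⟨hΔ, hΔc⟩ := coord_delta C hlev hlev hr hr' hkQ hk71 (leviData_spec f hf).2.2.2.2.2.2.2.2.2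
      (fun s hs t ht l hl => hlev.combo s hs t ht l hl)
      (fun s hs => by
        obtain ⟨-, hs2, hs3⟩ := hnorm ⟨s, hs.1.1⟩ (mem_out_levi.1 hs).2
        refine Or.inr ⟨hs2, fun c hc => ⟨?_, fun _ => (hs3 c hc).2⟩⟩
        exact mem_out_levi.2 ⟨((coreE6 K).R.commTerms_spec hc).1, (hs3 c hc).1⟩)
      (commCoef chevE6 f.1 a k) (fun s hs => by
        split_ifs with e
        · rw [e]
        · exact hcoef0 ⟨s, hs.1.1⟩ (mem_out_levi.1 hs).2 e)
      β u⁻¹ (inv_mem hc'Q)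
    rw [inv_inv] at hΔ hΔc
    have hΔH : u * (C.xGL f.1 β)⁻¹ * u⁻¹ * C.xGL f.1 β ∈ H := by
      refine mul_mem ?_ (hMH hβM)
      have := inv_mem hβu
      simpa [mul_assoc] using this
    have hΔM := hUM _ hΔH (hQU hΔ)
    have h1 := coord_rat hn hq hlev hkQ hk71 hΔ hΔM
    rw [hΔc] at h1
    set t := C.coord Q a u⁻¹
    set m := commCoef chevE6 f.1 a k
    have hm : (m : K) ≠ 0 ∧ (m : K) ^ p ^ n = m := by
      refine ⟨?_, zcast_pow hn hq hcoef⟩
      rcases List.mem_pair.1 hcoef with e | e <;> rw [e] <;> simp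
    have ht : t ^ p ^ n = t := by
      rw [mul_pow, _root_.neg_pow, neg_one_pow_expChar (F := K) p n, mul_pow, hm.2, hβq,
        neg_one_mul] at h1
      exact mul_left_cancel₀ (neg_ne_zero.2 (mul_ne_zero hm.1 hβ0)) h1
    have h3 := C.coord_mul hlev hr hr' (inv_mem hc'Q) hc'Q
    rw [inv_mul_cancel, C.coord_of_mem hlev hr hr' (one_mem _)] at h3
    have h4 : C.coord Q a u = -t := eq_neg_of_add_eq_zero_right h3.symm
    rw [h4, _root_.neg_pow, neg_one_pow_expChar (F := K) p n, ht, neg_one_mul]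
  obtain ⟨v, hvM, -, hv⟩ := split_level hn hq hlev (stable_levi hn hq)
    (fun r hr hr' h => hr' (by
      rw [Set.mem_singleton_iff] at h ⊢
      have h71 : rhoE6 r = rt 71 := Fin.ext h
      have := congrArg rhoE6 h71
      rw [(pair_tab r).1, highest_tab.2.2.1] at this
      exact congrArg Fin.val this)) hc'G hc'Q hrat
  have hu : u ∈ Mq K p n := by
    rw [show u = v * (v⁻¹ * u) by group]
    exact mul_mem hvM (mem_M_71 hn hq (mul_mem (inv_mem (mem_Mq.1 hvM).1) hc'G) hv)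
  exact mul_mem (mul_mem hu hx0M) (inv_mem hu)

/-- Conjugates of fixed root elements in the subgroup are rational. -/
theorem desc {H : Subgroup (GL chevE6.Idx K)} (hMH : Mq K p n ≤ H) (hHG : H ≤ Gq K p n)
    (hUM : ∀ x ∈ H, x ∈ chevE6.posUnipotent K → x ∈ Mq K p n) :
    ∀ (m : ℕ) (s : Fin chevE6.nroots), s.val ≤ m → rhoE6 s = s →
      ∀ u ∈ chevE6.posUnipotent K, u ∈ Gq K p n → ∀ lam : K,
        u * (coreE6 K).xGL s lam * u⁻¹ ∈ H → u * (coreE6 K).xGL s lam * u⁻¹ ∈ Mq K p n := by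
  intro m
  induction m with
  | zero =>
    intro s hs _ u huU huG lam hy
    rw [show (s : ℕ) = 0 by omega] at hy ⊢
    exact center_step hn hq hMH hHG hUM huU huG hy
  | succ m ih =>
    intro s hs hρ u huU huG lam hy
    by_cases hs0 : s.val = 0
    · exact ih s (by omega) hρ u huU huG lam hy
    obtain ⟨i, hlt, hwρ, horb⟩ := fix_down_tab s hρ hs0
    obtain ⟨a, ha, c, hc, haG, hcG, rfl⟩ :=
      split_fixed hn hq (J := nodesE6 i) (orbE6_supp i) huU huG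
    have hax : a * (coreE6 K).xGL s lam = (coreE6 K).xGL s lam * a := by
      refine commute_Ucl (S := inRoots (coreE6 K).R (nodesE6 i)) s.isLt (fun r hr => ⟨hr.1.1, ?_⟩)
        lam ha
      rw [inE6] at hr
      exact horb r hr
    have hxc : a * c * (coreE6 K).xGL s lam * (a * c)⁻¹ =
        a * c * a⁻¹ * (coreE6 K).xGL s lam * (a * c * a⁻¹)⁻¹ := by
      have e : a * (coreE6 K).xGL s lam * a⁻¹ = (coreE6 K).xGL s lam := by rw [hax]; group
      calc a * c * (coreE6 K).xGL s lam * (a * c)⁻¹ =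
            a * c * a⁻¹ * (a * (coreE6 K).xGL s lam * a⁻¹) * (a * c * a⁻¹)⁻¹ := by group
        _ = _ := by rw [e]
    rw [hxc] at hy ⊢
    set d := a * c * a⁻¹
    have hd : d ∈ (coreE6 K).Ucl (outRoots (coreE6 K).R (nodesE6 i)) :=
      conj_out (Ucl_in_le (coreE6 K) _ ha) hc
    have hdG : d ∈ Gq K p n := mul_mem (mul_mem haG hcG) (inv_mem haG)
    have hw : wE i ∈ (coreE6 K).hR.weylSub (nodesE6 i) := (setupE6Aut K hn hq).w_mem i
    have hnd : nO K i * d * (nO K i)⁻¹ ∈ (coreE6 K).Ucl (outRoots (coreE6 K).R (nodesE6 i)) :=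
      (coreE6 K).conj_Ucl_le (nO_moves i)
        (fun r hr t => (coreE6 K).xGL_mem_Ucl (out_weyl (coreE6 K).hR hw hr) t) d hd
    obtain ⟨lam', hlam'⟩ := (nO_moves (K := K) i).2 s lam
    have hg := nO_mem (K := K) hn hq i
    have e : nO K i * (d * (coreE6 K).xGL s lam * d⁻¹) * (nO K i)⁻¹ =
        nO K i * d * (nO K i)⁻¹ * (coreE6 K).xGL (wE i s) lam' * (nO K i * d * (nO K i)⁻¹)⁻¹ := by
      rw [← hlam']
      group
    have h := ih (wE i s) (by omega) hwρ _ (Ucl_out_le (coreE6 K) _ hnd)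
      (mul_mem (mul_mem (mem_Mq.1 hg).1 hdG) (inv_mem (mem_Mq.1 hg).1)) lam'
      (e ▸ mul_mem (mul_mem (hMH hg) hy) (inv_mem (hMH hg)))
    rw [← e] at h
    rw [show d * (coreE6 K).xGL s lam * d⁻¹ =
      (nO K i)⁻¹ * (nO K i * (d * (coreE6 K).xGL s lam * d⁻¹) * (nO K i)⁻¹) * nO K i by group]
    exact mul_mem (mul_mem (inv_mem hg) h) hg

end CfsgLib.TwistAut.SubE6
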