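import Cfsg.Agent.Lib.TwistAut.SubTopE6

/-! A non-rational unipotent element generates ²E₆ together with the rational points. -/

set_option autoImplicit false
set_option linter.unusedSectionVars false

namespace CfsgLib.TwistAut.SubE6

open Cfsg.Lie CfsgLib.ChevStr CfsgLib.Twisted
open scoped MatrixGroups

theorem orbit_pairs : rhoE6 (rt 56) = rt 36 ∧ rhoE6 (rt 42) = rt 37 ∧ chevE6.IsPosRoot 56 ∧
    chevE6.IsPosRoot 42 ∧ (rootsE6 0 = [56, 36]) ∧ (rootsE6 1 = [42, 37]) := by decide +kernel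

theorem chi_vals : chevE6.cartan 2 (chevE6.simple 0) = -1 ∧ chevE6.cartan 4 (chevE6.simple 0) = 0 ∧
    chevE6.cartan 3 (chevE6.simple 2) = -1 :=
  ⟨chi_tab.2.1, chi_tab.2.2, chi_tab.1⟩

variable {K : Type*} [Field K] [Fintype K] {p n : ℕ} [Fact p.Prime] [CharP K p]
  (hn : Fintype.card K = (p ^ n) * (p ^ n)) (hq : 2 ≤ p ^ n)
include hn hq

/-- A non-rational product of two opposite short root elements of the subgroup. -/
def Has (H : Subgroup (GL chevE6.Idx K)) (a : Fin chevE6.nroots) : Prop :=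
  ∃ y ∈ H, y ∉ Mq K p n ∧ ∃ t s, y = (coreE6 K).xGL a t * (coreE6 K).xGL (rhoE6 a) s

theorem has_all {H : Subgroup (GL chevE6.Idx K)} (hMH : Mq K p n ≤ H)
    (h66 : ∃ y ∈ H, y ∉ Mq K p n ∧ ∃ t s, y = (coreE6 K).xGL 66 t * (coreE6 K).xGL 68 s) :
    ∀ (m : ℕ) (a : Fin chevE6.nroots), chevE6.nroots ≤ a.val + m → rhoE6 a ≠ a →
      chevE6.IsPosRoot a.val → Has (p := p) (n := n) H a := by
  intro m
  induction m with
  | zero => intro a ha; exact absurd a.isLt (by omega)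
  | succ m ih =>
    intro a ha hρ hpos
    obtain ⟨-, -, -, -, -, hpair⟩ := pair_tab a
    obtain ⟨y, hy, hyM, t, s, hyts⟩ := h66
    rcases up_tab a hρ hpos with e | e | ⟨i, hlt, hwpos, hwρ, hcomm⟩
    · obtain rfl : a = rt 66 := Fin.ext e
      exact ⟨y, hy, hyM, t, s, by rw [top_tab.2.2.2.2.1]; exact hyts⟩
    · obtain rfl : a = rt 68 := Fin.ext e
      obtain ⟨hneg, hterms, -⟩ := hpair hρ
      refine ⟨y, hy, hyM, s, t, ?_⟩
      rw [top_tab.2.2.2.2.2] at hneg hterms ⊢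
      rw [hyts]
      exact (coreE6 K).xGL_commute (r := 68) (s := 66) (by decide) (by decide) (by decide) hneg
        (by intro c hc; rw [show chevE6.commTerms 68 66 = [] from hterms] at hc; simp at hc) s t
    · obtain ⟨y', hy', hy'M, t', s', he⟩ := ih (wE i a) (by omega) hwρ hwpos
      have hg : nO K i ∈ Mq K p n := nO_mem hn hq i
      obtain ⟨t₁, h1⟩ := (nO_moves_inv (K := K) i).2 (wE i a) t'
      obtain ⟨s₁, h2⟩ := (nO_moves_inv (K := K) i).2 (rhoE6 (wE i a)) s'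
      rw [inv_inv, Equiv.Perm.inv_def, Equiv.symm_apply_apply] at h1
      rw [inv_inv, ← hcomm, Equiv.Perm.inv_def, Equiv.symm_apply_apply, hcomm] at h2
      refine ⟨(nO K i)⁻¹ * y' * nO K i, mul_mem (mul_mem (inv_mem (hMH hg)) hy') (hMH hg), fun h => hy'M ?_,
        t₁, s₁, ?_⟩
      · rw [show y' = nO K i * ((nO K i)⁻¹ * y' * nO K i) * (nO K i)⁻¹ by group]
        exact mul_mem (mul_mem hg h) (inv_mem hg)
      · rw [← h1, ← h2, he]
        group

theorem tau_sx (i : Fin 4) (t : K) :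
    tau K p n ((setupE6Aut K hn hq).x i t) = (setupE6Aut K hn hq).x i (t ^ p ^ n) := by
  show tau K p n ((List.map _ _).prod) = (List.map _ _).prod
  rw [map_list_prod, List.map_map]
  exact congrArg List.prod (List.map_congr_left fun j _ => by
    simp only [Function.comp_apply]
    rw [tau_x, ← pow_mul, ← pow_mul, mul_comm])

theorem tau_sxn (i : Fin 4) (t : K) :
    tau K p n ((setupE6Aut K hn hq).xn i t) = (setupE6Aut K hn hq).xn i (t ^ p ^ n) := by
  show tau K p n ((List.map _ _).prod) = (List.map _ _).prod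
  rw [map_list_prod, List.map_map]
  exact congrArg List.prod (List.map_congr_left fun j _ => by
    simp only [Function.comp_apply]
    rw [tau_x, ← pow_mul, ← pow_mul, mul_comm])

theorem sx_mem_Mq {i : Fin 4} {t : K} (ht : t ^ p ^ n = t) :
    (setupE6Aut K hn hq).x i t ∈ Mq K p n ∧ (setupE6Aut K hn hq).xn i t ∈ Mq K p n := by
  have hF : t ∈ (setupE6Aut K hn hq).Fld i := by
    show t ^ p ^ (if i.val ≤ 1 then 2 * n else n) = t
    split_ifs
    exacts [pow_cardE6 K hn t, ht]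
  exact ⟨mem_Mq.2 ⟨(setupE6Aut K hn hq).x_G1 hF, by rw [tau_sx, ht]⟩,
    mem_Mq.2 ⟨(setupE6Aut K hn hq).xn_G1 hF, by rw [tau_sxn, ht]⟩⟩

theorem exists_param_orbit {H : Subgroup (GL chevE6.Idx K)} (hMH : Mq K p n ≤ H)
    (hHG : H ≤ Gq K p n) {i : Fin 4} {a : Fin chevE6.nroots}
    (hroots : rootsE6 i = [a.val, (rhoE6 a).val]) (ha : Has (p := p) (n := n) H a) :
    ∃ t, t ^ p ^ n ≠ t ∧ (setupE6Aut K hn hq).x i t ∈ H := by
  obtain ⟨y, hy, hyM, t, s, he⟩ := ha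
  have hfix : y ∈ (frobE6 K p n).fixU (inRoots (coreE6 K).R (orbE6.J i)) := by
    refine Subgroup.mem_inf.2 ⟨?_, le_fixedE6 K hn (hHG hy)⟩
    show y ∈ (coreE6 K).Ucl (inRoots (coreE6 K).R (nodesE6 i))
    rw [inE6, hroots, he]
    exact mul_mem ((coreE6 K).xGL_mem_Ucl (by simp [listSet]) _)
      ((coreE6 K).xGL_mem_Ucl (by simp [listSet]) _)
  obtain ⟨c, -, hc⟩ := (setupE6Aut K hn hq).exists_x hfix
  refine ⟨c, fun h => hyM ?_, hc ▸ hy⟩
  rw [← hc]
  exact (sx_mem_Mq hn hq h).1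

/-- An additive group of parameters stable under rational scalars is everything. -/
theorem params_top {P : AddSubgroup K} (h1 : (1 : K) ∈ P)
    (hsmul : ∀ z : K, z ^ p ^ n = z → ∀ x ∈ P, z * x ∈ P) {t : K} (ht : t ∈ P) (htn : t ^ p ^ n ≠ t) :
    ∀ x, x ∈ P := by
  classical
  let R := {z : K // z ^ p ^ n = z}
  have hR : Nat.card R = p ^ n := by
    refine card_pow_eq_self (F := K) hq ?_
    rw [hn]
    simpa [sq] using Nat.sub_dvd_pow_sub_pow (p ^ n) 1 2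
  have hinj : Function.Injective fun z : R × R => (z.1 : K) + z.2 * t := by
    rintro ⟨⟨a, ha⟩, ⟨b, hb⟩⟩ ⟨⟨a', ha'⟩, ⟨b', hb'⟩⟩ e
    simp only at e
    have hbb : b = b' := by
      by_contra hne
      apply htn
      have e' : t = (a' - a) * (b - b')⁻¹ := by
        rw [eq_mul_inv_iff_mul_eq₀ (sub_ne_zero.2 hne)]
        linear_combination e
      rw [e', mul_pow, inv_pow, ← sig_apply, ← sig_apply, map_sub, map_sub, sig_apply, sig_apply,
        sig_apply, sig_apply, ha, ha', hb, hb']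
    subst hbb
    obtain rfl : a = a' := add_right_cancel e
    rfl
  have hbij : Function.Bijective fun z : R × R => (z.1 : K) + z.2 * t :=
    (Nat.bijective_iff_injective_and_card _).2
      ⟨hinj, by rw [Nat.card_prod, hR, Nat.card_eq_fintype_card, hn]⟩
  intro x
  obtain ⟨⟨⟨a, ha⟩, ⟨b, hb⟩⟩, rfl⟩ := hbij.2 x
  refine add_mem ?_ (hsmul b hb t ht)
  simpa using hsmul a ha 1 h1

theorem x_all {H : Subgroup (GL chevE6.Idx K)} (hMH : Mq K p n ≤ H) {i : Fin 4} (hi : i.val ≤ 1)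
    (hchar : ∀ z : Kˣ, (z : K) ^ p ^ n = z → ∃ T ∈ Mq K p n, ∀ t : K,
      ∃ t', T * (setupE6Aut K hn hq).x i t * T⁻¹ = (setupE6Aut K hn hq).x i t' ∧ t' = z * t)
    {t : K} (ht : (setupE6Aut K hn hq).x i t ∈ H) (htn : t ^ p ^ n ≠ t) :
    ∀ x, (setupE6Aut K hn hq).x i x ∈ H ∧ (setupE6Aut K hn hq).xn i x ∈ H := by
  set S := setupE6Aut K hn hq
  have hok := S.ok i
  let P : AddSubgroup K :=
    { carrier := {x | S.x i x ∈ H}
      zero_mem' := by
        show S.x i 0 ∈ H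
        rw [show S.x i 0 = 1 from X_zero (coreE6 K) hok]
        exact one_mem _
      add_mem' := fun {a b} ha hb => by
        show S.x i (a + b) ∈ H
        rw [show S.x i (a + b) = S.x i a * S.x i b from X_add (coreE6 K) hok a b]
        exact mul_mem ha hb
      neg_mem' := fun {a} ha => by
        show S.x i (-a) ∈ H
        rw [show S.x i (-a) = (S.x i a)⁻¹ from (X_inv (coreE6 K) hok a).symm]
        exact inv_mem ha }
  have hall : ∀ x, x ∈ P := by
    refine params_top hn hq (P := P) (hMH (sx_mem_Mq hn hq (one_pow _)).1) (fun z hz x hx => ?_) ht htn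
    by_cases h0 : z = 0
    · simp [h0]
    obtain ⟨T, hT, hTx⟩ := hchar (Units.mk0 z h0) hz
    obtain ⟨t', e, rfl⟩ := hTx x
    show S.x i _ ∈ H
    rw [Units.val_mk0] at e
    rw [← e]
    exact mul_mem (mul_mem (hMH hT) hx) (inv_mem (hMH hT))
  have hFld : ∀ x : K, x ∈ S.Fld i := fun x => by
    show x ^ p ^ (if i.val ≤ 1 then 2 * n else n) = x
    rw [if_pos hi]
    exact pow_cardE6 K hn x
  have hnn : S.nn i 1 ∈ H := by
    rw [show S.nn i 1 = nO K i from N_one (coreE6 K) hok]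
    exact hMH (nO_mem hn hq i)
  choose v hv hve using fun x : K => S.nn_conj (i := i) (hFld 1) one_ne_zero (hFld x)
  have hvi : Function.Injective v := fun a b e => by
    have h := (hve a).trans ((congrArg (S.xn i) e).trans (hve b).symm)
    exact S.x_lead (mul_left_cancel (mul_right_cancel h))
  intro x
  refine ⟨hall x, ?_⟩
  obtain ⟨y, rfl⟩ := (Finite.injective_iff_surjective.1 hvi) x
  rw [← hve y]
  exact mul_mem (mul_mem hnn (hall y)) (inv_mem hnn)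

theorem char_zero (z : Kˣ) (hz : (z : K) ^ p ^ n = z) :
    ∃ T ∈ Mq K p n, ∀ t : K, ∃ t', T * (setupE6Aut K hn hq).x 0 t * T⁻¹ =
      (setupE6Aut K hn hq).x 0 t' ∧ t' = z * t := by
  set S := setupE6Aut K hn hq
  have hz' : ((z⁻¹ : Kˣ) : K) ^ p ^ n = (z⁻¹ : Kˣ) := by simp [hz]
  have hF : ((z⁻¹ : Kˣ) : K) ∈ S.Fld 1 := pow_cardE6 K hn _
  have hT : S.tt 1 z⁻¹ ∈ Mq K p n := by
    rw [S.tt_eq, show S.nn 1 ((z⁻¹ : Kˣ) : K) = _ from N_eq (coreE6 K) (S.ok 1) _]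
    have hinv : (-((z⁻¹ : Kˣ) : K)⁻¹) ^ p ^ n = -((z⁻¹ : Kˣ) : K)⁻¹ := by
      rw [_root_.neg_pow, neg_one_pow_expChar (F := K) p n, inv_pow, hz', neg_one_mul]
    exact mul_mem (mul_mem (mul_mem (sx_mem_Mq hn hq hz').1 (sx_mem_Mq hn hq hinv).2)
      (sx_mem_Mq hn hq hz').1) (inv_mem (nO_mem hn hq 1))
  refine ⟨S.tt 1 z⁻¹, hT, fun t => ?_⟩
  have hfix : S.tt 1 z⁻¹ * S.x 0 t * (S.tt 1 z⁻¹)⁻¹ ∈
      (frobE6 K p n).fixU (inRoots (coreE6 K).R (orbE6.J 0)) := by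
    obtain ⟨h1, h2⟩ := Subgroup.mem_inf.1 (S.x_fix (i := 0) (t := t) (pow_cardE6 K hn t))
    have hT' := le_fixedE6 K hn (mem_Mq.1 hT).1
    exact Subgroup.mem_inf.2 ⟨(Subgroup.mem_normalizer_iff.1
      ((coreE6 K).torus_normalizes _ ⟨_, rfl⟩) _).1 h1, mul_mem (mul_mem hT' h2) (inv_mem hT')⟩
  obtain ⟨t', -, ht'⟩ := S.exists_x hfix
  refine ⟨t', ht'.symm, ?_⟩
  have h := ht'.trans (torus_conj_Xc (coreE6 K) (S.L 0) (par S.E (S.L 1) z⁻¹) (fun j => t ^ S.E j))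
  have h' := Xc_lead (coreE6 K) (S.comm 0) h
  obtain ⟨c20, c40, -⟩ := chi_vals
  have k0 : chevE6.simple 0 < chevE6.nroots := rootDataE6.simple_lt (nodeE6 0)
  simpa [S, setupE6Aut, Setup.E, Setup.L, par, e6Lead, e6Rest, nodeE6, RootData.torusChar_mul,
    RootData.torusChar_single, k0, c20, c40] using h'

theorem char_one (z : Kˣ) (hz : (z : K) ^ p ^ n = z) :
    ∃ T ∈ Mq K p n, ∀ t : K, ∃ t', T * (setupE6Aut K hn hq).x 1 t * T⁻¹ =
      (setupE6Aut K hn hq).x 1 t' ∧ t' = z * t := by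
  set S := setupE6Aut K hn hq
  have hz' : ((z⁻¹ : Kˣ) : K) ^ p ^ n = (z⁻¹ : Kˣ) := by simp [hz]
  have hT : S.tt 2 z⁻¹ ∈ Mq K p n := by
    rw [S.tt_eq, show S.nn 2 ((z⁻¹ : Kˣ) : K) = _ from N_eq (coreE6 K) (S.ok 2) _]
    have hinv : (-((z⁻¹ : Kˣ) : K)⁻¹) ^ p ^ n = -((z⁻¹ : Kˣ) : K)⁻¹ := by
      rw [_root_.neg_pow, neg_one_pow_expChar (F := K) p n, inv_pow, hz', neg_one_mul]
    exact mul_mem (mul_mem (mul_mem (sx_mem_Mq hn hq hz').1 (sx_mem_Mq hn hq hinv).2)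
      (sx_mem_Mq hn hq hz').1) (inv_mem (nO_mem hn hq 2))
  refine ⟨S.tt 2 z⁻¹, hT, fun t => ?_⟩
  have hfix : S.tt 2 z⁻¹ * S.x 1 t * (S.tt 2 z⁻¹)⁻¹ ∈
      (frobE6 K p n).fixU (inRoots (coreE6 K).R (orbE6.J 1)) := by
    obtain ⟨h1, h2⟩ := Subgroup.mem_inf.1 (S.x_fix (i := 1) (t := t) (pow_cardE6 K hn t))
    have hT' := le_fixedE6 K hn (mem_Mq.1 hT).1
    exact Subgroup.mem_inf.2 ⟨(Subgroup.mem_normalizer_iff.1
      ((coreE6 K).torus_normalizes _ ⟨_, rfl⟩) _).1 h1, mul_mem (mul_mem hT' h2) (inv_mem hT')⟩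
  obtain ⟨t', -, ht'⟩ := S.exists_x hfix
  refine ⟨t', ht'.symm, ?_⟩
  have h := ht'.trans (torus_conj_Xc (coreE6 K) (S.L 1) (par S.E (S.L 2) z⁻¹) (fun j => t ^ S.E j))
  have h' := Xc_lead (coreE6 K) (S.comm 1) h
  obtain ⟨-, -, c32⟩ := chi_vals
  have k2 : chevE6.simple 2 < chevE6.nroots := rootDataE6.simple_lt (nodeE6 2)
  simpa [S, setupE6Aut, Setup.E, Setup.L, par, e6Lead, e6Rest, nodeE6,
    RootData.torusChar_single, k2, c32] using h'

/-- A non-rational element in the unipotent group generates everything with the rational points. -/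
theorem top_of_unip {H : Subgroup (GL chevE6.Idx K)} (hMH : Mq K p n ≤ H) (hHG : H ≤ Gq K p n)
    {u : GL chevE6.Idx K} (hu : u ∈ H) (huU : u ∈ chevE6.posUnipotent K) (huM : u ∉ Mq K p n) :
    Gq K p n ≤ H := by
  rw [posUnipotent_eq_htSet (coreE6 K)] at huU
  have h66 := exists_top hn hq hMH hHG 9 le_rfl (by omega) hu huM huU
  have hall := has_all hn hq hMH h66
  obtain ⟨r56, r42, p56, p42, hr0, hr1⟩ := orbit_pairs
  obtain ⟨t0, ht0, hx0⟩ := exists_param_orbit hn hq hMH hHG (i := 0) (a := rt 56)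
    (by rw [r56]; exact hr0) (hall chevE6.nroots (rt 56) (by omega) (by rw [r56]; decide) p56)
  obtain ⟨t1, ht1, hx1⟩ := exists_param_orbit hn hq hMH hHG (i := 1) (a := rt 42)
    (by rw [r42]; exact hr1) (hall chevE6.nroots (rt 42) (by omega) (by rw [r42]; decide) p42)
  have h0 := x_all hn hq hMH (i := 0) (by decide) (char_zero hn hq) hx0 ht0
  have h1 := x_all hn hq hMH (i := 1) (by decide) (char_one hn hq) hx1 ht1
  refine (setupE6Aut K hn hq).gen_le H fun i t ht => ?_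
  fin_cases i
  · exact h0 t
  · exact h1 t
  · exact ⟨hMH (sx_mem_Mq hn hq (show t ^ p ^ n = t from ht)).1,
      hMH (sx_mem_Mq hn hq (show t ^ p ^ n = t from ht)).2⟩
  · exact ⟨hMH (sx_mem_Mq hn hq (show t ^ p ^ n = t from ht)).1,
      hMH (sx_mem_Mq hn hq (show t ^ p ^ n = t from ht)).2⟩

end CfsgLib.TwistAut.SubE6
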