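import Cfsg.Agent.Lib.TwistAut.SubTabE6
import Cfsg.Agent.Lib.TwistAut.Fix
import Cfsg.Agent.Lib.TwistedStr.StrE6

/-! The rational points of ²E₆: elements of the unipotent group with rational coordinates. -/

set_option autoImplicit false
set_option linter.unusedSectionVars false

namespace CfsgLib.TwistAut.SubE6

open Cfsg.Lie CfsgLib.ChevStr CfsgLib.Twisted
open scoped MatrixGroups

variable {K : Type*} [Field K] [Fintype K] {p n : ℕ} [Fact p.Prime] [CharP K p]

variable (K p n) in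
/-- The field automorphism `t ↦ t ^ q`. -/
noncomputable def sig : K ≃+* K :=
  RingEquiv.ofBijective (iterateFrobenius K p n)
    (Finite.injective_iff_bijective.1 (iterateFrobenius K p n).injective)

theorem sig_apply (t : K) : sig K p n t = t ^ p ^ n := iterateFrobenius_def p n t

variable (K p n) in
/-- The action of the field automorphism on matrices. -/
noncomputable def tau : GL chevE6.Idx K →* GL chevE6.Idx K :=
  ChevField.mapGL (D := chevE6) (sig K p n).toRingHom

variable (K p n) in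
/-- The group. -/
noncomputable abbrev Gq : Subgroup (GL chevE6.Idx K) := twistedE6 K (p ^ n)

variable (K p n) in
/-- The rational points. -/
noncomputable def Mq : Subgroup (GL chevE6.Idx K) :=
  Gq K p n ⊓ (tau K p n).eqLocus (MonoidHom.id _)

theorem mem_Mq {g : GL chevE6.Idx K} : g ∈ Mq K p n ↔ g ∈ Gq K p n ∧ tau K p n g = g := Iff.rfl

theorem tau_x (r : ℕ) (t : K) : tau K p n ((coreE6 K).xGL r t) = (coreE6 K).xGL r (t ^ p ^ n) := by
  rw [tau, ChevField.mapGL_xGL, sig_apply]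

theorem rational_of_xGL {r : ℕ} (hr : r < chevE6.nroots) {t : K}
    (h : (coreE6 K).xGL r t ∈ Mq K p n) : t ^ p ^ n = t := by
  have h1 := (mem_Mq.1 h).2
  rw [tau_x] at h1
  exact (coreE6 K).xGL_injective hr h1

theorem tau_word {w : List (ℕ × K)} (h : ∀ e ∈ w, e.2 ^ p ^ n = e.2) :
    tau K p n ((coreE6 K).wordGL w) = (coreE6 K).wordGL w := by
  rw [tau, ChevField.mapGL_wordGL]
  refine congrArg (coreE6 K).wordGL ((List.map_congr_left fun e he => ?_).trans (List.map_id w))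
  rw [sig_apply, h e he]
  rfl

section
variable (hn : Fintype.card K = (p ^ n) * (p ^ n)) (hq : 2 ≤ p ^ n)
include hn hq

theorem tau_mem {g : GL chevE6.Idx K} (hg : g ∈ Gq K p n) : tau K p n g ∈ Gq K p n := by
  refine ((Subgroup.closure_le _).2 ?_ : Gq K p n ≤ (Gq K p n).comap (tau K p n)) hg
  rintro x ⟨w, hw, hx⟩
  obtain rfl : x = (coreE6 K).wordGL w := Units.ext (hx.trans ((coreE6 K).coe_wordGL w).symm)
  rw [SetLike.mem_coe, Subgroup.mem_comap, tau, ChevField.mapGL_wordGL]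
  apply (coreE6 K).wordGL_mem_gen
  rcases hw with ⟨t, ht, r, hr, rfl⟩ | ⟨t, rs, hrs, rfl⟩
  · exact Or.inl ⟨sig K p n t, by rw [← map_pow, ht], r, hr, rfl⟩
  · exact Or.inr ⟨sig K p n t, rs, hrs, by simp⟩

theorem act_eq {g : GL chevE6.Idx K} (hg : g ∈ Gq K p n) : (frobE6 K p n).act g = g :=
  (le_fixedE6 K hn hg).2

theorem pos_mem {g : GL chevE6.Idx K} (hg : g ∈ chevE6.posUnipotent K)
    (hf : (frobE6 K p n).act g = g) : g ∈ Gq K p n := by
  refine (gensE6 K hn hq).fixU_pos.1 (Subgroup.mem_inf.2 ⟨?_, (frobE6 K p n).mem_fixedSub.2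
    ⟨(coreE6 K).borel_le_group (le_sup_left (b := chevE6.diagonalSubgroup K) hg), hf⟩⟩)
  rwa [← (coreE6 K).posUnipotent_eq]

theorem pow_sq (t : K) : (t ^ p ^ n) ^ p ^ n = t := by
  rw [← pow_mul, ← hn, FiniteField.pow_card]

theorem sign_pow (r : ℕ) (h : (e6Sym.sign r : K) = 1 ∨ (e6Sym.sign r : K) = -1) :
    (e6Sym.sign r : K) ^ p ^ n = e6Sym.sign r := by
  rcases h with h | h <;> rw [h]
  · exact one_pow _
  · exact neg_one_pow_expChar p n

/-- The coordinate at the image of a root. -/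
theorem coord_rho {S S' : Set ℕ} (h : (coreE6 K).Level S S') (hS : (frobE6 K p n).Stable S)
    {a : Fin chevE6.nroots} (ha : (a : ℕ) ∈ S) (ha' : (a : ℕ) ∉ S') (hρ : (rhoE6 a : ℕ) ∉ S')
    {g : GL chevE6.Idx K} (hgS : g ∈ (coreE6 K).Ucl S) (hg : g ∈ Gq K p n) :
    (coreE6 K).coord S (rhoE6 a) g = (e6Sym.sign a.val : K) * (coreE6 K).coord S a g ^ p ^ n := by
  have := (frobE6 K p n).coord_act h hS a ha ha' hρ hgS
  rw [act_eq hn hq hg] at this
  exact this

theorem coord_fix {S S' : Set ℕ} (h : (coreE6 K).Level S S') (hS : (frobE6 K p n).Stable S)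
    {a : Fin chevE6.nroots} (ha : (a : ℕ) ∈ S) (ha' : (a : ℕ) ∉ S') (hρ : rhoE6 a = a)
    {g : GL chevE6.Idx K} (hgS : g ∈ (coreE6 K).Ucl S) (hg : g ∈ Gq K p n) :
    (coreE6 K).coord S a g ^ p ^ n = (coreE6 K).coord S a g := by
  have := coord_rho hn hq h hS ha ha' (by rw [hρ]; exact ha') hgS hg
  rw [hρ, (pair_tab a).2.2.2.2.1 hρ, Int.cast_one, one_mul] at this
  exact this.symm

variable (p n) in
omit hn hq in
/-- The element of a pair of roots. -/
noncomputable def pairEl (a : Fin chevE6.nroots) (t : K) : GL chevE6.Idx K :=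
  (coreE6 K).xGL a t * (coreE6 K).xGL (rhoE6 a) ((e6Sym.sign a.val : K) * t ^ p ^ n)

theorem pairEl_mem {a : Fin chevE6.nroots} (ha : rhoE6 a ≠ a) (hpos : chevE6.IsPosRoot a.val)
    (t : K) : pairEl p n a t ∈ Gq K p n := by
  obtain ⟨hrr, -, -, -, -, h⟩ := pair_tab a
  obtain ⟨hneg, hterms, hsign⟩ := h ha
  have hρpos : chevE6.IsPosRoot (rhoE6 a).val := (frobE6 K p n).ρ_pos a hpos
  refine pos_mem hn hq (mul_mem ((coreE6 K).xGL_mem_posUnipotent hpos _)
    ((coreE6 K).xGL_mem_posUnipotent hρpos _)) ?_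
  rw [pairEl, (frobE6 K p n).act_mul ((coreE6 K).xGL_mem_group _ _) ((coreE6 K).xGL_mem_group _ _),
    (frobE6 K p n).act_x, (frobE6 K p n).act_x]
  show (coreE6 K).xGL (rhoE6 a) ((e6Sym.sign a.val : K) * t ^ p ^ n) *
    (coreE6 K).xGL (rhoE6 (rhoE6 a))
      ((e6Sym.sign (rhoE6 a).val : K) * ((e6Sym.sign a.val : K) * t ^ p ^ n) ^ p ^ n) = _
  rw [hrr, mul_pow, sign_pow hn hq _ ((frobE6 K p n).ε_unit a), pow_sq hn hq, ← mul_assoc,
    ← Int.cast_mul, mul_comm (e6Sym.sign _), hsign, Int.cast_one, one_mul,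
    (coreE6 K).xGL_commute a.isLt (rhoE6 a).isLt (fun e => ha (Fin.ext e)) hneg (by simp [hterms])]

theorem single_mem {a : Fin chevE6.nroots} (ha : rhoE6 a = a) (hpos : chevE6.IsPosRoot a.val)
    {t : K} (ht : t ^ p ^ n = t) : (coreE6 K).xGL a t ∈ Mq K p n :=
  mem_Mq.2 ⟨(gensE6 K hn hq).fixed_mem (fixedRootE6 K a.isLt hpos ha ((pair_tab a).2.2.2.2.1 ha)) ht,
    by rw [tau_x, ht]⟩

/-- An element with rational coordinates on a level is rational modulo the next level. -/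
theorem split_level {S S' : Set ℕ} (h : (coreE6 K).Level S S') (hS : (frobE6 K p n).Stable S)
    (hS' : ∀ r : Fin chevE6.nroots, (r : ℕ) ∈ S → (r : ℕ) ∉ S' → (rhoE6 r : ℕ) ∉ S')
    {u : GL chevE6.Idx K} (hu : u ∈ Gq K p n) (huS : u ∈ (coreE6 K).Ucl S)
    (hrat : ∀ r ∈ S, r ∉ S' → (coreE6 K).coord S r u ^ p ^ n = (coreE6 K).coord S r u) :
    ∃ v ∈ Mq K p n, v ∈ (coreE6 K).Ucl S ∧ v⁻¹ * u ∈ (coreE6 K).Ucl S' := by
  classical
  set C := coreE6 K
  suffices ∀ X : Finset ℕ, ∀ u ∈ Gq K p n, u ∈ C.Ucl S →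
      (∀ r ∈ S, r ∉ S' → C.coord S r u ^ p ^ n = C.coord S r u) →
      (∀ r ∈ S, r ∉ S' → r ∉ X → C.coord S r u = 0) →
      ∃ v ∈ Mq K p n, v ∈ C.Ucl S ∧ v⁻¹ * u ∈ C.Ucl S' by
    exact this (Finset.range chevE6.nroots) u hu huS hrat fun r hr _ hX =>
      absurd (Finset.mem_range.2 (h.pos r hr).1) hX
  intro X
  induction X using Finset.induction_on with
  | empty =>
    intro u _ huS _ h0
    exact ⟨1, one_mem _, one_mem _, by
      rw [inv_one, one_mul]
      exact C.mem_Ucl_of_coord h huS fun r hr hr' => h0 r hr hr' (Finset.notMem_empty r)⟩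
  | insert b X _ ih =>
    intro u hu huS hrat h0
    by_cases hb : b ∈ S ∧ b ∉ S'
    swap
    · exact ih u hu huS hrat fun r hr hr' hX => h0 r hr hr' fun e =>
        (Finset.mem_insert.1 e).elim (fun e => hb (e ▸ ⟨hr, hr'⟩)) hX
    obtain ⟨a, rfl⟩ : ∃ a : Fin chevE6.nroots, (a : ℕ) = b := ⟨⟨b, (h.pos b hb.1).1⟩, rfl⟩
    set c := C.coord S a u with hc
    have hcr : c ^ p ^ n = c := hrat a hb.1 hb.2
    obtain ⟨v, hvM, hvS, hv⟩ : ∃ v ∈ Mq K p n, v ∈ C.Ucl S ∧ C.coord S a v = c ∧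
        ∀ r ∈ S, r ∉ S' → C.coord S r v ≠ 0 →
          r = a ∨ (r = rhoE6 a ∧ C.coord S r v = C.coord S r u) := by
      by_cases hρ : rhoE6 a = a
      · refine ⟨C.xGL a c, single_mem hn hq hρ (h.pos a hb.1) hcr, C.xGL_mem_Ucl hb.1 _,
          C.coord_xGL_self h hb.1 hb.2 c, fun r hr hr' hne => ?_⟩
        by_contra hcon
        exact hne (C.coord_of_mem h hr hr' (C.xGL_mem_Ucl (S := S \ {r})
          ⟨hb.1, fun e : (a : ℕ) = r => hcon (Or.inl e.symm)⟩ _))
      · have hρS : (rhoE6 a : ℕ) ∈ S := hS a hb.1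
        have hρS' := hS' a hb.1 hb.2
        have hne' : (rhoE6 a : ℕ) ≠ a := fun e => hρ (Fin.ext e)
        have hword : ∀ r ∈ S, r ∉ S' → C.coord S r (pairEl p n a c) =
            (if (a : ℕ) = r then c else 0) +
              if (rhoE6 a : ℕ) = r then (e6Sym.sign a.val : K) * c ^ p ^ n else 0 := by
          intro r hr hr'
          rw [pairEl, C.coord_mul h hr hr' (C.xGL_mem_Ucl hb.1 _) (C.xGL_mem_Ucl hρS _)]
          congr 1
          · split_ifs with e
            · subst e; exact C.coord_xGL_self h hr hr' c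
            · exact C.coord_of_mem h hr hr' (C.xGL_mem_Ucl (S := S \ {r}) ⟨hb.1, e⟩ _)
          · split_ifs with e
            · subst e; exact C.coord_xGL_self h hr hr' _
            · exact C.coord_of_mem h hr hr' (C.xGL_mem_Ucl (S := S \ {r}) ⟨hρS, e⟩ _)
        refine ⟨pairEl p n a c, mem_Mq.2 ⟨pairEl_mem hn hq hρ (h.pos a hb.1) c, ?_⟩,
          mul_mem (C.xGL_mem_Ucl hb.1 _) (C.xGL_mem_Ucl hρS _), ?_, fun r hr hr' hne => ?_⟩
        · rw [pairEl, map_mul, tau_x, tau_x, mul_pow,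
            sign_pow hn hq _ ((frobE6 K p n).ε_unit a), hcr, hcr]
        · rw [hword a hb.1 hb.2, if_pos rfl, if_neg hne', add_zero]
        · rw [hword r hr hr'] at hne
          by_cases e1 : (a : ℕ) = r
          · exact Or.inl e1.symm
          by_cases e2 : (rhoE6 a : ℕ) = r
          · refine Or.inr ⟨e2.symm, ?_⟩
            rw [hword r hr hr', if_neg e1, if_pos e2, zero_add, hc, ← e2]
            exact (coord_rho hn hq h hS hb.1 hb.2 hρS' huS hu).symm
          · rw [if_neg e1, if_neg e2, add_zero] at hne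
            exact absurd rfl hne
    have hvG := (mem_Mq.1 hvM).1
    have hdiff : ∀ r ∈ S, r ∉ S' →
        C.coord S r (v⁻¹ * u) = C.coord S r u - C.coord S r v := fun r hr hr' => by
      have h3 := C.coord_mul h hr hr' hvS (mul_mem (inv_mem hvS) huS)
      rw [mul_inv_cancel_left] at h3
      rw [h3]; ring
    obtain ⟨v', hv'M, hv'S, hv'⟩ := ih (v⁻¹ * u) (mul_mem (inv_mem hvG) hu)
      (mul_mem (inv_mem hvS) huS) (fun r hr hr' => by
        rw [hdiff r hr hr']
        by_cases hz : C.coord S r v = 0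
        · rw [hz, sub_zero]; exact hrat r hr hr'
        rcases hv.2 r hr hr' hz with rfl | ⟨-, e⟩
        · rw [hv.1, ← hc, sub_self, zero_pow (pow_ne_zero _ (Fact.out : p.Prime).ne_zero)]
        · rw [e, sub_self, zero_pow (pow_ne_zero _ (Fact.out : p.Prime).ne_zero)])
      fun r hr hr' hX => by
        rw [hdiff r hr hr']
        by_cases hz : C.coord S r v = 0
        · rw [hz, sub_zero]
          by_cases e : r = (a : ℕ)
          · subst e
            rw [hv.1] at hz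
            exact hz
          · exact h0 r hr hr' fun e' => (Finset.mem_insert.1 e').elim e hX
        rcases hv.2 r hr hr' hz with rfl | ⟨-, e⟩
        · rw [hv.1, ← hc, sub_self]
        · rw [e, sub_self]
    exact ⟨v * v', mul_mem hvM hv'M, mul_mem hvS hv'S, by
      rw [mul_inv_rev, mul_assoc]; exact hv'⟩

end

end CfsgLib.TwistAut.SubE6
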