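import Cfsg.Agent.Lib.TwistAut.TypeE6
import Cfsg.Agent.Lib.TwistAut.Levels

/-! Finite checks on the root system of E6 used for the rational points of ²E₆. -/

set_option autoImplicit false

namespace CfsgLib.TwistAut.SubE6

open Cfsg.Lie CfsgLib.ChevStr CfsgLib.Twisted

/-- The height of a root. -/
def ht (r : ℕ) : ℤ := heightHom _ (rootDataE6.α r)

/-- The reflection of an orbit. -/
def wE (i : Fin 4) : Equiv.Perm (Fin chevE6.nroots) :=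
  reflDataE6.wordPerm (e6Lead i :: e6Rest i)

/-- A root of E6. -/
def rt (k : ℕ) (h : k < chevE6.nroots := by decide) : Fin chevE6.nroots := ⟨k, h⟩

/-- The roots `α₃+α₄`, `α₄+α₅` and `α₃+α₄+α₅`. -/
def midRoots : List ℕ := [40, 43, 44]

/-- The nodes orthogonal to the highest root. -/
def leviNodes : Finset (Fin chevE6.rank) := Finset.univ.erase (nodeE6 1)

theorem pair_tab : ∀ r : Fin chevE6.nroots,
    rhoE6 (rhoE6 r) = r ∧ ht (rhoE6 r) = ht r ∧ rootDataE6.α (rhoE6 r) (nodeE6 1) = rootDataE6.α r (nodeE6 1) ∧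
    (SuppIn rootDataE6 leviNodes r → SuppIn rootDataE6 leviNodes (rhoE6 r)) ∧
    (rhoE6 r = r → e6Sym.sign r.val = 1) ∧
    (rhoE6 r ≠ r → (rhoE6 r : ℕ) ≠ chevE6.neg r.val ∧ chevE6.commTerms r.val (rhoE6 r).val = [] ∧
      e6Sym.sign r.val * e6Sym.sign (rhoE6 r).val = 1) := by
  decide +kernel

theorem high_tab : ∀ r : Fin chevE6.nroots, chevE6.IsPosRoot r.val →
    (9 ≤ ht r.val → rhoE6 r = r) ∧ ht r.val < 12 ∧ (ht r.val = 8 → r.val = 66 ∨ r.val = 68) := by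
  decide +kernel

theorem top_tab : chevE6.IsPosRoot 66 ∧ chevE6.IsPosRoot 68 ∧ ht 66 = 8 ∧ ht 68 = 8 ∧
    rhoE6 (rt 66) = rt 68 ∧ rhoE6 (rt 68) = rt 66 := by decide +kernel

theorem up_tab : ∀ r : Fin chevE6.nroots, rhoE6 r ≠ r → chevE6.IsPosRoot r.val →
    r.val = 66 ∨ r.val = 68 ∨ ∃ i, r.val < (wE i r).val ∧ chevE6.IsPosRoot (wE i r).val ∧
      rhoE6 (wE i r) ≠ wE i r ∧ wE i (rhoE6 r) = rhoE6 (wE i r) := by decide +kernel

theorem fix_up_tab : ∀ r : Fin chevE6.nroots, rhoE6 r = r → r.val ≠ 71 →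
    ∃ i, r.val < (wE i r).val ∧ rhoE6 (wE i r) = wE i r := by decide +kernel

theorem fix_down_tab : ∀ r : Fin chevE6.nroots, rhoE6 r = r → r.val ≠ 0 →
    ∃ i, (wE i r).val < r.val ∧ rhoE6 (wE i r) = wE i r ∧ ∀ a ∈ rootsE6 i, a = r.val ∨
      (a ≠ chevE6.neg r.val ∧ chevE6.commTerms r.val a = []) := by decide +kernel

theorem simple_tab : ∀ i, ∀ a ∈ rootsE6 i, ∀ s : Fin chevE6.nroots, chevE6.IsPosRoot s.val →
    s.val = a ∨ (s.val ≠ chevE6.neg a ∧ ∀ c ∈ chevE6.commTerms a s.val,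
      chevE6.IsPosRoot c.1 ∧ ht c.1 = ht s.val + 1 ∧ c.2.2 = (1, 1)) := by decide +kernel

/-- For each short positive root below the top: an orbit and a root above it. -/
def stepData : List (ℕ × Fin 4 × ℕ) :=
  [(36, 1, 38), (37, 0, 38), (38, 2, 41), (40, 0, 41), (41, 1, 45), (42, 0, 57), (43, 0, 58),
    (45, 3, 52), (48, 0, 49), (49, 1, 52), (50, 0, 61), (52, 2, 54), (54, 1, 55), (55, 0, 66),
    (56, 1, 57), (57, 2, 58), (58, 1, 59), (59, 3, 62), (61, 1, 62), (62, 2, 64), (64, 1, 67),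
    (67, 0, 68)]

theorem stepData_cover : ∀ r : Fin chevE6.nroots, rhoE6 r ≠ r → chevE6.IsPosRoot r.val →
    r.val = 66 ∨ r.val = 68 ∨ ∃ e ∈ stepData, e.1 = r.val := by decide +kernel

theorem stepData_spec : ∀ e ∈ stepData, chevE6.IsPosRoot e.2.2 ∧ ht e.2.2 = ht e.1 + 1 ∧
    ((rootsE6 e.2.1).map fun a => commCoef chevE6 a e.1 e.2.2).sum ∈ [(1 : ℤ), -1] ∧
    ∀ a ∈ rootsE6 e.2.1, ∀ s : Fin chevE6.nroots, chevE6.IsPosRoot s.val → ht e.1 ≤ ht s.val →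
      s.val ≠ e.1 → commCoef chevE6 a s.val e.2.2 = 0 := by decide +kernel

theorem center_tab : ∀ r : Fin chevE6.nroots,
    (2 ≤ rootDataE6.α r.val (nodeE6 1) → r.val = 71) ∧
    (1 ≤ rootDataE6.α r.val (nodeE6 1) → chevE6.IsPosRoot r.val) ∧
    (chevE6.IsPosRoot r.val → r.val ≠ 71 → 71 ≠ chevE6.neg r.val ∧ chevE6.commTerms r.val 71 = []) ∧
    (chevE6.IsPosRoot r.val → SuppIn rootDataE6 leviNodes r →
      r.val ≠ chevE6.neg 0 ∧ r.val ≠ 0 ∧ chevE6.commTerms 0 r.val = []) := by decide +kernel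

theorem highest_tab : chevE6.IsPosRoot 71 ∧ rootDataE6.α 71 (nodeE6 1) = 2 ∧
    rhoE6 (rt 71) = rt 71 ∧ rhoE6 (rt 0) = rt 0 := by decide +kernel

/-- Long roots orthogonal to the highest one as sums of roots of the middle levels. -/
def leviData : List (ℕ × ℕ × ℕ × ℕ) :=
  [(11, 46, 53, 8), (27, 46, 65, 20), (32, 46, 69, 24), (39, 47, 70, 25), (44, 51, 70, 25),
    (60, 63, 70, 25)]

theorem leviData_spec : ∀ e ∈ leviData,
    (∃ h : e.2.1 < chevE6.nroots, chevE6.IsPosRoot e.2.1 ∧ rhoE6 ⟨e.2.1, h⟩ = ⟨e.2.1, h⟩) ∧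
    (∃ h : e.2.2.1 < chevE6.nroots, chevE6.IsPosRoot e.2.2.1 ∧ rhoE6 ⟨e.2.2.1, h⟩ = ⟨e.2.2.1, h⟩) ∧
    e.2.2.1 ≠ 0 ∧ e.2.2.1 ≠ chevE6.neg 0 ∧
    (∃ z ∈ [(1 : ℤ), -1], chevE6.commTerms 0 e.2.2.1 = [(e.2.2.2, z, 1, 1)]) ∧
    e.2.2.2 < chevE6.nroots ∧ e.2.2.2 ≠ e.2.1 ∧ e.2.2.2 ≠ chevE6.neg e.2.1 ∧
    (∃ z ∈ [(1 : ℤ), -1], chevE6.commTerms e.2.1 e.2.2.2 = [(e.1, z, 1, 1)]) ∧
    e.1 < chevE6.nroots := by decide +kernel

theorem leviData_norm : ∀ e ∈ leviData, rootDataE6.α e.1 (nodeE6 1) = 0 ∧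
    ∀ s : Fin chevE6.nroots, 1 ≤ rootDataE6.α s.val (nodeE6 1) → s.val ≠ e.1 ∧
      s.val ≠ chevE6.neg e.1 ∧ ∀ c ∈ chevE6.commTerms e.1 s.val,
        1 ≤ rootDataE6.α c.1 (nodeE6 1) ∧ c.2.2 = (1, 1) := by decide +kernel

/-- For each short root of the middle level: a root of `leviData` and their sum. -/
def coverData : List (ℕ × ℕ × ℕ) :=
  [(48, 60, 66), (49, 44, 55), (50, 60, 68), (52, 39, 54), (54, 32, 52), (55, 27, 49),
    (61, 44, 67), (62, 39, 64), (64, 32, 62), (66, 11, 48), (67, 27, 61), (68, 11, 50)]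

theorem coverData_cover : ∀ r : Fin chevE6.nroots, rhoE6 r ≠ r →
    1 ≤ rootDataE6.α r.val (nodeE6 1) → ∃ e ∈ coverData, e.1 = r.val := by decide +kernel

theorem coverData_spec : ∀ e ∈ coverData, e.2.1 ∈ leviData.map Prod.fst ∧
    e.2.2 < chevE6.nroots ∧ rootDataE6.α e.2.2 (nodeE6 1) = 1 ∧
    commCoef chevE6 e.2.1 e.1 e.2.2 ∈ [(1 : ℤ), -1] ∧
    ∀ s : Fin chevE6.nroots, 1 ≤ rootDataE6.α s.val (nodeE6 1) → s.val ≠ e.1 →
      commCoef chevE6 e.2.1 s.val e.2.2 = 0 := by decide +kernel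

theorem mid_tab : (∀ k : Fin chevE6.nroots, SuppIn rootDataE6 {nodeE6 2, nodeE6 3, nodeE6 4} k.val →
      3 ≤ ht k.val → k.val = 44) ∧
    (∀ r ∈ [37, 39, 42, 40, 43, 44], chevE6.IsPosRoot r ∧
      SuppIn rootDataE6 {nodeE6 2, nodeE6 3, nodeE6 4} r ∧
      ((r = 37 ∨ r = 39 ∨ r = 42) ∧ ht r = 1 ∨ 2 ≤ ht r)) ∧
    (∀ a ∈ [42, 37], (39 : ℕ) = a ∨ ((39 : ℕ) ≠ chevE6.neg a ∧ ∀ c ∈ chevE6.commTerms a 39,
      c.1 ∈ midRoots ∧ c.2.2 = (1, 1))) ∧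
    commCoef chevE6 42 39 43 ∈ [(1 : ℤ), -1] ∧ commCoef chevE6 37 39 43 = 0 ∧
    commCoef chevE6 37 39 40 ∈ [(1 : ℤ), -1] ∧ commCoef chevE6 42 39 40 = 0 := by decide +kernel

theorem mid_move : (∀ s : Fin chevE6.nroots, s.val ∈ midRoots →
      chevE6.IsPosRoot (wE 2 s).val ∧ chevE6.IsPosRoot ((wE 1 * wE 0 * wE 2) s).val) ∧
    (wE 2 (rt 43)).val = chevE6.simple 2 ∧ (wE 2 (rt 40)).val = chevE6.simple 4 ∧
    ((wE 1 * wE 0 * wE 2) (rt 43)).val = chevE6.simple 0 ∧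
    ((wE 1 * wE 0 * wE 2) (rt 40)).val = chevE6.simple 5 := by decide +kernel

theorem long_tab : ∀ r : Fin chevE6.nroots, chevE6.IsPosRoot r.val →
    chevE6.IsNegRoot (((wE 0 * wE 1 * wE 2 * wE 3) ^ 6) r).val := by decide +kernel

theorem chi_tab : chevE6.cartan 3 (chevE6.simple 2) = -1 ∧ chevE6.cartan 2 (chevE6.simple 0) = -1 ∧
    chevE6.cartan 4 (chevE6.simple 0) = 0 := by decide +kernel

end CfsgLib.TwistAut.SubE6
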