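import Cfsg.Agent.Lib.TwistAut.SubBasicE6

/-! A subgroup above the rational points with a non-rational unipotent element is everything. -/

set_option autoImplicit false
set_option linter.unusedSectionVars false

namespace CfsgLib.TwistAut.SubE6

open Cfsg.Lie CfsgLib.ChevStr CfsgLib.Twisted
open scoped MatrixGroups

theorem ht_pos {r : ℕ} (hr : chevE6.IsPosRoot r) : 1 ≤ ht r :=
  rootDataE6.one_le_height_of_pos hr

variable {K : Type*} [Field K] [Fintype K] {p n : ℕ} [Fact p.Prime] [CharP K p]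
  (hn : Fintype.card K = (p ^ n) * (p ^ n)) (hq : 2 ≤ p ^ n)
include hn hq

/-- The commutator with an element of `fi` carries a coordinate one level up. -/
theorem step_coord {e : ℕ × Fin 4 × ℕ} (he : e ∈ stepData) {a : Fin chevE6.nroots}
    (hea : e.1 = a.val) (hapos : chevE6.IsPosRoot a.val) {u : GL chevE6.Idx K}
    (huS : u ∈ (coreE6 K).Ucl (htSet (coreE6 K) (ht a.val))) :
    u⁻¹ * (fi e.2.1)⁻¹ * u * fi e.2.1 ∈ (coreE6 K).Ucl (htSet (coreE6 K) (ht a.val + 1)) ∧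
      ∃ z ∈ [(1 : ℤ), -1],
        (coreE6 K).coord (htSet (coreE6 K) (ht a.val + 1)) e.2.2
          (u⁻¹ * (fi e.2.1)⁻¹ * u * fi e.2.1) =
        (z : K) * (coreE6 K).coord (htSet (coreE6 K) (ht a.val)) a u := by
  obtain ⟨e1, i, b⟩ := e
  dsimp only at hea ⊢
  subst hea
  obtain ⟨hb, hhb, hsum, hcoef⟩ := stepData_spec _ he
  dsimp only at hb hhb hsum hcoef
  set k := ht a.val with hk
  have hk1 : 1 ≤ k := ht_pos hapos
  have hS := levelHt (coreE6 K) hk1
  have hT := levelHt (coreE6 K) (k := k + 1) (by omega)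
  have ha : (a : ℕ) ∈ htSet (coreE6 K) k := mem_htSet.2 ⟨hapos, le_rfl⟩
  have ha' : (a : ℕ) ∉ htSet (coreE6 K) (k + 1) := fun h => by
    have := (mem_htSet.1 h).2; omega
  have hbT : b ∈ htSet (coreE6 K) (k + 1) := mem_htSet.2 ⟨hb, by omega⟩
  have hbT' : b ∉ htSet (coreE6 K) (k + 1 + 1) := fun h => by
    have := (mem_htSet.1 h).2; omega
  have hST : ∀ s ∈ htSet (coreE6 K) k, ∀ t ∈ htSet (coreE6 K) (k + 1),
      ∀ l, (coreE6 K).R.IsCombo s t l → l ∈ htSet (coreE6 K) (k + 1 + 1) := fun s hs t ht' l hl => by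
    obtain ⟨h1, h2⟩ := combo_height (coreE6 K) hs.1 ht'.1 hl
    exact ⟨h1, by have := hs.2; have := ht'.2; omega⟩
  have hterm : ∀ r ∈ rootsE6 i, ∀ s ∈ htSet (coreE6 K) k, s = r ∨ (s ≠ chevE6.neg r ∧
      ∀ c ∈ chevE6.commTerms r s,
        c.1 ∈ htSet (coreE6 K) (k + 1) ∧ (c.1 = b → c.2.2 = (1, 1))) := by
    intro r hr s hs
    rcases simple_tab i r hr ⟨s, hs.1.1⟩ hs.1 with h | ⟨h1, h2⟩
    · exact Or.inl h
    · refine Or.inr ⟨h1, fun c hc => ?_⟩
      obtain ⟨c1, c2, c3⟩ := h2 c hc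
      refine ⟨mem_htSet.2 ⟨c1, ?_⟩, fun _ => c3⟩
      have := (mem_htSet.1 hs).2
      change ht c.1 = ht s + 1 at c2
      omega
  have hco : ∀ r ∈ rootsE6 i, ∀ s ∈ htSet (coreE6 K) k,
      commCoef chevE6 r s b = if s = (a : ℕ) then commCoef chevE6 r a b else 0 := by
    intro r hr s hs
    split_ifs with e
    · rw [e]
    · exact hcoef r hr ⟨s, hs.1.1⟩ hs.1 hs.2 e
  have hsimp : ∀ r ∈ rootsE6 i, chevE6.IsPosRoot r := fun r hr =>
    (((rootsE6_spec i).2.2 ⟨r, (rootsE6_spec i).1 r hr⟩).1 hr).1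
  have hiT : ∀ r ∈ rootsE6 i, ∀ t ∈ htSet (coreE6 K) (k + 1),
      ∀ l, (coreE6 K).R.IsCombo r t l → l ∈ htSet (coreE6 K) (k + 1 + 1) := fun r hr t ht' l hl => by
    obtain ⟨h1, h2⟩ := combo_height (coreE6 K) (hsimp r hr) ht'.1 hl
    exact ⟨h1, by
      have := (coreE6 K).R.one_le_height_of_pos (hsimp r hr)
      have := ht'.2
      omega⟩
  obtain ⟨z, hz, hfin⟩ : ∃ z ∈ [(1 : ℤ), -1], -z = ((rootsE6 i).map fun r => commCoef chevE6 r a b).sum := by
    rcases List.mem_pair.1 hsum with h | h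
    · exact ⟨-1, by simp, by rw [h]; norm_num⟩
    · exact ⟨1, by simp, by rw [h]⟩
  have single : ∀ j, rootsE6 i = [j] →
      u⁻¹ * (fi i)⁻¹ * u * fi i ∈ (coreE6 K).Ucl (htSet (coreE6 K) (k + 1)) ∧
      (coreE6 K).coord (htSet (coreE6 K) (k + 1)) b (u⁻¹ * (fi i)⁻¹ * u * fi i) =
        (z : K) * (coreE6 K).coord (htSet (coreE6 K) k) a u := by
    intro j hj
    have hmem : j ∈ rootsE6 i := by simp [hj]
    obtain ⟨h1, h2⟩ := coord_delta (coreE6 K) hS hT ha ha' hbT hbT' (hsimp j hmem).1 hST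
      (hterm j hmem) _ (hco j hmem) (1 : K) u huS
    have hf : fi (K := K) i = (coreE6 K).xGL j 1 := by simp [fi, hj, ChevCore.wordGL_cons, ChevCore.wordGL_nil]
    rw [hj] at hfin
    simp only [List.map_cons, List.map_nil, List.sum_cons, List.sum_nil, add_zero] at hfin
    rw [hf]
    refine ⟨h1, h2.trans ?_⟩
    rw [← hfin]
    push_cast
    ring
  have double : ∀ j l, rootsE6 i = [j, l] →
      u⁻¹ * (fi i)⁻¹ * u * fi i ∈ (coreE6 K).Ucl (htSet (coreE6 K) (k + 1)) ∧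
      (coreE6 K).coord (htSet (coreE6 K) (k + 1)) b (u⁻¹ * (fi i)⁻¹ * u * fi i) =
        (z : K) * (coreE6 K).coord (htSet (coreE6 K) k) a u := by
    intro j l hjl
    have hm1 : j ∈ rootsE6 i := by simp [hjl]
    have hm2 : l ∈ rootsE6 i := by simp [hjl]
    obtain ⟨h1, h2⟩ := coord_delta₂ (coreE6 K) hS hT ha ha' hbT hbT' (hsimp j hm1).1 (hsimp l hm2)
      hST (hiT l hm2) (fun r hr => hterm r (by rw [hjl]; exact hr)) _ _ (hco j hm1) (hco l hm2)
      (1 : K) 1 u huS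
    have hf : fi (K := K) i = (coreE6 K).xGL j 1 * (coreE6 K).xGL l 1 := by
      simp [fi, hjl, ChevCore.wordGL_cons, ChevCore.wordGL_nil]
    rw [hjl] at hfin
    simp only [List.map_cons, List.map_nil, List.sum_cons, List.sum_nil, add_zero] at hfin
    rw [hf]
    refine ⟨h1, h2.trans ?_⟩
    have hfin' : -(z : K) = (commCoef chevE6 j a b : K) + (commCoef chevE6 l a b : K) := by
      rw [← Int.cast_neg, hfin, Int.cast_add]
    rw [mul_one, mul_one, ← hfin', neg_neg]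
  obtain ⟨h1, h2⟩ : u⁻¹ * (fi i)⁻¹ * u * fi i ∈ (coreE6 K).Ucl (htSet (coreE6 K) (k + 1)) ∧
      (coreE6 K).coord (htSet (coreE6 K) (k + 1)) b (u⁻¹ * (fi i)⁻¹ * u * fi i) =
        (z : K) * (coreE6 K).coord (htSet (coreE6 K) k) a u := by
    fin_cases i
    exacts [double _ _ rfl, double _ _ rfl, single _ rfl, single _ rfl]
  exact ⟨h1, z, hz, h2⟩

theorem zcast_pow {z : ℤ} (hz : z ∈ [(1 : ℤ), -1]) : (z : K) ^ p ^ n = z := by
  rcases List.mem_pair.1 hz with rfl | rfl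
  · simp
  · simpa using neg_one_pow_expChar (F := K) p n

theorem coord_top {u : GL chevE6.Idx K} (hu : u ∈ Gq K p n)
    (huS : u ∈ (coreE6 K).Ucl (htSet (coreE6 K) 8)) :
    (pairEl p n (rt 66) ((coreE6 K).coord (htSet (coreE6 K) 8) (rt 66) u))⁻¹ * u ∈
      (coreE6 K).Ucl (htSet (coreE6 K) 9) := by
  obtain ⟨p66, p68, h66, h68, hr66, -⟩ := top_tab
  set C := coreE6 K
  set c := C.coord (htSet C 8) (rt 66) u
  have hS := levelHt C (k := 8) (by norm_num)
  have hne : rhoE6 (rt 66) ≠ rt 66 := by rw [hr66]; decide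
  have m66 : ((rt 66 : Fin chevE6.nroots) : ℕ) ∈ htSet C 8 := mem_htSet.2 ⟨p66, h66.ge⟩
  have m68 : ((rt 68 : Fin chevE6.nroots) : ℕ) ∈ htSet C 8 := mem_htSet.2 ⟨p68, h68.ge⟩
  have n66 : ((rt 66 : Fin chevE6.nroots) : ℕ) ∉ htSet C (8 + 1) := fun h => by
    have := (mem_htSet.1 h).2; change 8 + 1 ≤ ht 66 at this; omega
  have n68 : ((rt 68 : Fin chevE6.nroots) : ℕ) ∉ htSet C (8 + 1) := fun h => by
    have := (mem_htSet.1 h).2; change 8 + 1 ≤ ht 68 at this; omega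
  have hpU : pairEl p n (rt 66) c ∈ C.Ucl (htSet C 8) :=
    mul_mem (C.xGL_mem_Ucl m66 _) (C.xGL_mem_Ucl (by rw [hr66]; exact m68) _)
  have hword : ∀ r ∈ htSet C 8, r ∉ htSet C (8 + 1) → C.coord (htSet C 8) r (pairEl p n (rt 66) c) =
      (if (66 : ℕ) = r then c else 0) +
        if (68 : ℕ) = r then (e6Sym.sign 66 : K) * c ^ p ^ n else 0 := by
    intro r hr hr'
    rw [pairEl, C.coord_mul hS hr hr' (C.xGL_mem_Ucl m66 _)
      (C.xGL_mem_Ucl (by rw [hr66]; exact m68) _), hr66]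
    change C.coord (htSet C 8) r (C.xGL 66 c) +
      C.coord (htSet C 8) r (C.xGL 68 ((e6Sym.sign 66 : K) * c ^ p ^ n)) = _
    congr 1
    · split_ifs with e
      · subst e; exact C.coord_xGL_self hS hr hr' c
      · exact C.coord_of_mem hS hr hr' (C.xGL_mem_Ucl (S := htSet C 8 \ {r}) ⟨m66, e⟩ _)
    · split_ifs with e
      · subst e; exact C.coord_xGL_self hS hr hr' _
      · exact C.coord_of_mem hS hr hr' (C.xGL_mem_Ucl (S := htSet C 8 \ {r}) ⟨m68, e⟩ _)
  have h9 : (9 : ℤ) = 8 + 1 := by norm_num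
  rw [h9]
  refine C.mem_Ucl_of_coord hS (mul_mem (inv_mem hpU) huS) fun r hr hr' => ?_
  have h3 := C.coord_mul hS hr hr' hpU (mul_mem (inv_mem hpU) huS)
  rw [mul_inv_cancel_left, hword r hr hr'] at h3
  have hr8 : ht r = 8 := by
    have h1 := (mem_htSet.1 hr).2
    have h2 : ¬ 8 + 1 ≤ ht r := fun h => hr' ⟨hr.1, h⟩
    omega
  rcases (high_tab ⟨r, hr.1.1⟩ hr.1).2.2 hr8 with e | e <;> change r = _ at e <;> subst e
  · rw [if_pos rfl, if_neg (by decide), add_zero, show C.coord (htSet C 8) 66 u = c from rfl] at h3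
    linear_combination -h3
  · have hρ : ((rhoE6 (rt 66) : Fin chevE6.nroots) : ℕ) ∉ htSet C (8 + 1) := by rw [hr66]; exact n68
    have h4 : C.coord (htSet C 8) 68 u = (e6Sym.sign 66 : K) * c ^ p ^ n := by
      have := coord_rho hn hq hS (stable_ht hn hq 8) m66 n66 hρ huS hu
      rw [hr66] at this
      exact this
    rw [if_neg (by decide), if_pos rfl, zero_add, h4] at h3
    linear_combination -h3

theorem exists_top {H : Subgroup (GL chevE6.Idx K)} (hMH : Mq K p n ≤ H) (hHG : H ≤ Gq K p n) :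
    ∀ (m : ℕ) {k : ℤ}, 1 ≤ k → 9 ≤ k + m → ∀ {u : GL chevE6.Idx K}, u ∈ H → u ∉ Mq K p n →
      u ∈ (coreE6 K).Ucl (htSet (coreE6 K) k) →
      ∃ y ∈ H, y ∉ Mq K p n ∧ ∃ t s, y = (coreE6 K).xGL 66 t * (coreE6 K).xGL 68 s := by
  intro m
  induction m with
  | zero =>
    intro k _ hk u hu huM huS
    exact absurd (mem_M_top hn hq (hHG hu) (by omega) huS) huM
  | succ m ih =>
    intro k hk hkm u hu huM huS
    by_cases hrat : ∀ r : Fin chevE6.nroots, chevE6.IsPosRoot r.val → ht r.val = k → rhoE6 r ≠ r →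
        (coreE6 K).coord (htSet (coreE6 K) k) r u ^ p ^ n =
          (coreE6 K).coord (htSet (coreE6 K) k) r u
    · obtain ⟨v, hvM, -, hv⟩ := rat_step hn hq hk (hHG hu) huS hrat
      refine ih (k := k + 1) (by omega) (by omega) (mul_mem (inv_mem (hMH hvM)) hu)
        (fun h => huM ?_) hv
      rw [show u = v * (v⁻¹ * u) by group]
      exact mul_mem hvM h
    simp only [not_forall] at hrat
    obtain ⟨a, hapos, haht, haρ, hane⟩ := hrat
    subst haht
    have top : ht a.val = 8 →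
        ∃ y ∈ H, y ∉ Mq K p n ∧ ∃ t s, y = (coreE6 K).xGL 66 t * (coreE6 K).xGL 68 s := by
      intro h8
      rw [h8] at huS
      set c := (coreE6 K).coord (htSet (coreE6 K) 8) (rt 66) u
      have hu9 := coord_top hn hq (hHG hu) huS
      have hpG : pairEl p n (rt 66) c ∈ Gq K p n :=
        pairEl_mem hn hq (by rw [top_tab.2.2.2.2.1]; decide) top_tab.1 c
      have hrest : (pairEl p n (rt 66) c)⁻¹ * u ∈ Mq K p n :=
        mem_M_top hn hq (mul_mem (inv_mem hpG) (hHG hu)) le_rfl hu9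
      refine ⟨pairEl p n (rt 66) c, ?_, fun h => huM ?_, c, (e6Sym.sign 66 : K) * c ^ p ^ n, ?_⟩
      · rw [show pairEl p n (rt 66) c = u * ((pairEl p n (rt 66) c)⁻¹ * u)⁻¹ by group]
        exact mul_mem hu (inv_mem (hMH hrest))
      · rw [show u = pairEl p n (rt 66) c * ((pairEl p n (rt 66) c)⁻¹ * u) by group]
        exact mul_mem h hrest
      · rw [pairEl, top_tab.2.2.2.2.1]
        rfl
    rcases stepData_cover a haρ hapos with e | e | ⟨e, he, hea⟩
    · exact top (by rw [e]; exact top_tab.2.2.1)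
    · exact top (by rw [e]; exact top_tab.2.2.2.1)
    obtain ⟨hΔ, z, hz, hzc⟩ := step_coord hn hq he hea hapos huS
    obtain ⟨hb, hhb, -, -⟩ := stepData_spec _ he
    rw [hea] at hhb
    have hfH : fi e.2.1 ∈ H := hMH (fi_mem hn hq _)
    refine ih (k := ht a.val + 1) (by omega) (by omega)
      (mul_mem (mul_mem (mul_mem (inv_mem hu) (inv_mem hfH)) hu) hfH) (fun h => hane ?_) hΔ
    have h1 := coord_rat hn hq (levelHt (coreE6 K) (k := ht a.val + 1) (by omega))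
      (r := e.2.2) (mem_htSet.2 ⟨hb, hhb.ge⟩)
      (fun h' => by have := (mem_htSet.1 h').2; omega) hΔ h
    rw [hzc, mul_pow, zcast_pow hn hq hz] at h1
    refine mul_left_cancel₀ ?_ h1
    rcases List.mem_pair.1 hz with rfl | rfl <;> simp

end CfsgLib.TwistAut.SubE6
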