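import Cfsg.Agent.Lib.TwistAut.SubCenterE6

/-! The rational points are a maximal subgroup of ²E₆. -/

set_option autoImplicit false
set_option linter.unusedSectionVars false

namespace CfsgLib.TwistAut.SubE6

open Cfsg.Lie CfsgLib.ChevStr CfsgLib.Twisted
open scoped MatrixGroups

theorem node3_ht : ∀ j : Fin chevE6.nroots, chevE6.IsPosRoot j.val →
    SuppIn rootDataE6 {nodeE6 3} j.val → ht j.val ≤ 1 := by decide +kernel

theorem long_simples : chevE6.simple 1 = 46 ∧ chevE6.simple 3 = 39 ∧ rhoE6 (rt 46) = rt 46 ∧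
    rhoE6 (rt 39) = rt 39 ∧ rootsE6 1 = [42, 37] := by decide +kernel

variable {K : Type*} [Field K] [Fintype K] {p n : ℕ} [Fact p.Prime] [CharP K p]

theorem level_39 : (coreE6 K).Level (listSet [39]) ∅ := by
  refine ⟨fun r hr => ?_, Set.empty_subset _, fun r hr s hs k hk => ?_⟩
  · obtain rfl := List.mem_singleton.1 hr
    exact (mid_tab.2.1 39 (by simp)).1
  · obtain rfl := List.mem_singleton.1 hr
    obtain rfl := List.mem_singleton.1 hs
    have hp := (mid_tab.2.1 39 (by simp)).1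
    obtain ⟨h1, h2⟩ := combo_height (coreE6 K) hp hp hk
    exfalso
    have h4 := node3_ht ⟨k, hk.1⟩ h1 fun m hm => by
      obtain ⟨-, a, b, -, -, hab⟩ := hk
      have hs39 : rootDataE6.α 39 m = 0 := by
        have h := congrFun (rootDataE6.α_simple (nodeE6 3)) m
        rw [show chevE6.simple (nodeE6 3).val = 39 from long_simples.2.1] at h
        rw [h, Pi.single_eq_of_ne]
        exact fun e => hm (Finset.mem_singleton.2 e)
      show rootDataE6.α k m = 0
      change rootDataE6.α k = (a : ℤ) • rootDataE6.α 39 + (b : ℤ) • rootDataE6.α 39 at hab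
      rw [hab]
      simp [hs39]
    change ht k ≤ 1 at h4
    change ht 39 + ht 39 ≤ ht k at h2
    have h5 : 1 ≤ ht 39 := ht_pos hp
    omega

theorem combo_mid {r s k : ℕ} (hr : r ∈ [37, 39, 42, 40, 43, 44]) (hs : s ∈ [40, 43, 44])
    (hk : (coreE6 K).R.IsCombo r s k) : k = 44 := by
  have hs' : s ∈ [37, 39, 42, 40, 43, 44] := by
    simp only [List.mem_cons, List.not_mem_nil, or_false] at hs ⊢
    tauto
  obtain ⟨hrp, hrs, hrh⟩ := mid_tab.2.1 r hr
  obtain ⟨hsp, hss, hsh⟩ := mid_tab.2.1 s hs'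
  obtain ⟨-, hh⟩ := combo_height (coreE6 K) hrp hsp hk
  have h2 : 2 ≤ ht s := by
    rcases hsh with ⟨h, -⟩ | h
    · exfalso
      simp only [List.mem_cons, List.not_mem_nil, or_false] at hs
      omega
    · exact h
  have h1 : 1 ≤ ht r := ht_pos hrp
  obtain ⟨hkn, a, b, -, -, hab⟩ := hk
  refine mid_tab.1 ⟨k, hkn⟩ (fun m hm => ?_) ?_
  · change rootDataE6.α k = (a : ℤ) • rootDataE6.α r + (b : ℤ) • rootDataE6.α s at hab
    show rootDataE6.α k m = 0
    rw [hab]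
    simp [hrs m hm, hss m hm]
  · show 3 ≤ ht k
    change ht r + ht s ≤ ht k at hh
    omega

theorem level_mid : (coreE6 K).Level (listSet midRoots) (listSet [44]) := by
  refine ⟨fun r hr => (mid_tab.2.1 r ?_).1, fun r hr => ?_, fun r hr s hs k hk => ?_⟩
  · simp only [listSet, midRoots, Set.mem_ofPred_eq, List.mem_cons, List.not_mem_nil, or_false] at hr ⊢
    tauto
  · simp only [listSet, midRoots, Set.mem_ofPred_eq, List.mem_cons, List.not_mem_nil, or_false] at hr ⊢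
    tauto
  · refine List.mem_singleton.2 (combo_mid ?_ hs hk)
    simp only [listSet, midRoots, Set.mem_ofPred_eq, List.mem_cons, List.not_mem_nil, or_false] at hr ⊢
    tauto

variable (hn : Fintype.card K = (p ^ n) * (p ^ n)) (hq : 2 ≤ p ^ n)
include hn hq

/-- Elements fixed under conjugation by the rational points up to a commutant. -/
def Stab (z : GL chevE6.Idx K) : Subgroup (GL chevE6.Idx K) where
  carrier := {l | ∀ m ∈ Mq K p n, m * l * m⁻¹ * z = z * (m * l * m⁻¹)}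
  one_mem' m _ := by simp
  mul_mem' := fun {a b} ha hb m hm => by
    rw [show m * (a * b) * m⁻¹ = m * a * m⁻¹ * (m * b * m⁻¹) by group, mul_assoc, hb m hm,
      ← mul_assoc, ha m hm, mul_assoc]
  inv_mem' := fun {a} ha m hm => by
    rw [show m * a⁻¹ * m⁻¹ = (m * a * m⁻¹)⁻¹ by group]
    exact (Commute.inv_left (ha m hm)).eq

omit hn hq in
theorem stab_conj {z l m : GL chevE6.Idx K} (hl : l ∈ Stab (p := p) (n := n) z) (hm : m ∈ Mq K p n) :
    m * l * m⁻¹ ∈ Stab (p := p) (n := n) z := by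
  intro m' hm'
  have := hl (m' * m) (mul_mem hm' hm)
  rw [show m' * (m * l * m⁻¹) * m'⁻¹ = m' * m * l * (m' * m)⁻¹ by group]
  exact this

omit hn hq in
theorem stab_comm {z l : GL chevE6.Idx K} (hl : l ∈ Stab (p := p) (n := n) z) : l * z = z * l := by
  simpa using hl 1 (one_mem _)

theorem long_in_stab {z : GL chevE6.Idx K}
    (h71 : (coreE6 K).xGL 71 (1 : K) ∈ Stab (p := p) (n := n) z) :
    ∀ (m : ℕ) (r : Fin chevE6.nroots), chevE6.nroots ≤ r.val + m → rhoE6 r = r →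
      ∃ e : K, e ≠ 0 ∧ (coreE6 K).xGL r e ∈ Stab (p := p) (n := n) z := by
  intro m
  induction m with
  | zero => intro r hr; exact absurd r.isLt (by omega)
  | succ m ih =>
    intro r hr hρ
    by_cases e : r.val = 71
    · refine ⟨1, one_ne_zero, ?_⟩
      rw [e]
      exact h71
    obtain ⟨i, hlt, hwρ⟩ := fix_up_tab r hρ e
    obtain ⟨c, hc0, hc⟩ := ih (wE i r) (by omega) hwρ
    obtain ⟨c', hc'⟩ := (nO_moves_inv (K := K) i).2 (wE i r) c
    rw [inv_inv, Equiv.Perm.inv_def, Equiv.symm_apply_apply] at hc'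
    refine ⟨c', fun h => hc0 ?_, ?_⟩
    · rw [h, (coreE6 K).xGL_zero] at hc'
      have : (coreE6 K).xGL (wE i r) c = 1 := by
        rw [show (coreE6 K).xGL (wE i r) c =
          nO K i * ((nO K i)⁻¹ * (coreE6 K).xGL (wE i r) c * nO K i) * (nO K i)⁻¹ by group, hc']
        group
      exact ((coreE6 K).xGL_eq_one_iff (wE i r).isLt).1 this
    · rw [← hc']
      have := stab_conj hc (inv_mem (nO_mem (K := K) hn hq i))
      rwa [inv_inv] at this

theorem mid_elem {z : GL chevE6.Idx K}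
    (h71 : (coreE6 K).xGL 71 (1 : K) ∈ Stab (p := p) (n := n) z) :
    ∃ d ∈ Stab (p := p) (n := n) z, d ∈ (coreE6 K).Ucl (listSet midRoots) ∧
      (coreE6 K).coord (listSet midRoots) 43 d ≠ 0 ∧ (coreE6 K).coord (listSet midRoots) 40 d ≠ 0 := by
  set C := coreE6 K
  obtain ⟨-, -, -, hρ39, hroots⟩ := long_simples
  obtain ⟨e, he0, he⟩ := long_in_stab hn hq h71 chevE6.nroots (rt 39) (by omega) hρ39
  change C.xGL 39 e ∈ _ at he
  have hf : fi (K := K) 1 = C.xGL 42 1 * C.xGL 37 1 := by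
    simp [fi, hroots, C, ChevCore.wordGL_cons, ChevCore.wordGL_nil]
  have hfM := fi_mem (K := K) hn hq 1
  rw [hf] at hfM
  refine ⟨(C.xGL 39 e)⁻¹ * (C.xGL 42 1 * C.xGL 37 1)⁻¹ * C.xGL 39 e * (C.xGL 42 1 * C.xGL 37 1),
    ?_, ?_⟩
  · have := mul_mem (inv_mem he) (stab_conj he (inv_mem hfM))
    rw [inv_inv] at this
    simpa [mul_assoc] using this
  obtain ⟨-, -, hterm, h43a, h43b, h40a, h40b⟩ := mid_tab
  have h39 : (39 : ℕ) ∈ listSet [39] := List.mem_singleton.2 rfl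
  have h37p : chevE6.IsPosRoot 37 := (mid_tab.2.1 37 (by simp)).1
  have h42p : chevE6.IsPosRoot 42 := (mid_tab.2.1 42 (by simp)).1
  have hST : ∀ s ∈ listSet [39], ∀ t ∈ listSet midRoots, ∀ l, C.R.IsCombo s t l → l ∈ listSet [44] := by
    intro s hs t ht' l hl
    obtain rfl := List.mem_singleton.1 hs
    exact List.mem_singleton.2 (combo_mid (by simp) ht' hl)
  have hiT : ∀ t ∈ listSet midRoots, ∀ l, C.R.IsCombo 37 t l → l ∈ listSet [44] := fun t ht' l hl =>
    List.mem_singleton.2 (combo_mid (by simp) ht' hl)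
  have hT : ∀ k : ℕ, ∀ r ∈ [42, 37], ∀ s ∈ listSet [39], s = r ∨ (s ≠ chevE6.neg r ∧
      ∀ c ∈ chevE6.commTerms r s, c.1 ∈ listSet midRoots ∧ (c.1 = k → c.2.2 = (1, 1))) := by
    intro k r hr s hs
    obtain rfl := List.mem_singleton.1 hs
    rcases hterm r hr with h | ⟨h1, h2⟩
    · exact Or.inl h
    · exact Or.inr ⟨h1, fun c hc => ⟨(h2 c hc).1, fun _ => (h2 c hc).2⟩⟩
  have hco : ∀ r k : ℕ, ∀ s ∈ listSet [39],
      commCoef chevE6 r s k = if s = 39 then commCoef chevE6 r 39 k else 0 := by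
    intro r k s hs
    obtain rfl := List.mem_singleton.1 hs
    rw [if_pos rfl]
  have m43 : (43 : ℕ) ∈ listSet midRoots ∧ (43 : ℕ) ∉ listSet [44] := by simp [listSet, midRoots]
  have m40 : (40 : ℕ) ∈ listSet midRoots ∧ (40 : ℕ) ∉ listSet [44] := by simp [listSet, midRoots]
  have hg : C.xGL 39 e ∈ C.Ucl (listSet [39]) := C.xGL_mem_Ucl h39 _
  obtain ⟨a1, a2⟩ := coord_delta₂ C level_39 level_mid h39 (Set.notMem_empty _) m43.1 m43.2
    h42p.1 h37p hST hiT (hT 43) _ _ (hco 42 43) (hco 37 43) (1 : K) 1 _ hg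
  obtain ⟨-, b2⟩ := coord_delta₂ C level_39 level_mid h39 (Set.notMem_empty _) m40.1 m40.2
    h42p.1 h37p hST hiT (hT 40) _ _ (hco 42 40) (hco 37 40) (1 : K) 1 _ hg
  rw [C.coord_xGL_self level_39 h39 (Set.notMem_empty _)] at a2 b2
  refine ⟨a1, ?_, ?_⟩
  · rw [a2, h43b]
    refine mul_ne_zero ?_ he0
    rcases List.mem_pair.1 h43a with h | h <;> simp [h]
  · rw [b2, h40b]
    refine mul_ne_zero ?_ he0
    rcases List.mem_pair.1 h40a with h | h <;> simp [h]

theorem simple_elems {z : GL chevE6.Idx K}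
    (h71 : (coreE6 K).xGL 71 (1 : K) ∈ Stab (p := p) (n := n) z) (j : Fin chevE6.rank) :
    ∃ f ∈ Stab (p := p) (n := n) z, f ∈ (coreE6 K).Ucl (htSet (coreE6 K) 1) ∧
      (coreE6 K).coord (htSet (coreE6 K) 1) (chevE6.simple j.val) f ≠ 0 := by
  set C := coreE6 K
  have hlev := levelHt C (k := 1) le_rfl
  have hs : ∀ j : Fin chevE6.rank, chevE6.simple j.val ∈ htSet C 1 ∧
      chevE6.simple j.val ∉ htSet C (1 + 1) := fun j => by
    refine ⟨⟨C.R.simple_pos j, C.R.one_le_height_of_pos (C.R.simple_pos j)⟩, fun h => ?_⟩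
    have := h.2
    rw [C.R.α_simple] at this
    simp [heightHom_apply] at this
  have long : ∀ (j : Fin chevE6.rank) (r : Fin chevE6.nroots), chevE6.simple j.val = r.val →
      rhoE6 r = r → ∃ f ∈ Stab (p := p) (n := n) z, f ∈ C.Ucl (htSet C 1) ∧
        C.coord (htSet C 1) (chevE6.simple j.val) f ≠ 0 := by
    intro j r hjr hρ
    obtain ⟨e, he0, he⟩ := long_in_stab hn hq h71 chevE6.nroots r (by omega) hρ
    refine ⟨C.xGL r e, he, C.xGL_mem_Ucl (hjr ▸ (hs j).1) _, ?_⟩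
    rw [hjr, C.coord_xGL_self hlev (hjr ▸ (hs j).1) (hjr ▸ (hs j).2)]
    exact he0
  obtain ⟨d, hd, hdS, h43, h40⟩ := mid_elem hn hq h71
  obtain ⟨hpos, w243, w240, w043, w540⟩ := mid_move
  have hmid : ∀ {k : ℕ}, k = 43 ∨ k = 40 → k ∈ listSet midRoots ∧ k ∉ listSet [44] := by
    rintro k (rfl | rfl) <;> simp [listSet, midRoots]
  have move : ∀ (g : GL chevE6.Idx K) (w : Equiv.Perm (Fin chevE6.nroots)) (k : ℕ)
      (hk : k < chevE6.nroots) (j : Fin chevE6.rank), g ∈ Mq K p n → C.Moves g w →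
      (k = 43 ∨ k = 40) → C.coord (listSet midRoots) k d ≠ 0 →
      (∀ s : Fin chevE6.nroots, s.val ∈ midRoots → chevE6.IsPosRoot (w s).val) →
      (w ⟨k, hk⟩).val = chevE6.simple j.val →
      ∃ f ∈ Stab (p := p) (n := n) z, f ∈ C.Ucl (htSet C 1) ∧
        C.coord (htSet C 1) (chevE6.simple j.val) f ≠ 0 := by
    intro g w k hk j hg hmv hkk hne hw hwk
    obtain ⟨h1, h2⟩ := coord_conj_ne C hmv level_mid hlev (a := ⟨k, hk⟩)
      (b := ⟨chevE6.simple j.val, C.R.simple_lt j⟩) (hmid hkk).1 (hmid hkk).2 (hs j).1 (hs j).2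
      (Fin.ext hwk) (fun s hs' => ⟨hw s hs', C.R.one_le_height_of_pos (hw s hs')⟩) hdS hne
    exact ⟨_, stab_conj hd hg, h1, h2⟩
  have m2 := nO_mem (K := K) hn hq 2
  have m3 := mul_mem (mul_mem (nO_mem (K := K) hn hq 1) (nO_mem (K := K) hn hq 0)) m2
  have v3 := ChevCore.Moves.mul C (ChevCore.Moves.mul C (nO_moves (K := K) 1) (nO_moves (K := K) 0))
    (nO_moves (K := K) 2)
  fin_cases j
  · exact move _ _ 43 (by decide) _ m3 v3 (Or.inl rfl) h43 (fun s hs => (hpos s hs).2) w043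
  · exact long _ (rt 46) long_simples.1 long_simples.2.2.1
  · exact move _ _ 43 (by decide) _ m2 (nO_moves 2) (Or.inl rfl) h43 (fun s hs => (hpos s hs).1) w243
  · exact long _ (rt 39) long_simples.2.1 long_simples.2.2.2.1
  · exact move _ _ 40 (by decide) _ m2 (nO_moves 2) (Or.inr rfl) h40 (fun s hs => (hpos s hs).1) w240
  · exact move _ _ 40 (by decide) _ m3 v3 (Or.inr rfl) h40 (fun s hs => (hpos s hs).2) w540

theorem stab_trivial {z : GL chevE6.Idx K} (hz : z ∈ Gq K p n)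
    (h71 : (coreE6 K).xGL 71 (1 : K) ∈ Stab (p := p) (n := n) z) : z = 1 := by
  set C := coreE6 K
  have hzgrp : z ∈ chevE6.group K := (le_fixedE6 K hn hz).1
  choose f hf hfU hfc using simple_elems hn hq h71
  have hfpos : ∀ j, f j ∈ chevE6.posUnipotent K := fun j => by
    rw [posUnipotent_eq_htSet C]; exact hfU j
  have hzB : z ∈ chevE6.borelSubgroup K :=
    mem_borel_of_commute C hzgrp fun j => ⟨f j, hfpos j, hfc j, (stab_comm (hf j)).symm⟩
  set w0 := (wE 0 * wE 1 * wE 2 * wE 3) ^ 6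
  set n0 := (nO K 0 * nO K 1 * nO K 2 * nO K 3) ^ 6 with hn0def
  have hn0M : n0 ∈ Mq K p n := pow_mem (mul_mem (mul_mem (mul_mem (nO_mem hn hq 0) (nO_mem hn hq 1))
    (nO_mem hn hq 2)) (nO_mem hn hq 3)) 6
  have hn0N : n0 ∈ chevE6.monomialSubgroup K :=
    pow_mem (mul_mem (mul_mem (mul_mem (SS_mono C _) (SS_mono C _)) (SS_mono C _)) (SS_mono C _)) 6
  have hn0w : C.Moves n0 w0 := by
    have h1 : C.Moves (nO K 0 * nO K 1 * nO K 2 * nO K 3) (wE 0 * wE 1 * wE 2 * wE 3) :=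
      ChevCore.Moves.mul C (ChevCore.Moves.mul C (ChevCore.Moves.mul C (nO_moves 0) (nO_moves 1))
        (nO_moves 2)) (nO_moves 3)
    have key : ∀ m : ℕ, C.Moves ((nO K 0 * nO K 1 * nO K 2 * nO K 3) ^ m)
        ((wE 0 * wE 1 * wE 2 * wE 3) ^ m) := by
      intro m
      induction m with
      | zero => simpa using ChevCore.Acts.moves C C.acts_one
      | succ m ih => rw [pow_succ, pow_succ]; exact ChevCore.Moves.mul C ih h1
    exact key 6
  have hz'B : n0 * z * n0⁻¹ ∈ chevE6.borelSubgroup K := by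
    refine mem_borel_of_commute C (mul_mem (mul_mem (C.monomial_le_group hn0N) hzgrp)
      (inv_mem (C.monomial_le_group hn0N))) fun j => ⟨f j, hfpos j, hfc j, ?_⟩
    have h := hf j n0⁻¹ (inv_mem hn0M)
    rw [inv_inv] at h
    calc n0 * z * n0⁻¹ * f j = n0 * (z * (n0⁻¹ * f j * n0)) * n0⁻¹ := by group
      _ = n0 * (n0⁻¹ * f j * n0 * z) * n0⁻¹ := by rw [h]
      _ = f j * (n0 * z * n0⁻¹) := by group
  obtain ⟨u, hu, c, rfl⟩ := C.mem_borel.1 hzB
  have hd : n0 * C.R.torus c * n0⁻¹ ∈ chevE6.borelSubgroup K :=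
    le_sup_right (a := chevE6.posUnipotent K)
      (C.conj_diagonal_mem hn0N (by rw [C.diagonalSubgroup_eq]; exact ⟨c, rfl⟩))
  have huV : n0 * u * n0⁻¹ ∈ chevE6.negUnipotent K :=
    C.conj_Ucl_le hn0w (S := {r | chevE6.IsPosRoot r}) (T := chevE6.negUnipotent K)
      (fun s hs t => C.xGL_mem_negUnipotent (long_tab s hs) t) u (C.posUnipotent_eq ▸ hu)
  have huB : n0 * u * n0⁻¹ ∈ chevE6.borelSubgroup K := by
    rw [show n0 * u * n0⁻¹ = n0 * (u * C.R.torus c) * n0⁻¹ * (n0 * C.R.torus c * n0⁻¹)⁻¹ by group]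
    exact mul_mem hz'B (inv_mem hd)
  have hu1 : u = 1 := conj_eq_one_iff.1 ((Subgroup.eq_bot_iff_forall _).1 C.borel_inf_negUnipotent _
    (Subgroup.mem_inf.2 ⟨huB, huV⟩))
  subst hu1
  rw [one_mul] at hz hf ⊢
  refine torus_eq_one_of_leads (gensE6 K hn hq) e6Lead
    (fun i => (e6_orbit_tables.1 i (e6Lead i) List.mem_cons_self).1) hz fun i => ?_
  set j := e6Lead i
  have hlev := levelHt C (k := 1) le_rfl
  have hs : chevE6.simple j.val ∈ htSet C 1 :=
    ⟨C.R.simple_pos j, C.R.one_le_height_of_pos (C.R.simple_pos j)⟩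
  have hs' : chevE6.simple j.val ∉ htSet C (1 + 1) := fun h => by
    have := h.2
    rw [C.R.α_simple] at this
    simp [heightHom_apply] at this
  have h := coord_torus hlev hs hs' c (hfU j)
  rw [← stab_comm (hf j), mul_inv_cancel_right] at h
  exact Units.ext ((mul_eq_right₀ (hfc j)).1 h.symm)

theorem exists_conj_notMem {H : Subgroup (GL chevE6.Idx K)} (hMH : Mq K p n ≤ H) (hHG : H ≤ Gq K p n)
    {g : GL chevE6.Idx K} (hg : g ∈ H) (hgM : g ∉ Mq K p n) :
    ∃ h ∈ H, h * (coreE6 K).xGL 71 1 * h⁻¹ ∉ Mq K p n := by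
  by_contra hcon
  push Not at hcon
  have hgG := hHG hg
  have hz : g⁻¹ * tau K p n g ∈ Gq K p n := mul_mem (inv_mem hgG) (tau_mem hn hq hgG)
  have h71 : (coreE6 K).xGL 71 (1 : K) ∈ Stab (p := p) (n := n) (g⁻¹ * tau K p n g) := by
    intro m hm
    set l := m * (coreE6 K).xGL 71 (1 : K) * m⁻¹ with hl
    have hlM : l ∈ Mq K p n := mul_mem (mul_mem hm (single_mem hn hq (a := rt 71) highest_tab.2.2.1
      highest_tab.1 (one_pow _))) (inv_mem hm)
    have h := (mem_Mq.1 (hcon (g * m) (mul_mem hg (hMH hm)))).2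
    rw [show g * m * (coreE6 K).xGL 71 1 * (g * m)⁻¹ = g * l * g⁻¹ by rw [hl]; group, map_mul,
      map_mul, map_inv, (mem_Mq.1 hlM).2, mul_inv_eq_iff_eq_mul] at h
    calc l * (g⁻¹ * tau K p n g) = g⁻¹ * (g * l * g⁻¹ * tau K p n g) := by group
      _ = g⁻¹ * (tau K p n g * l) := by rw [h]
      _ = g⁻¹ * tau K p n g * l := by group
  exact hgM (mem_Mq.2 ⟨hgG, (inv_mul_eq_one.1 (stab_trivial hn hq hz h71)).symm⟩)

theorem Gq_le_of_lt {H : Subgroup (GL chevE6.Idx K)} (hMH : Mq K p n ≤ H) (hHG : H ≤ Gq K p n)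
    {g : GL chevE6.Idx K} (hg : g ∈ H) (hgM : g ∉ Mq K p n) : Gq K p n ≤ H := by
  by_contra hcon
  have hUM : ∀ x ∈ H, x ∈ chevE6.posUnipotent K → x ∈ Mq K p n := fun x hx hxU =>
    by_contra fun hxM => hcon (top_of_unip hn hq hMH hHG hx hxU hxM)
  obtain ⟨h, hh, hy⟩ := exists_conj_notMem hn hq hMH hHG hg hgM
  obtain ⟨b, hb, m, hm, v, hv, -, rfl⟩ := (gensE6 K hn hq).twist.nf (hHG hh)
  change b ∈ chevE6.posUnipotent K ⊓ twistedE6 K (p ^ n) at hb
  change v ∈ chevE6.posUnipotent K ⊓ twistedE6 K (p ^ n) at hv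
  obtain ⟨w, hw, -⟩ := (coreE6 K).exists_moves hm.1
  have hvx : v * (coreE6 K).xGL 71 1 = (coreE6 K).xGL 71 1 * v := by
    refine commute_Ucl (S := {r | chevE6.IsPosRoot r}) (by decide) (fun r hr => ⟨hr.1, ?_⟩) 1
      ((coreE6 K).posUnipotent_eq ▸ hv.1)
    by_cases e : r = 71
    · exact Or.inl e
    · refine Or.inr ⟨fun h => ?_, ?_⟩
      · rw [h] at hr
        exact (coreE6 K).R.not_pos_and_neg highest_tab.1
          (((coreE6 K).R.isPos_neg_iff highest_tab.1.1).1 hr)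
      · by_contra hne
        obtain ⟨c, hc⟩ := List.exists_mem_of_ne_nil _ hne
        obtain ⟨hk, hka, hkb, hab⟩ := (coreE6 K).R.commTerms_spec hc
        obtain ⟨h1, h2⟩ := combo_height (coreE6 K) highest_tab.1 hr (j := c.1) ⟨hk, _, _, hka, hkb, hab⟩
        have h3 := (high_tab ⟨c.1, hk⟩ h1).2.1
        change ht c.1 < 12 at h3
        have h4 : ht 71 = 11 := by decide +kernel
        have h5 := ht_pos hr
        change ht 71 + ht r ≤ ht c.1 at h2
        omega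
  obtain ⟨lam, hlam⟩ := hw.2 (rt 71) 1
  have hρ : rhoE6 (w (rt 71)) = w (rt 71) := by
    have hc := (frobE6 K p n).commute_of_fixed hm.1 hw ((gensE6 K hn hq).le_fixed hm.2).2
    have h := congrArg (fun σ : Equiv.Perm (Fin chevE6.nroots) => σ (rt 71)) hc.eq
    simp only [Equiv.Perm.mul_apply] at h
    change rhoE6 (w (rt 71)) = w (rhoE6 (rt 71)) at h
    rwa [highest_tab.2.2.1] at h
  have e : b * m * v * (coreE6 K).xGL 71 1 * (b * m * v)⁻¹ =
      b * (coreE6 K).xGL (w (rt 71)) lam * b⁻¹ := by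
    rw [← hlam]
    calc b * m * v * (coreE6 K).xGL 71 1 * (b * m * v)⁻¹ =
          b * m * (v * (coreE6 K).xGL 71 1) * v⁻¹ * m⁻¹ * b⁻¹ := by group
      _ = b * m * ((coreE6 K).xGL 71 1 * v) * v⁻¹ * m⁻¹ * b⁻¹ := by rw [hvx]
      _ = b * (m * (coreE6 K).xGL (rt 71 : Fin chevE6.nroots) 1 * m⁻¹) * b⁻¹ := by group; rfl
  refine hy ?_
  rw [e]
  refine desc hn hq hMH hHG hUM chevE6.nroots (w (rt 71)) (w (rt 71)).isLt.le hρ b hb.1 hb.2 lam ?_
  rw [← e]
  exact mul_mem (mul_mem hh (hMH (single_mem hn hq (a := rt 71) highest_tab.2.2.1 highest_tab.1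
    (one_pow _)))) (inv_mem hh)

theorem Mq_ne : Mq K p n ≠ Gq K p n := by
  intro e
  have hall : ∀ t : K, t ^ p ^ n = t := fun t => by
    have hx : (setupE6Aut K hn hq).x 0 t ∈ Mq K p n := by
      rw [e]
      exact (setupE6Aut K hn hq).x_G1 (pow_cardE6 K hn t)
    have h := (mem_Mq.1 hx).2
    rw [tau_sx hn hq] at h
    exact (setupE6Aut K hn hq).x_lead h
  have hR : Nat.card {z : K // z ^ p ^ n = z} = p ^ n := by
    refine card_pow_eq_self (F := K) hq ?_
    rw [hn]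
    simpa [sq] using Nat.sub_dvd_pow_sub_pow (p ^ n) 1 2
  rw [Nat.card_congr (Equiv.subtypeUnivEquiv hall), Nat.card_eq_fintype_card, hn] at hR
  have : p ^ n < p ^ n * p ^ n := lt_mul_of_one_lt_left (by omega) (by omega)
  omega

theorem maximal : Mq K p n ≠ Gq K p n ∧ ∀ H : Subgroup (GL chevE6.Idx K),
    Mq K p n ≤ H → H ≤ Gq K p n → H = Mq K p n ∨ H = Gq K p n := by
  refine ⟨Mq_ne hn hq, fun H hMH hHG => ?_⟩
  by_cases h : H ≤ Mq K p n
  · exact Or.inl (le_antisymm h hMH)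
  · obtain ⟨g, hg, hgM⟩ := SetLike.not_le_iff_exists.1 h
    exact Or.inr (le_antisymm hHG (Gq_le_of_lt hn hq hMH hHG hg hgM))

end CfsgLib.TwistAut.SubE6
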