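import Cfsg.Agent.Lib.TwistAut.OutCount
import Cfsg.Agent.Lib.TwistedStr.TorusE6
import Cfsg.Agent.Lib.ChevAut.Tables
import Cfsg.Agent.Lib.AutPSL.FieldGalois

/-! The outer automorphism group of ²E₆. -/

set_option autoImplicit false

namespace CfsgLib.TwistAut

open Cfsg.Lie CfsgLib.ChevStr CfsgLib.Twisted
open scoped MatrixGroups

/-- The first node of each orbit. -/
def e6Lead : Fin 4 → Fin chevE6.rank
  | 0 => nodeE6 0
  | 1 => nodeE6 2
  | 2 => nodeE6 3
  | 3 => nodeE6 1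

/-- The other nodes of each orbit. -/
def e6Rest : Fin 4 → List (Fin chevE6.rank)
  | 0 => [nodeE6 5]
  | 1 => [nodeE6 4]
  | 2 => []
  | 3 => []

/-- The orbit of a node. -/
def e6Orb (j : Fin chevE6.rank) : Fin 4 := [0, 3, 1, 2, 1, 0].getD j.val 0

/-- A word for the longest element. -/
def e6Long : List (Fin chevE6.rank) :=
  (List.replicate 6 [nodeE6 0, nodeE6 5, nodeE6 2, nodeE6 4, nodeE6 3, nodeE6 1]).flatten

theorem e6_orbit_tables : (∀ i, ∀ j ∈ e6Lead i :: e6Rest i, j ∈ nodesE6 i ∧ e6Orb j = i) ∧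
    (∀ i, ∀ j ∈ e6Rest i, chevE6.cartan j.val (chevE6.simple (e6Lead i).val) = 0) ∧
    (∀ i, ∀ j ∈ nodesE6 i, chevE6.IsNegRoot
      (reflDataE6.wordPerm (e6Lead i :: e6Rest i) ⟨chevE6.simple j.val, rootDataE6.simple_lt j⟩)) := by
  decide +kernel

theorem e6_long_neg : ∀ j : Fin chevE6.rank, chevE6.IsNegRoot
    (reflDataE6.wordPerm e6Long ⟨chevE6.simple j.val, rootDataE6.simple_lt j⟩) := by decide +kernel

theorem e6_long_opp : ∀ i, ∀ r : Fin chevE6.nroots, chevE6.IsNegRoot r →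
    SuppIn rootDataE6 (nodesE6 i) r → chevE6.IsPosRoot (reflDataE6.wordPerm e6Long r) ∧
      SuppIn rootDataE6 (nodesE6 i) (reflDataE6.wordPerm e6Long r) := by decide +kernel

theorem e6_pairs : ∀ i, (e6Lead i :: e6Rest i).Pairwise
    fun a b => CommPair chevE6 (chevE6.simple a.val) (chevE6.simple b.val) := by
  obtain ⟨h0, h1⟩ := e6_commPairs
  intro i
  fin_cases i <;> simp [e6Lead, e6Rest, nodeE6, h0, h1]

theorem e6_links : chevE6.cartan 0 (chevE6.simple 2) = -1 ∧ chevE6.cartan 5 (chevE6.simple 2) = 0 ∧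
    chevE6.cartan 3 (chevE6.simple 2) = -1 ∧ chevE6.cartan 1 (chevE6.simple 3) = -1 := by
  decide +kernel

theorem e6_orbit_comm : ∀ a b : Fin 4, (a, b) ∈ [(0, 2), (0, 3), (1, 3)] →
    ∀ r, reflDataE6.wordPerm (e6Lead a :: e6Rest a) (reflDataE6.wordPerm (e6Lead b :: e6Rest b) r) =
      reflDataE6.wordPerm (e6Lead b :: e6Rest b) (reflDataE6.wordPerm (e6Lead a :: e6Rest a) r) := by
  decide +kernel

theorem e6_orbit_not_comm : ∃ r,
    reflDataE6.wordPerm (e6Lead 1 :: e6Rest 1) (reflDataE6.wordPerm (e6Lead 2 :: e6Rest 2) r) ≠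
      reflDataE6.wordPerm (e6Lead 2 :: e6Rest 2) (reflDataE6.wordPerm (e6Lead 1 :: e6Rest 1) r) := by
  decide +kernel

variable (K : Type*) [Field K] [Fintype K] {p n : ℕ} [Fact p.Prime] [CharP K p]
  (hn : Fintype.card K = (p ^ n) * (p ^ n)) (hq : 2 ≤ p ^ n)

include hn in
theorem pow_cardE6 (t : K) : t ^ p ^ (2 * n) = t := by
  rw [two_mul, pow_add, ← hn, FiniteField.pow_card]

include hn hq

/-- The orbit data of ²E₆. -/
def setupE6Aut : Setup (gensE6 K hn hq) p where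
  lead := e6Lead
  rest := e6Rest
  e j := if j.val = 4 ∨ j.val = 5 then n else 0
  m i := if i.val ≤ 1 then 2 * n else n
  orb := e6Orb
  e_lead i := by fin_cases i <;> rfl
  mem_J i j hj := (e6_orbit_tables.1 i j hj).1
  orb_eq i j hj := (e6_orbit_tables.1 i j hj).2
  comm := e6_pairs
  orth := e6_orbit_tables.2.1
  wneg := e6_orbit_tables.2.2
  mem i t ht := by
    obtain ⟨s0, s1, s2, s3, s4, s5, m0, m1, m2, m3, m4, m5⟩ := e6_simples
    have gen : ∀ a b : ℕ, (a, b) ∈ [(e6p1, e6p6), (e6m1, e6m6), (e6p3, e6p5), (e6m3, e6m5)] →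
        ∀ t : K, (coreE6 K).xGL a t * (coreE6 K).xGL b (t ^ p ^ n) ∈ twistedE6 K (p ^ n) :=
      fun a b hab t => by
        have h := (coreE6 K).wordGL_mem_gen (W := e6Words K (p ^ n)) (Or.inr ⟨t, (a, b), hab, rfl⟩)
        simp only [ChevCore.wordGL_cons, ChevCore.wordGL_nil, mul_one] at h
        exact h
    have gen1 : ∀ a : ℕ, a ∈ [e6p2, e6m2, e6p4, e6m4] → ∀ t : K, t ^ p ^ n = t →
        (coreE6 K).xGL a t ∈ twistedE6 K (p ^ n) := fun a ha t ht => by
      have h := (coreE6 K).wordGL_mem_gen (W := e6Words K (p ^ n)) (Or.inl ⟨t, ht, a, ha, rfl⟩)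
      simp only [ChevCore.wordGL_cons, ChevCore.wordGL_nil, mul_one] at h
      exact h
    fin_cases i <;> simp [X, Xc, Xn, oprod, e6Lead, e6Rest, nodeE6, s0, s1, s2, s3, s4, s5, m0, m1,
      m2, m3, m4, m5] at ht ⊢
    · exact ⟨gen _ _ (by simp) t, gen _ _ (by simp) t⟩
    · exact ⟨gen _ _ (by simp) t, gen _ _ (by simp) t⟩
    · exact ⟨gen1 _ (by simp) t ht, gen1 _ (by simp) t ht⟩
    · exact ⟨gen1 _ (by simp) t ht, gen1 _ (by simp) t ht⟩
  gen_le K' hK' := by
    obtain ⟨s0, s1, s2, s3, s4, s5, m0, m1, m2, m3, m4, m5⟩ := e6_simples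
    refine (Subgroup.closure_le _).2 ?_
    rintro x ⟨w, hw, hx⟩
    obtain rfl : x = (coreE6 K).wordGL w := Units.ext (hx.trans ((coreE6 K).coe_wordGL w).symm)
    rcases hw with ⟨t, ht, r, hr, rfl⟩ | ⟨t, rs, hrs, rfl⟩
    · simp only [List.mem_cons, List.not_mem_nil, or_false] at hr
      have h2 := hK' 2 t (by simpa using ht)
      have h3 := hK' 3 t (by simpa using ht)
      simp [X, Xc, Xn, oprod, e6Lead, e6Rest, nodeE6, s1, s3, m1, m3] at h2 h3
      rcases hr with rfl | rfl | rfl | rfl <;>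
        simp only [ChevCore.wordGL_cons, ChevCore.wordGL_nil, mul_one, SetLike.mem_coe]
      exacts [h3.1, h3.2, h2.1, h2.2]
    · simp only [List.mem_cons, List.not_mem_nil, or_false] at hrs
      have h0 := hK' 0 t (by simpa using pow_cardE6 K hn t)
      have h1 := hK' 1 t (by simpa using pow_cardE6 K hn t)
      simp [X, Xc, Xn, oprod, e6Lead, e6Rest, nodeE6, s0, s2, s4, s5, m0, m2, m4, m5] at h0 h1
      rcases hrs with rfl | rfl | rfl | rfl <;>
        simp only [ChevCore.wordGL_cons, ChevCore.wordGL_nil, mul_one, SetLike.mem_coe]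
      exacts [h0.1, h0.2, h1.1, h1.2]
  card_in i := by
    have hcl : ∀ i, (coreE6 K).R.IsClosed (listSet (rootsE6 i)) :=
      fun i => inE6 K i ▸ inRoots_closed _ _
    have hall : Nat.card {t : K // t ^ p ^ (2 * n) = t} = Fintype.card K := by
      rw [Nat.card_congr (Equiv.subtypeUnivEquiv (pow_cardE6 K hn)), Nat.card_eq_fintype_card]
    have hfix : Nat.card {t : K // t ^ p ^ n = t} = p ^ n := by
      refine card_pow_eq_self (F := K) hq ?_
      rw [hn]
      simpa [sq] using Nat.sub_dvd_pow_sub_pow (p ^ n) 1 2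
    show Nat.card ↥((frobE6 K p n).fixU (inRoots (coreE6 K).R (nodesE6 i))) = _
    rw [inE6]
    fin_cases i
    · exact (pairE6 K hn (a := e6p1) (b := e6p6) (by decide) (by simp) (by decide)
        (levelE6_pair 0) (hcl 0)).2.trans hall.symm
    · exact (pairE6 K hn (a := e6p3) (b := e6p5) (by decide) (by simp) (by decide)
        (levelE6_pair 1) (hcl 1)).2.trans hall.symm
    · exact (singleE6 K hn hq (a := e6p4) (by decide) (by decide) (by decide) (by simp)
        levelE6_single.1 (hcl 2)).2.trans hfix.symm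
    · exact (singleE6 K hn hq (a := e6p2) (by decide) (by decide) (by decide) (by simp)
        levelE6_single.2 (hcl 3)).2.trans hfix.symm
  opp := opp_of_word e6Long e6_long_neg e6_long_opp

theorem perm_fixE6 (ψ : ↥(twistedE6 K (p ^ n)) ≃* ↥(twistedE6 K (p ^ n))) (hψ : Normal ψ)
    (P : Perm (gensE6 K hn hq) ψ) : ∀ i, P.π i = i := by
  set S := setupE6Aut K hn hq
  have hc : ∀ i : Fin 4, Nat.card ↥((frobE6 K p n).fixU (inRoots (coreE6 K).R (nodesE6 i))) =
      if i.val ≤ 1 then p ^ n * p ^ n else p ^ n := fun i => by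
    have h := S.card_in i
    change Nat.card ↥((frobE6 K p n).fixU (inRoots (coreE6 K).R (nodesE6 i))) =
      Nat.card {t : K // t ^ p ^ (if i.val ≤ 1 then 2 * n else n) = t} at h
    rw [h]
    split_ifs
    · rw [Nat.card_congr (Equiv.subtypeUnivEquiv (pow_cardE6 K hn)), Nat.card_eq_fintype_card, hn]
    · refine card_pow_eq_self (F := K) hq ?_
      rw [hn]
      simpa [sq] using Nat.sub_dvd_pow_sub_pow (p ^ n) 1 2
  have hlt : p ^ n < p ^ n * p ^ n := lt_mul_of_one_lt_left (by omega) (by omega)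
  have hcls : ∀ i, ((P.π i).val ≤ 1 ↔ i.val ≤ 1) := fun i => by
    have h := Perm.card_eq _ P i
    change Nat.card ↥((frobE6 K p n).fixU (inRoots (coreE6 K).R (nodesE6 (P.π i)))) =
      Nat.card ↥((frobE6 K p n).fixU (inRoots (coreE6 K).R (nodesE6 i))) at h
    rw [hc, hc] at h
    split_ifs at h with h1 h2 h2 <;> omega
  have hcomm : ∀ a b : Fin 4, (a, b) ∈ [(0, 2), (0, 3), (1, 3)] →
      ¬(P.π a = 1 ∧ P.π b = 2) := by
    rintro a b hab ⟨ea, eb⟩
    have h1 : Commute ((gensE6 K hn hq).wJ a) ((gensE6 K hn hq).wJ b) := by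
      rw [S.wJ_eq a, S.wJ_eq b]
      exact Equiv.ext (e6_orbit_comm a b hab)
    have h2 := P.commute_transport (gensE6 K hn hq) hψ (fun e => by subst e; simp at hab; omega) h1
    rw [ea, eb, S.wJ_eq 1, S.wJ_eq 2] at h2
    obtain ⟨r, hr⟩ := e6_orbit_not_comm
    exact hr (Equiv.congr_fun h2.eq r)
  have key : ∀ π : Fin 4 → Fin 4, Function.Injective π → (∀ i, ((π i).val ≤ 1 ↔ i.val ≤ 1)) →
      (∀ a b : Fin 4, (a, b) ∈ [(0, 2), (0, 3), (1, 3)] → ¬(π a = 1 ∧ π b = 2)) → ∀ i, π i = i := by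
    unfold Function.Injective
    decide +kernel
  exact key P.π P.π.injective hcls hcomm

theorem linkE6 (ψ : ↥(twistedE6 K (p ^ n)) ≃* ↥(twistedE6 K (p ^ n)))
    (A : Std (setupE6Aut K hn hq) ψ) :
    ∀ i, ∀ t ∈ (setupE6Aut K hn hq).Fld i, A.σfun i t = A.σfun (0 : Fin 4) t := by
  obtain ⟨c02, c52, c32, c13⟩ := e6_links
  have hall : ∀ t : K, t ∈ (setupE6Aut K hn hq).Fld 0 := fun t => by
    show t ^ p ^ (2 * n) = t
    exact pow_cardE6 K hn t
  have hchi : ∀ (c : Kˣ), (setupE6Aut K hn hq).chi 0 1 c = c⁻¹ ∧ (setupE6Aut K hn hq).chi 2 1 c = c⁻¹ ∧ (setupE6Aut K hn hq).chi 3 2 c = c⁻¹ := fun c => by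
    have k2 : chevE6.simple 2 < chevE6.nroots := rootDataE6.simple_lt (nodeE6 2)
    have k3 : chevE6.simple 3 < chevE6.nroots := rootDataE6.simple_lt (nodeE6 3)
    refine ⟨?_, ?_, ?_⟩ <;>
      simp [setupE6Aut, Setup.chi, Setup.L, Setup.E, par, e6Lead, e6Rest, nodeE6,
        RootData.torusChar_mul, RootData.torusChar_single, k2, k3, c02, c52, c32, c13]
  have l1 : ∀ t, A.σfun (1 : Fin 4) t = A.σfun (0 : Fin 4) t :=
    fun t => A.link (fun c _ => (hchi c).1) (hall t)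
  have l2 : ∀ t ∈ (setupE6Aut K hn hq).Fld 2, A.σfun (2 : Fin 4) t = A.σfun (0 : Fin 4) t := fun t ht =>
    (A.link (fun c _ => (hchi c).2.1) ht).symm.trans (l1 t)
  intro i t ht
  fin_cases i
  · rfl
  · exact l1 t
  · exact l2 t ht
  · exact (A.link (k := (2 : Fin 4)) (fun c _ => (hchi c).2.2) ht).symm.trans (l2 t ht)

theorem card_out_twistedE6 :
    Nat.card (Cfsg.Out ↥(twistedE6 K (p ^ n))) = 2 * Nat.gcd 3 (p ^ n + 1) * n := by
  set S := setupE6Aut K hn hq
  have htab := KnownSimple.chainTableOK_chevE6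
  have h := S.card_out (n := n) htab (perm_fixE6 K hn hq)
    (by rw [Nat.card_eq_fintype_card, hn, sq]) (0 : Fin 4)
    (fun t => show t ^ p ^ (2 * n) = t from pow_cardE6 K hn t) (linkE6 K hn hq)
  have hK : Fintype.card K = p ^ (2 * n) := by rw [two_mul, pow_add, hn]
  rw [FieldGalois.card_ringAut hK, S.card_coeffs, Fin.prod_univ_four] at h
  have hfix : Nat.card {t : K // t ^ p ^ n = t} = p ^ n := by
    refine card_pow_eq_self (F := K) hq ?_
    rw [hn]
    simpa [sq] using Nat.sub_dvd_pow_sub_pow (p ^ n) 1 2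
  have hall : Nat.card {t : K // t ^ p ^ (2 * n) = t} = p ^ n * p ^ n := by
    rw [Nat.card_congr (Equiv.subtypeUnivEquiv (pow_cardE6 K hn)), Nat.card_eq_fintype_card, hn]
  change Nat.card (Cfsg.Out ↥(twistedE6 K (p ^ n))) * _ =
    (Nat.card {t : K // t ^ p ^ (2 * n) = t} - 1) * (Nat.card {t : K // t ^ p ^ (2 * n) = t} - 1) *
      (Nat.card {t : K // t ^ p ^ n = t} - 1) * (Nat.card {t : K // t ^ p ^ n = t} - 1) * (2 * n) at h
  rw [hall, hfix] at h
  refine Nat.eq_of_mul_eq_mul_right (Nat.card_pos (α := ↥(tor (twistedE6 K (p ^ n))))) ?_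
  rw [h, show 2 * Nat.gcd 3 (p ^ n + 1) * n * Nat.card ↥(tor (twistedE6 K (p ^ n))) =
    2 * n * (Nat.gcd 3 (p ^ n + 1) * Nat.card ↥(tor (twistedE6 K (p ^ n)))) by ring]
  rw [show Nat.gcd 3 (p ^ n + 1) * Nat.card ↥(tor (twistedE6 K (p ^ n))) = _ from card_H1E6 K hn hq]
  ring

end CfsgLib.TwistAut
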